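import Cfsg.Prelude.Def_Local
import Cfsg.Agent.Lib.Components.GenFitting
import Cfsg.Agent.Lib.Solvable.CoprimeAction
import Cfsg.Agent.Lib.PLocal.HallHigman
import Cfsg.Agent.Lib.PGroup.Basic
import Mathlib.Tactic.Group

/-!
The action of `p'`-cores of `p`-local centralizers on components, when `O_{p'}(H) = 1`.
-/

set_option autoImplicit false
set_option linter.style.haveILetI false

namespace CfsgLib.Balance

open Subgroup CfsgLib.Components
open scoped commutatorElement

variable {H : Type*} [Group H] {p : ℕ}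

/-- `O_{p'}(K)` as a subgroup of the ambient group. -/
def coreP (p : ℕ) (K : Subgroup H) : Subgroup H := (Cfsg.pPrimeCore p ↥K).map K.subtype

theorem coreP_le (p : ℕ) (K : Subgroup H) : coreP p K ≤ K := map_subtype_le _

theorem coreP_coprime [Finite H] (p : ℕ) (K : Subgroup H) : (Nat.card ↥(coreP p K)).Coprime p := by
  rw [coreP, card_map_of_injective K.subtype_injective]
  exact coprime_card_pPrimeCore p

theorem le_coreP {K N : Subgroup H} (hNK : N ≤ K) (hn : K ≤ normalizer (N : Set H))
    (hc : (Nat.card N).Coprime p) : N ≤ coreP p K := by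
  rw [← map_subgroupOf_eq_of_le hNK]
  refine map_mono (le_pPrimeCore_of_normal ((normal_subgroupOf_iff_le_normalizer hNK).2 hn) ?_)
  rwa [Nat.card_congr (subgroupOfEquivOfLe hNK).toEquiv]

theorem normalizer_le_normalizer_coreP [Finite H] (p : ℕ) (K : Subgroup H) :
    normalizer (K : Set H) ≤ normalizer (coreP p K : Set H) := by
  rw [le_normalizer_iff]
  intro g hg c hc
  have hK : ∀ k ∈ K, g * k * g⁻¹ ∈ K := fun k hk => (mem_normalizer_iff.1 hg k).1 hk
  have hK' : ∀ k ∈ K, g⁻¹ * k * g ∈ K := fun k hk => by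
    simpa using (mem_normalizer_iff.1 (inv_mem hg) k).1 hk
  refine le_coreP (N := (coreP p K).map (MulAut.conj g).toMonoidHom) ?_ ?_ ?_ ⟨c, hc, rfl⟩
  · rintro _ ⟨x, hx, rfl⟩
    exact hK x (coreP_le p K hx)
  · rw [le_normalizer_iff]
    rintro k hk _ ⟨x, hx, rfl⟩
    have hn : K ≤ normalizer (coreP p K : Set H) :=
      (normal_subgroupOf_iff_le_normalizer (coreP_le p K)).1 (by
        rw [coreP, subgroupOf, comap_map_eq_self_of_injective K.subtype_injective]; infer_instance)
    refine ⟨(g⁻¹ * k * g) * x * (g⁻¹ * k * g)⁻¹, le_normalizer_iff.1 hn _ (hK' k hk) x hx, ?_⟩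
    simp [mul_assoc]
  · rw [card_map_conj]
    exact coreP_coprime p K

theorem le_normalizer_coreP [Finite H] (p : ℕ) (K : Subgroup H) : K ≤ normalizer (coreP p K : Set H) :=
  le_normalizer.trans (normalizer_le_normalizer_coreP p K)

theorem map_conj_conj (L : Subgroup H) (a b : H) :
    (L.map (MulAut.conj b).toMonoidHom).map (MulAut.conj a).toMonoidHom =
      L.map (MulAut.conj (a * b)).toMonoidHom := by
  rw [Subgroup.map_map]
  congr 1
  ext x
  simp [mul_assoc]

theorem map_conj_one (L : Subgroup H) : L.map (MulAut.conj (1 : H)).toMonoidHom = L := by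
  ext x; simp

theorem fitting_le_pCore [Finite H] [hp : Fact p.Prime] (hO : Cfsg.pPrimeCore p H = ⊥) :
    Cfsg.fittingSubgroup H ≤ Cfsg.pCore p H := by
  refine fitting_le_of_pCore_le fun q hq => ?_
  rcases eq_or_ne q p with rfl | hne
  · exact le_rfl
  haveI : Fact q.Prime := ⟨hq⟩
  obtain ⟨n, hn⟩ := (isPGroup_pCore (G := H) q).exists_card_eq
  have : Cfsg.pCore q H ≤ Cfsg.pPrimeCore p H :=
    le_pPrimeCore_of_normal inferInstance
      (hn ▸ Nat.Coprime.pow_left n ((Nat.coprime_primes hq hp.out).2 hne))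
  rw [hO] at this
  exact this.trans bot_le

theorem eq_bot_of_subnormal_coprime [Finite H] (hO : Cfsg.pPrimeCore p H = ⊥) {S : Subgroup H}
    (hS : S.IsSubnormal) (hc : (Nat.card S).Coprime p) : S = ⊥ :=
  le_bot_iff.1 ((le_pPrimeCore_of_isSubnormal hS hc).trans hO.le)

theorem pPrimeCore_subnormal_eq_bot [Finite H] (hO : Cfsg.pPrimeCore p H = ⊥) {S : Subgroup H}
    (hS : S.IsSubnormal) : Cfsg.pPrimeCore p ↥S = ⊥ := by
  have h : coreP p S = ⊥ :=
    eq_bot_of_subnormal_coprime hO
      (Subgroup.IsSubnormal.trans' (Cfsg.pPrimeCore_normal p ↥S).isSubnormal hS) (coreP_coprime p S)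
  exact (map_eq_bot_iff_of_injective _ S.subtype_injective).1 h

theorem center_le_pCore [Finite H] [Fact p.Prime] (hO : Cfsg.pPrimeCore p H = ⊥) {M : Subgroup H}
    (hM : M.IsSubnormal) : M ⊓ centralizer (M : Set H) ≤ Cfsg.pCore p H := by
  refine le_trans (le_fitting_of_isSubnormal ?_ ?_) (fitting_le_pCore hO)
  · refine isSubnormal_of_le_normalizer inf_le_left ?_ hM
    rw [le_normalizer_iff]
    intro m hm z hz
    rw [mem_centralizer_iff.1 hz.2 m hm, mul_inv_cancel_right]
    exact hz
  · refine isNilpotent_of_commutator_commutator ?_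
    have : ⁅M ⊓ centralizer (M : Set H), M ⊓ centralizer (M : Set H)⁆ = ⊥ :=
      commutator_eq_bot_iff_le_centralizer.2 (inf_le_right.trans (centralizer_le inf_le_left))
    rw [this, commutator_bot_left]

/-- A nontrivial perfect subnormal subgroup contains a noncentral `p`-element centralized by a given
`p`-group modulo `O_p(H)`. -/
theorem exists_modCentral [Finite H] [hp : Fact p.Prime] (hO : Cfsg.pPrimeCore p H = ⊥) {M : Subgroup H}
    (hM : M.IsSubnormal) (hperf : ⁅M, M⁆ = M) (hne : M ≠ ⊥) {R : Subgroup H} (hR : IsPGroup p R)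
    (hRM : R ≤ normalizer (M : Set H)) :
    ∃ w ∈ M, w ∉ centralizer (M : Set H) ∧ IsPGroup p ↥(zpowers w) ∧
      ∀ r ∈ R, ⁅w, r⁆ ∈ Cfsg.pCore p H := by
  classical
  obtain ⟨u, huM, huC, hup⟩ : ∃ u ∈ M, u ∉ centralizer (M : Set H) ∧ IsPGroup p ↥(zpowers u) := by
    by_contra hcon
    push Not at hcon
    obtain ⟨P⟩ : Nonempty (Sylow p ↥M) := inferInstance
    have hPc : (P : Subgroup ↥M) ≤ center ↥M := by
      intro u hu
      rw [mem_center_iff]
      intro m
      by_contra hmu
      refine hcon u u.2 (fun h => hmu (Subtype.ext (mem_centralizer_iff.1 h m m.2))) ?_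
      refine (P.isPGroup'.map M.subtype).to_le ?_
      rw [zpowers_le]
      exact ⟨u, hu, rfl⟩
    have hPtop := CfsgLib.PLoc.eq_of_central_coprime_index (p := p) P.isPGroup' hPc
      ((hp.out.coprime_iff_not_dvd.2 P.not_dvd_index).symm) (pPrimeCore_subnormal_eq_bot hO hM)
    apply hne
    rw [← hperf, commutator_eq_bot_iff_le_centralizer]
    intro x hx y hy
    have hxc : (⟨x, hx⟩ : ↥M) ∈ center ↥M := hPc (hPtop ▸ mem_top _)
    exact congrArg Subtype.val (mem_center_iff.1 hxc ⟨y, hy⟩)
  obtain ⟨P₀, hP₀⟩ := (hR.comap_of_injective (M ⊔ R).subtype (Subgroup.subtype_injective _)).exists_le_sylow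
  obtain ⟨Q, hQ⟩ := (hup.comap_of_injective (M ⊔ R).subtype (Subgroup.subtype_injective _)).exists_le_sylow
  obtain ⟨j, hj⟩ := MulAction.exists_smul_eq ↥(M ⊔ R) Q P₀
  set Q0 : Subgroup H := (P₀ : Subgroup ↥(M ⊔ R)).map (M ⊔ R).subtype with hQ0
  have hQ0p : IsPGroup p ↥Q0 := P₀.isPGroup'.map _
  have hJn : M ⊔ R ≤ normalizer (M : Set H) := sup_le le_normalizer hRM
  have hQ0n : Q0 ≤ normalizer (M : Set H) := (map_subtype_le _).trans hJn
  have hRQ0 : R ≤ Q0 := by
    intro r hr
    exact ⟨⟨r, mem_sup_right hr⟩, hP₀ hr, rfl⟩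
  have hu' : (j : H) * u * (j : H)⁻¹ ∈ Q0 := by
    refine ⟨j * ⟨u, mem_sup_left huM⟩ * j⁻¹, ?_, rfl⟩
    rw [← hj, Sylow.smul_def]
    exact ⟨_, hQ (mem_zpowers u), rfl⟩
  have hu'M : (j : H) * u * (j : H)⁻¹ ∈ M := (mem_normalizer_iff.1 (hJn j.2) u).1 huM
  have hu'C : (j : H) * u * (j : H)⁻¹ ∉ centralizer (M : Set H) := by
    intro h
    apply huC
    rw [mem_centralizer_iff]
    intro m hm
    have h2 := mem_centralizer_iff.1 h _ ((mem_normalizer_iff.1 (hJn j.2) m).1 hm)
    calc m * u = (j : H)⁻¹ * ((j : H) * m * (j : H)⁻¹ * ((j : H) * u * (j : H)⁻¹)) * j := by group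
      _ = u * m := by rw [h2]; group
  have hQ0Z : Q0 ≤ normalizer ((M ⊓ centralizer (M : Set H) : Subgroup H) : Set H) := by
    rw [le_normalizer_iff]
    intro g hg z hz
    refine ⟨(mem_normalizer_iff.1 (hQ0n hg) z).1 hz.1, ?_⟩
    show g * z * g⁻¹ ∈ centralizer (M : Set H)
    rw [mem_centralizer_iff]
    intro m hm
    have hm' : g⁻¹ * m * g ∈ M := by
      simpa using (mem_normalizer_iff.1 (inv_mem (hQ0n hg)) m).1 hm
    calc m * (g * z * g⁻¹) = g * ((g⁻¹ * m * g) * z) * g⁻¹ := by group
      _ = g * z * g⁻¹ * m := by rw [mem_centralizer_iff.1 hz.2 _ hm']; group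
  haveI : ((M ⊓ centralizer (M : Set H)).subgroupOf Q0).Normal := normal_subgroupOf_of_le_normalizer hQ0Z
  haveI : (M.subgroupOf Q0).Normal := normal_subgroupOf_of_le_normalizer hQ0n
  have hlt : (M ⊓ centralizer (M : Set H)).subgroupOf Q0 < M.subgroupOf Q0 :=
    lt_of_le_of_ne (comap_mono inf_le_left) fun heq => hu'C
      ((heq.ge (show (⟨_, hu'⟩ : ↥Q0) ∈ M.subgroupOf Q0 from hu'M)).2)
  obtain ⟨x, hxM, hxA, -, hxc⟩ := CfsgLib.PGroup.exists_step hQ0p _ _ hlt
  refine ⟨x, hxM, fun h => hxA ⟨hxM, h⟩, hQ0p.to_le (zpowers_le.2 x.2), fun r hr => ?_⟩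
  exact center_le_pCore hO hM (hxc ⟨r, hRQ0 hr⟩)

theorem mem_normalizer_of_modCentral {R : Subgroup H} {w : H}
    (hw : ∀ r ∈ R, ⁅w, r⁆ ∈ Cfsg.pCore p H) :
    w ∈ normalizer ((centralizer (R : Set H) ⊓ centralizer (Cfsg.pCore p H : Set H) : Subgroup H) : Set H) := by
  have hinv : ∀ r ∈ R, ⁅w⁻¹, r⁆ ∈ Cfsg.pCore p H := by
    intro r hr
    have h : ⁅w⁻¹, r⁆ = w⁻¹ * ⁅w, r⁆⁻¹ * w⁻¹⁻¹ := by simp only [commutatorElement_def]; group
    rw [h]
    exact (Cfsg.pCore_normal p H).conj_mem _ (inv_mem (hw r hr)) w⁻¹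
  have key : ∀ v : H, (∀ r ∈ R, ⁅v⁻¹, r⁆ ∈ Cfsg.pCore p H) →
      ∀ c ∈ centralizer (R : Set H) ⊓ centralizer (Cfsg.pCore p H : Set H),
        v * c * v⁻¹ ∈ centralizer (R : Set H) ⊓ centralizer (Cfsg.pCore p H : Set H) := by
    intro v hv c hc
    refine ⟨?_, (normal_centralizer (H := Cfsg.pCore p H)).conj_mem c hc.2 v⟩
    show v * c * v⁻¹ ∈ centralizer (R : Set H)
    rw [mem_centralizer_iff]
    intro r hr
    have h1 : c * (⁅v⁻¹, r⁆ * r) = ⁅v⁻¹, r⁆ * r * c := by
      rw [← mul_assoc, ← mem_centralizer_iff.1 hc.2 _ (hv r hr), mul_assoc, ← mem_centralizer_iff.1 hc.1 r hr,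
        mul_assoc]
    have h2 : ⁅v⁻¹, r⁆ * r = v⁻¹ * r * v := by rw [commutatorElement_def]; group
    rw [h2] at h1
    calc r * (v * c * v⁻¹) = v * ((v⁻¹ * r * v) * c) * v⁻¹ := by group
      _ = v * c * v⁻¹ * r := by rw [← h1]; group
  rw [mem_normalizer_iff]
  refine fun c => ⟨key w hinv c, fun hc => ?_⟩
  have := key w⁻¹ (by rwa [inv_inv]) _ hc
  simpa [mul_assoc] using this

/-- With `O_{p'}(H) = 1`, the group `O_{p'}(C(R) ∩ C(O_p(H)))` of a `p`-subgroup `R` fixes every component. -/
theorem coreP_le_normalizer_component [Finite H] [hp : Fact p.Prime] (hO : Cfsg.pPrimeCore p H = ⊥)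
    {R : Subgroup H} (hR : IsPGroup p R) {L : Subgroup H} (hL : Cfsg.IsComponent L) :
    coreP p (centralizer (R : Set H) ⊓ centralizer (Cfsg.pCore p H : Set H)) ≤ normalizer (L : Set H) := by
  set C0 := centralizer (R : Set H) ⊓ centralizer (Cfsg.pCore p H : Set H) with hC0
  intro d hd
  set M : Subgroup H := ⨆ r : R, L.map (MulAut.conj (r : H)).toMonoidHom with hMdef
  have hcomp : ∀ r : H, Cfsg.IsComponent (L.map (MulAut.conj r).toMonoidHom) := component_map_conj hL
  have hLM : L ≤ M := le_iSup_of_le (1 : R) (by rw [OneMemClass.coe_one, map_conj_one])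
  have hMlayer : M ≤ Cfsg.layer H := iSup_le fun r => component_le_layer (hcomp r)
  have hMsub : M.IsSubnormal := by
    refine isSubnormal_of_le_normalizer hMlayer ?_ (Normal.isSubnormal inferInstance)
    rw [le_normalizer_iff]
    intro e he k hk
    have h : M.map (MulAut.conj e).toMonoidHom ≤ M := by
      rw [hMdef, Subgroup.map_iSup]
      exact iSup_mono fun r =>
        (map_conj_eq_of_mem_normalizer (layer_le_normalizer_component (hcomp r) he)).le
    exact h ⟨k, hk, rfl⟩
  have hperf : ⁅M, M⁆ = M := by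
    refine le_antisymm (commutator_le_self M) (iSup_le fun r => ?_)
    conv_lhs => rw [← component_commutator_self (hcomp r)]
    exact commutator_mono (le_iSup (fun r : R => L.map (MulAut.conj (r : H)).toMonoidHom) r)
      (le_iSup (fun r : R => L.map (MulAut.conj (r : H)).toMonoidHom) r)
  have hne : M ≠ ⊥ := fun h => component_ne_bot hL (le_bot_iff.1 (h ▸ hLM))
  have hRM : R ≤ normalizer (M : Set H) := by
    rw [le_normalizer_iff]
    intro g hg k hk
    have h : M.map (MulAut.conj g).toMonoidHom ≤ M := by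
      rw [hMdef, Subgroup.map_iSup]
      refine iSup_le fun r => ?_
      rw [map_conj_conj]
      exact le_iSup_of_le (⟨g * r, mul_mem hg r.2⟩ : R) le_rfl
    exact h ⟨k, hk, rfl⟩
  obtain ⟨w, hwM, hwC, hwp, hwR⟩ := exists_modCentral hO hMsub hperf hne hR hRM
  have hwD : w ∈ normalizer (coreP p C0 : Set H) :=
    normalizer_le_normalizer_coreP p C0 (mem_normalizer_of_modCentral hwR)
  have hdC : ∀ r ∈ R, r * d = d * r := mem_centralizer_iff.1 (coreP_le p C0 hd).1
  obtain ⟨r₀, hr₀, heq⟩ : ∃ r ∈ R, L.map (MulAut.conj d).toMonoidHom = L.map (MulAut.conj r).toMonoidHom := by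
    by_contra hcon
    push Not at hcon
    have hcomm : M.map (MulAut.conj d).toMonoidHom ≤ centralizer (M : Set H) := by
      rw [hMdef, Subgroup.map_iSup]
      refine iSup_le fun r => ?_
      rw [le_centralizer_iff]
      refine iSup_le fun s => le_centralizer_of_commutator_eq_bot (component_commutator_of_ne (hcomp s) ?_ ?_)
      · rw [map_conj_conj]; exact hcomp _
      · rw [map_conj_conj]
        intro h
        refine hcon ((r : H)⁻¹ * s) (mul_mem (inv_mem r.2) s.2) ?_
        have h' := congrArg (Subgroup.map (MulAut.conj (r : H)⁻¹).toMonoidHom) h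
        rw [map_conj_conj, map_conj_conj] at h'
        rw [show (r : H)⁻¹ * (d * (r : H)) = d by rw [← hdC r r.2]; group] at h'
        exact h'.symm
    have hw' : d * w * d⁻¹ ∈ M.map (MulAut.conj d).toMonoidHom := ⟨w, hwM, rfl⟩
    have hc : Commute (d * w * d⁻¹) w⁻¹ :=
      Commute.inv_right (show d * w * d⁻¹ * w = w * (d * w * d⁻¹) from
        (mem_centralizer_iff.1 (hcomm hw') w hwM).symm)
    have he : d * w * d⁻¹ * w⁻¹ ∈ coreP p C0 := by
      have := mul_mem hd ((mem_normalizer_iff.1 hwD _).1 (inv_mem hd))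
      simpa [mul_assoc] using this
    obtain ⟨a, ha⟩ := hwp ⟨w, mem_zpowers w⟩
    have ha' : w ^ p ^ a = 1 := congrArg Subtype.val ha
    have hpow : (d * w * d⁻¹ * w⁻¹) ^ p ^ a = 1 := by
      rw [hc.mul_pow, conj_pow, inv_pow, ha']; simp
    have h1 : orderOf (d * w * d⁻¹ * w⁻¹) = 1 :=
      Nat.eq_one_of_dvd_coprimes (Nat.Coprime.pow_right a (coreP_coprime p C0))
        (Subgroup.orderOf_dvd_natCard _ he) (orderOf_dvd_of_pow_eq_one hpow)
    have h2 : d * w * d⁻¹ = w := mul_inv_eq_one.1 (orderOf_eq_one_iff.1 h1)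
    rw [h2] at hw'
    exact hwC (hcomm hw')
  have hg : r₀⁻¹ * d ∈ normalizer (L : Set H) := by
    rw [mem_normalizer_iff_map_conj_eq]
    show L.map (MulAut.conj (r₀⁻¹ * d)).toMonoidHom = L
    rw [← map_conj_conj, heq, map_conj_conj, inv_mul_cancel, map_conj_one]
  obtain ⟨a, ha⟩ := hR ⟨r₀, hr₀⟩
  have ha' : r₀ ^ p ^ a = 1 := congrArg Subtype.val ha
  have hdk : d ^ p ^ a ∈ normalizer (L : Set H) := by
    have := pow_mem hg (p ^ a)
    rwa [(Commute.inv_left (hdC r₀ hr₀ : Commute r₀ d)).mul_pow, inv_pow, ha', inv_one, one_mul] at this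
  obtain ⟨m, hm⟩ := exists_pow_eq_self_of_coprime (x := d) (n := p ^ a)
    ((Nat.Coprime.pow_right a (Nat.Coprime.coprime_dvd_left (Subgroup.orderOf_dvd_natCard _ hd)
      (coreP_coprime p C0))).symm)
  rw [← hm]
  exact pow_mem hdk m

/-- If an element `b` of order `p` moves or centralizes the component `L`, then
`O_{p'}(C(b) ∩ C(O_p(H)))` centralizes `L`. -/
theorem coreP_le_centralizer_component [Finite H] [hp : Fact p.Prime] (hO : Cfsg.pPrimeCore p H = ⊥)
    {b : H} (hb : orderOf b = p) {L : Subgroup H} (hL : Cfsg.IsComponent L)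
    (hcase : b ∉ normalizer (L : Set H) ∨ b ∈ centralizer (L : Set H)) :
    coreP p (centralizer (zpowers b : Set H) ⊓ centralizer (Cfsg.pCore p H : Set H)) ≤
      centralizer (L : Set H) := by
  set C0 := centralizer (zpowers b : Set H) ⊓ centralizer (Cfsg.pCore p H : Set H) with hC0
  have hbR : IsPGroup p ↥(zpowers b) := IsPGroup.of_card (n := 1) (by rw [Nat.card_zpowers, hb, pow_one])
  have hDL := coreP_le_normalizer_component hO hbR hL
  rw [← hC0] at hDL
  have hlayer : ∀ K : Subgroup H, Cfsg.IsComponent K → K ≤ centralizer (Cfsg.pCore p H : Set H) :=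
    fun K hK => (component_le_layer hK).trans (layer_le_centralizer_pCore p)
  rcases hcase with hmove | hcent
  swap
  · have hLC0 : L ≤ C0 := by
      refine le_inf ?_ (hlayer L hL)
      rw [le_centralizer_iff, zpowers_le]
      exact hcent
    refine le_centralizer_of_commutator_eq_bot (le_bot_iff.1 ?_)
    have hI : L ⊓ coreP p C0 = ⊥ := by
      refine eq_bot_of_subnormal_coprime hO ?_ ((coreP_coprime p C0).coprime_dvd_left
        (card_dvd_of_le inf_le_right))
      refine isSubnormal_of_le_normalizer inf_le_left ?_ hL.1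
      rw [le_normalizer_iff]
      intro l hl k hk
      exact ⟨L.mul_mem (L.mul_mem hl hk.1) (L.inv_mem hl),
        le_normalizer_iff.1 (hLC0.trans (le_normalizer_coreP p C0)) l hl k hk.2⟩
    rw [← hI]
    refine le_inf ?_ (CfsgLib.Solvable.commutator_le_of_normalizes (hLC0.trans (le_normalizer_coreP p C0)))
    rw [commutator_comm]
    exact CfsgLib.Solvable.commutator_le_of_normalizes hDL
  · -- `b` moves `L`: the diagonal homomorphism
    let c : ℕ → H → H := fun i l => b ^ i * l * (b ^ i)⁻¹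
    let f : ℕ → H → H := fun n => Nat.rec (fun _ => 1) (fun i fi l => fi l * c i l) n
    have hf0 : ∀ l, f 0 l = 1 := fun l => rfl
    have hfs : ∀ n l, f (n + 1) l = f n l * c n l := fun n l => rfl
    let Lc : ℕ → Subgroup H := fun i => L.map (MulAut.conj (b ^ i)).toMonoidHom
    have hLc : ∀ i, Cfsg.IsComponent (Lc i) := fun i => component_map_conj hL _
    have hcmem : ∀ i l, l ∈ L → c i l ∈ Lc i := fun i l hl => ⟨l, hl, rfl⟩
    have hbp : b ^ p = 1 := by rw [← hb, pow_orderOf_eq_one]
    have hinj : ∀ i j, i < j → j < p → Lc i ≠ Lc j := by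
      intro i j hij hj heq
      apply hmove
      have h' := congrArg (Subgroup.map (MulAut.conj (b ^ i)⁻¹).toMonoidHom) heq
      rw [map_conj_conj, map_conj_conj, inv_mul_cancel, map_conj_one,
        show (b ^ i)⁻¹ * b ^ j = b ^ (j - i) by rw [inv_mul_eq_iff_eq_mul, ← pow_add]; congr 1; omega] at h'
      have hk : b ^ (j - i) ∈ normalizer (L : Set H) := mem_normalizer_iff_map_conj_eq.2 h'.symm
      obtain ⟨m, hm⟩ := exists_pow_eq_self_of_coprime (x := b) (n := j - i)
        (by rw [hb]; exact (hp.out.coprime_iff_not_dvd.2 (Nat.not_dvd_of_pos_of_lt (by omega) (by omega))).symm)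
      rw [← hm]; exact pow_mem hk m
    have hS : ∀ n, n ≤ p → ∀ l ∈ L, ∀ j, n ≤ j → j < p → f n l ∈ centralizer (Lc j : Set H) := by
      intro n
      induction n with
      | zero => intro _ l _ j _ _; rw [hf0]; exact one_mem _
      | succ n ih =>
        intro hn l hl j hj hjp
        rw [hfs]
        refine mul_mem (ih (by omega) l hl j (by omega) hjp) ?_
        exact le_centralizer_of_commutator_eq_bot
          (component_commutator_of_ne (hLc n) (hLc j) (hinj n j (by omega) hjp)) (hcmem n l hl)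
    have hmul : ∀ n, n ≤ p → ∀ l ∈ L, ∀ m ∈ L, f n (l * m) = f n l * f n m := by
      intro n
      induction n with
      | zero => intro _ l _ m _; simp [hf0]
      | succ n ih =>
        intro hn l hl m hm
        have hcm : c n (l * m) = c n l * c n m := by simp [c, mul_assoc]
        rw [hfs, hfs, hfs, ih (by omega) l hl m hm, hcm]
        have := mem_centralizer_iff.1 (hS n (by omega) m hm n le_rfl (by omega)) _ (hcmem n l hl)
        calc f n l * f n m * (c n l * c n m) = f n l * (f n m * c n l) * c n m := by group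
          _ = f n l * c n l * (f n m * c n m) := by rw [← this]; group
    have hshift : ∀ n l, l * (b * f n l * b⁻¹) = f (n + 1) l := by
      intro n l
      induction n with
      | zero => simp [hfs, hf0, c]
      | succ n ih =>
        calc l * (b * f (n + 1) l * b⁻¹) = l * (b * f n l * b⁻¹) * (b * c n l * b⁻¹) := by rw [hfs n]; group
          _ = f (n + 1) l * c (n + 1) l := by rw [ih]; simp [c, pow_succ', mul_assoc]
          _ = f (n + 1 + 1) l := (hfs (n + 1) l).symm
    have hconjmem : ∀ n, n < p → ∀ l ∈ L, b * f n l * b⁻¹ ∈ centralizer (L : Set H) := by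
      intro n
      induction n with
      | zero => intro _ l _; simp [hf0]
      | succ n ih =>
        intro hn l hl
        have : b * f (n + 1) l * b⁻¹ = b * f n l * b⁻¹ * c (n + 1) l := by
          rw [hfs]; simp [c, pow_succ', mul_assoc]
        rw [this]
        refine mul_mem (ih (by omega) l hl) ?_
        have h0 : Lc 0 = L := by
          show L.map (MulAut.conj (b ^ 0)).toMonoidHom = L
          rw [pow_zero, map_conj_one]
        have := le_centralizer_of_commutator_eq_bot
          (component_commutator_of_ne (hLc (n + 1)) (hLc 0) (hinj 0 (n + 1) (by omega) hn).symm) (hcmem (n + 1) l hl)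
        rwa [h0] at this
    have hp1 : p - 1 + 1 = p := Nat.sub_add_cancel hp.out.one_lt.le
    have hfp : ∀ l ∈ L, f p l = l * (b * f (p - 1) l * b⁻¹) := fun l _ => by rw [hshift, hp1]
    have hfix : ∀ l ∈ L, b * f p l * b⁻¹ = f p l := by
      intro l hl
      have h1 : l * (b * f p l * b⁻¹) = f p l * l := by
        rw [hshift, hfs]; simp [c, hbp]
      have h2 : f p l * l = l * f p l := by
        rw [hfp l hl, mul_assoc, ← mem_centralizer_iff.1 (hconjmem (p - 1) (Nat.sub_lt hp.out.pos one_pos) l hl) l hl]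
      rw [h2] at h1
      exact mul_left_cancel h1
    let δ : ↥L →* H := MonoidHom.mk' (fun l => f p l) fun l m => hmul p le_rfl l l.2 m m.2
    have hker : ∀ l : ↥L, δ l = 1 → l ∈ center ↥L := by
      intro l h
      have h1 : (l : H) = (b * f (p - 1) l * b⁻¹)⁻¹ :=
        eq_inv_of_mul_eq_one_left ((hfp l l.2).symm.trans h)
      rw [mem_center_iff]
      intro m
      have h2 : (l : H) ∈ centralizer (L : Set H) := h1 ▸ inv_mem (hconjmem (p - 1) (Nat.sub_lt hp.out.pos one_pos) l l.2)
      exact Subtype.ext (mem_centralizer_iff.1 h2 m m.2)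
    have hflayer : ∀ n l, l ∈ L → f n l ∈ Cfsg.layer H := by
      intro n l hl
      induction n with
      | zero => rw [hf0]; exact one_mem _
      | succ n ih => rw [hfs]; exact mul_mem ih (component_le_layer (hLc n) (hcmem n l hl))
    have hJC0 : δ.range ≤ C0 := by
      rintro _ ⟨l, rfl⟩
      refine ⟨?_, layer_le_centralizer_pCore p (hflayer p l l.2)⟩
      have : δ.range ≤ centralizer (zpowers b : Set H) := by
        rw [le_centralizer_iff, zpowers_le, mem_centralizer_iff]
        rintro _ ⟨m, rfl⟩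
        have h := hfix m m.2
        calc f p m * b = b * f p m * b⁻¹ * b := by rw [h]
          _ = b * f p m := by group
      exact this ⟨l, rfl⟩
    intro d hd
    have hdb : d * b = b * d := (mem_centralizer_iff.1 (coreP_le p C0 hd).1 b (mem_zpowers b)).symm
    have hdconj : ∀ l, f p (d * l * d⁻¹) = d * f p l * d⁻¹ := by
      intro l
      generalize p = n
      induction n with
      | zero => simp [hf0]
      | succ n ih =>
        have hbn : b ^ n * d = d * b ^ n := (Commute.pow_left (hdb.symm : Commute b d) n)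
        have hc' : c n (d * l * d⁻¹) = d * c n l * d⁻¹ := by
          show b ^ n * (d * l * d⁻¹) * (b ^ n)⁻¹ = d * (b ^ n * l * (b ^ n)⁻¹) * d⁻¹
          calc b ^ n * (d * l * d⁻¹) * (b ^ n)⁻¹ = (b ^ n * d) * l * (b ^ n * d)⁻¹ := by group
            _ = (d * b ^ n) * l * (d * b ^ n)⁻¹ := by rw [hbn]
            _ = d * (b ^ n * l * (b ^ n)⁻¹) * d⁻¹ := by group
        rw [hfs, hfs, ih, hc']; group
    -- the preimage of `coreP` in `L` is central
    have hI : ∀ l : ↥L, δ l ∈ coreP p C0 → δ l = 1 := by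
      intro l hl
      set I' : Subgroup ↥L := (coreP p C0).comap δ with hI'
      haveI hIn : I'.Normal := ⟨fun x hx g => by
        rw [hI', mem_comap, map_mul, map_mul, map_inv]
        exact le_normalizer_iff.1 (le_normalizer_coreP p C0) _ (hJC0 ⟨g, rfl⟩) _ hx⟩
      have hkI : (δ.ker.subgroupOf I') ≤ center ↥I' := fun x hx => by
        rw [mem_center_iff]
        exact fun y => Subtype.ext (mem_center_iff.1 (hker _ hx) y)
      have hkp : IsPGroup p ↥(δ.ker.subgroupOf I') := by
        refine IsPGroup.comap_of_injective ?_ _ I'.subtype_injective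
        have hle : δ.ker.map L.subtype ≤ Cfsg.pCore p H := by
          rintro _ ⟨x, hx, rfl⟩
          exact center_le_pCore hO hL.1 ⟨x.2, mem_centralizer_iff.2 fun m hm =>
            congrArg Subtype.val (mem_center_iff.1 (hker x hx) ⟨m, hm⟩)⟩
        exact ((isPGroup_pCore p).to_le hle).of_equiv (equivMapOfInjective _ _ L.subtype_injective).symm
      have hidx : (δ.ker.subgroupOf I').index.Coprime p := by
        have h : δ.ker.subgroupOf I' = (δ.comp I'.subtype).ker := by ext x; simp [mem_subgroupOf]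
        rw [h, index_ker]
        refine (coreP_coprime p C0).coprime_dvd_left (card_dvd_of_le ?_)
        rintro _ ⟨x, rfl⟩
        exact x.2
      have hO' : Cfsg.pPrimeCore p ↥I' = ⊥ := by
        have h1 : (I'.map L.subtype).IsSubnormal := Subgroup.IsSubnormal.trans' hIn.isSubnormal hL.1
        have h2 := pPrimeCore_map_equiv p (equivMapOfInjective I' L.subtype L.subtype_injective)
        rw [pPrimeCore_subnormal_eq_bot hO h1] at h2
        exact (map_eq_bot_iff_of_injective _ (MulEquiv.injective _)).1 h2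
      have htop := CfsgLib.PLoc.eq_of_central_coprime_index hkp hkI hidx hO'
      have : (⟨l, hl⟩ : ↥I') ∈ δ.ker.subgroupOf I' := by rw [htop]; exact mem_top _
      exact this
    have hc1 : ⁅⁅L, zpowers d⁆, L⁆ = ⊥ := by
      rw [commutator_eq_bot_iff_le_centralizer, commutator_le]
      intro l hl z hz
      have hzD : z ∈ coreP p C0 := zpowers_le.2 hd hz
      have hzl : z * l⁻¹ * z⁻¹ ∈ L := (mem_normalizer_iff.1 (hDL hzD) _).1 (inv_mem hl)
      have hkey : ∀ d' ∈ zpowers d, ∀ m : H, f p (d' * m * d'⁻¹) = d' * f p m * d'⁻¹ := by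
        intro d' hd' m
        obtain ⟨i, rfl⟩ := (mem_powers_iff_mem_zpowers (x := d)).2 hd'
        induction i with
        | zero => simp
        | succ i ih =>
          simp only [pow_succ', mul_inv_rev] at *
          rw [show d * d ^ i * m * ((d ^ i)⁻¹ * d⁻¹) = d * (d ^ i * m * (d ^ i)⁻¹) * d⁻¹ by group, hdconj,
            ih (pow_mem (mem_zpowers d) i)]
          group
      set x : ↥L := ⟨⁅l, z⁆, by
        rw [commutatorElement_def, show l * z * l⁻¹ * z⁻¹ = l * (z * l⁻¹ * z⁻¹) by group]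
        exact mul_mem hl hzl⟩
      have hx : δ x = ⁅f p l, z⁆ := by
        show f p ⁅l, z⁆ = _
        rw [commutatorElement_def, show l * z * l⁻¹ * z⁻¹ = l * (z * l⁻¹ * z⁻¹) by group,
          hmul p le_rfl l hl _ hzl, hkey z hz, commutatorElement_def]
        have : f p l⁻¹ = (f p l)⁻¹ := δ.map_inv ⟨l, hl⟩
        rw [this]; group
      have hmem : δ x ∈ coreP p C0 := by
        rw [hx, commutatorElement_def]
        exact mul_mem (le_normalizer_iff.1 (le_normalizer_coreP p C0) _ (hJC0 ⟨⟨l, hl⟩, rfl⟩) _ hzD) (inv_mem hzD)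
      have hxc := hker x (hI x hmem)
      rw [mem_centralizer_iff]
      exact fun m hm => congrArg Subtype.val (mem_center_iff.1 hxc ⟨m, hm⟩)
    have h3 := commutator_eq_bot_of_perfect (component_commutator_self hL) hc1
    rw [commutator_comm, commutator_eq_bot_iff_le_centralizer] at h3
    exact h3 (mem_zpowers d)

end CfsgLib.Balance
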