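import Cfsg.Prelude.Def_EvenTechniques
import Cfsg.Agent.Lib.Balance.Orbit

/-!
Local balance of components implies balance with respect to an elementary abelian subgroup.
-/

set_option autoImplicit false
set_option linter.style.haveILetI false

namespace CfsgLib.Balance

open Subgroup CfsgLib.Components
open scoped commutatorElement

universe u

section general

variable {H : Type u} [Group H] [Finite H] {p : ℕ}

theorem centralizer_zpowers (x : H) : centralizer (zpowers x : Set H) = centralizer ({x} : Set H) := by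
  ext c
  rw [mem_centralizer_singleton_iff, mem_centralizer_iff]
  constructor
  · exact fun h => (h x (mem_zpowers x)).symm
  · intro h y hy
    obtain ⟨i, rfl⟩ := hy
    exact ((Commute.zpow_right (show Commute c x from h) i).eq).symm

/-- `O_{p'}(C(R))` centralizes `O_p(H)` for a `p`-subgroup `R`. -/
theorem coreP_centralizer_le_centralizer_pCore [hp : Fact p.Prime] {R : Subgroup H} (hR : IsPGroup p R) :
    coreP p (centralizer (R : Set H)) ≤ centralizer (Cfsg.pCore p H : Set H) := by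
  refine CfsgLib.Solvable.thompson_pxq hR (coreP_coprime p _) (isPGroup_pCore p) ?_ ?_ ?_ ?_
  · rw [le_centralizer_iff]; exact coreP_le p _
  · rw [normalizer_eq_top]; exact le_top
  · rw [normalizer_eq_top]; exact le_top
  · rw [le_centralizer_iff]
    refine le_centralizer_of_commutator_eq_bot (le_bot_iff.1 ?_)
    have hd : Cfsg.pCore p H ⊓ centralizer (R : Set H) ⊓ coreP p (centralizer (R : Set H)) = ⊥ :=
      CfsgLib.PLoc.disjoint_of_pgroup_coprime ((isPGroup_pCore p).to_le inf_le_left) (coreP_coprime p _)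
    rw [← hd]
    refine le_inf ?_ ?_
    · rw [commutator_comm]
      refine CfsgLib.Solvable.commutator_le_of_normalizes ((coreP_le p _).trans ?_)
      rw [le_normalizer_iff]
      exact fun g hg x hx => ⟨(Cfsg.pCore_normal p H).conj_mem x hx.1 g,
        (centralizer (R : Set H)).mul_mem ((centralizer (R : Set H)).mul_mem hg hx.2) (inv_mem hg)⟩
    · exact CfsgLib.Solvable.commutator_le_of_normalizes (inf_le_right.trans (le_normalizer_coreP p _))

theorem coreP_centralizer_le_coreP_inf [hp : Fact p.Prime] {R : Subgroup H} (hR : IsPGroup p R) :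
    coreP p (centralizer (R : Set H)) ≤
      coreP p (centralizer (R : Set H) ⊓ centralizer (Cfsg.pCore p H : Set H)) :=
  le_coreP (le_inf (coreP_le p _) (coreP_centralizer_le_centralizer_pCore hR))
    (inf_le_left.trans (le_normalizer_coreP p _)) (coreP_coprime p _)

/-- A `p'`-subgroup centralizing `O_p(H)` and every component is trivial when `O_{p'}(H) = 1`. -/
theorem eq_bot_of_centralizes [hp : Fact p.Prime] (hO : Cfsg.pPrimeCore p H = ⊥) {D : Subgroup H}
    (hD : (Nat.card D).Coprime p) (hDO : D ≤ centralizer (Cfsg.pCore p H : Set H))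
    (hDL : ∀ L : Subgroup H, Cfsg.IsComponent L → D ≤ centralizer (L : Set H)) : D = ⊥ := by
  have h1 : D ≤ centralizer (Cfsg.generalizedFittingSubgroup H : Set H) := by
    rw [le_centralizer_iff]
    refine sup_le (sSup_le fun L hL => ?_) ?_
    · rw [le_centralizer_iff]; exact hDL L hL
    · refine (fitting_le_pCore hO).trans ?_
      rw [le_centralizer_iff]; exact hDO
  have h2 : D ≤ Cfsg.pCore p H :=
    (le_inf (h1.trans centralizer_genFitting_le) h1).trans (center_le_pCore hO (Normal.isSubnormal inferInstance))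
  refine le_bot_iff.1 ?_
  rw [← CfsgLib.PLoc.disjoint_of_pgroup_coprime (isPGroup_pCore (G := H) p) hD]
  exact le_inf h2 le_rfl

/-- `D ≤ O_{p'}(C(b))` for `b` of order `p` centralizes every component moved or centralized by `b`,
and normalizes every component. -/
theorem component_facts [hp : Fact p.Prime] (hO : Cfsg.pPrimeCore p H = ⊥) {b : H} (hb : orderOf b = p)
    {D : Subgroup H} (hD : D ≤ coreP p (centralizer ({b} : Set H))) {L : Subgroup H} (hL : Cfsg.IsComponent L) :
    D ≤ centralizer (Cfsg.pCore p H : Set H) ∧ D ≤ normalizer (L : Set H) ∧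
      ((b ∉ normalizer (L : Set H) ∨ b ∈ centralizer (L : Set H)) → D ≤ centralizer (L : Set H)) := by
  have hR : IsPGroup p ↥(zpowers b) := IsPGroup.of_card (n := 1) (by rw [Nat.card_zpowers, hb, pow_one])
  rw [← centralizer_zpowers] at hD
  refine ⟨hD.trans (coreP_centralizer_le_centralizer_pCore hR),
    (hD.trans (coreP_centralizer_le_coreP_inf hR)).trans (coreP_le_normalizer_component hO hR hL),
    fun h => (hD.trans (coreP_centralizer_le_coreP_inf hR)).trans (coreP_le_centralizer_component hO hb hL h)⟩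

theorem normalizerMonoidHom_eq_one_iff {L : Subgroup H} (g : ↥(normalizer (L : Set H))) :
    L.normalizerMonoidHom g = 1 ↔ (g : H) ∈ centralizer (L : Set H) := by
  rw [← MonoidHom.mem_ker, normalizerMonoidHom_ker, mem_subgroupOf]

/-- The group of automorphisms of `L` induced by `L`, `A` and `D`. -/
def inducedAut (L A D : Subgroup H) : Subgroup (MulAut ↥L) :=
  ((L ⊔ (A ⊔ D)).subgroupOf (normalizer (L : Set H))).map L.normalizerMonoidHom

theorem inn_le_inducedAut (L A D : Subgroup H) :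
    (MulAut.conj : ↥L →* MulAut ↥L).range ≤ inducedAut L A D := by
  rintro _ ⟨l, rfl⟩
  exact ⟨⟨l, le_normalizer l.2⟩, mem_sup_left l.2, MulEquiv.ext fun x => Subtype.ext rfl⟩

theorem mem_inducedAut {L A D : Subgroup H} (g : ↥(normalizer (L : Set H))) (hg : (g : H) ∈ L ⊔ (A ⊔ D)) :
    L.normalizerMonoidHom g ∈ inducedAut L A D :=
  ⟨g, hg, rfl⟩

/-- The image of `D` lies in `O_{p'}` of the centralizer of the image of `b` in the induced group. -/
theorem image_mem_centralizerPPrimeCore [hp : Fact p.Prime] (hO : Cfsg.pPrimeCore p H = ⊥)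
    {L : Subgroup H} (hL : Cfsg.IsComponent L) {A D : Subgroup H} (hAc : A ≤ centralizer (A : Set H))
    (hAL : A ≤ normalizer (L : Set H)) (hDL : D ≤ normalizer (L : Set H))
    (hAD : A ≤ normalizer (D : Set H)) (hDc : (Nat.card D).Coprime p)
    (hDO : D ≤ centralizer (Cfsg.pCore p H : Set H))
    {b : H} (hbA : b ∈ A) (hD : D ≤ coreP p (centralizer ({b} : Set H)))
    {d : ↥(normalizer (L : Set H))} (hd : (d : H) ∈ D) :
    (⟨L.normalizerMonoidHom d, mem_inducedAut d (mem_sup_right (mem_sup_right hd))⟩ : ↥(inducedAut L A D)) ∈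
      Cfsg.centralizerPPrimeCore p (⟨L.normalizerMonoidHom ⟨b, hAL hbA⟩,
        mem_inducedAut (A := A) (D := D) ⟨b, hAL hbA⟩ (mem_sup_right (mem_sup_left hbA))⟩ : ↥(inducedAut L A D)) := by
  set bb : ↥(inducedAut L A D) := ⟨L.normalizerMonoidHom ⟨b, hAL hbA⟩,
    mem_inducedAut (A := A) (D := D) ⟨b, hAL hbA⟩ (mem_sup_right (mem_sup_left hbA))⟩ with hbb
  set K := (L ⊔ D) ⊓ centralizer ({b} : Set H) with hK
  set Rb := coreP p K with hRb
  have hDb : D ≤ centralizer ({b} : Set H) := hD.trans (coreP_le p _)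
  have hDRb : D ≤ Rb := by
    refine le_trans (le_inf le_sup_right hD) (le_coreP (N := (L ⊔ D) ⊓ coreP p (centralizer ({b} : Set H))) ?_ ?_ ?_)
    · exact le_inf inf_le_left (inf_le_right.trans (coreP_le p _))
    · rw [le_normalizer_iff]
      exact fun g hg x hx => ⟨(L ⊔ D).mul_mem ((L ⊔ D).mul_mem hg.1 hx.1) (inv_mem hg.1),
        le_normalizer_iff.1 (le_normalizer_coreP p _) g hg.2 x hx.2⟩
    · exact (coreP_coprime p _).coprime_dvd_left (card_dvd_of_le inf_le_right)
  have hAb : A ⊔ D ≤ centralizer ({b} : Set H) := by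
    refine sup_le (fun a ha => ?_) hDb
    rw [mem_centralizer_singleton_iff]
    exact (mem_centralizer_iff.1 (hAc ha) b hbA).symm
  have hADn : A ⊔ D ≤ normalizer (L : Set H) := sup_le hAL hDL
  have hADLD : A ⊔ D ≤ normalizer ((L ⊔ D : Subgroup H) : Set H) := by
    refine sup_le (fun a ha => ?_) (le_sup_right.trans le_normalizer)
    rw [mem_normalizer_iff_map_conj_eq, Subgroup.map_sup]
    exact congrArg₂ (· ⊔ ·) (map_conj_eq_of_mem_normalizer (hAL ha)) (map_conj_eq_of_mem_normalizer (hAD ha))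
  have hKn : A ⊔ D ≤ normalizer (K : Set H) :=
    fun g hg => inf_normalizer_le_normalizer_inf ⟨hADLD hg, le_normalizer (hAb hg)⟩
  have hLK : ∀ x ∈ L, ∀ hx : x ∈ normalizer (L : Set H),
      Commute (L.normalizerMonoidHom ⟨x, hx⟩) (L.normalizerMonoidHom ⟨b, hAL hbA⟩) →
      ∀ c ∈ K, x * c * x⁻¹ ∈ K := by
    intro x hx hxN hcomm c hc
    refine ⟨(L ⊔ D).mul_mem ((L ⊔ D).mul_mem (mem_sup_left hx) hc.1) (inv_mem (mem_sup_left hx)), ?_⟩
    set z := x⁻¹ * b * x * b⁻¹ with hz
    have hzC : z ∈ centralizer (L : Set H) := by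
      have h1 : L.normalizerMonoidHom (⟨x, hxN⟩⁻¹ * ⟨b, hAL hbA⟩ * ⟨x, hxN⟩ * ⟨b, hAL hbA⟩⁻¹) = 1 := by
        rw [map_mul, map_mul, map_mul, map_inv, map_inv, mul_assoc ((L.normalizerMonoidHom ⟨x, hxN⟩)⁻¹),
          ← hcomm.eq]
        group
      exact (normalizerMonoidHom_eq_one_iff _).1 h1
    have hzL : z ∈ L := by
      rw [hz, show x⁻¹ * b * x * b⁻¹ = x⁻¹ * (b * x * b⁻¹) by group]
      exact mul_mem (inv_mem hx) ((mem_normalizer_iff.1 (hAL hbA) x).1 hx)
    have hzc : z * c = c * z := by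
      have hzp : z ∈ Cfsg.pCore p H := center_le_pCore hO hL.1 ⟨hzL, hzC⟩
      have hsup : L ⊔ D ≤ centralizer ({z} : Set H) := by
        refine sup_le (fun l hl => ?_) (fun e he => ?_)
        · rw [mem_centralizer_singleton_iff]; exact mem_centralizer_iff.1 hzC l hl
        · rw [mem_centralizer_singleton_iff]; exact (mem_centralizer_iff.1 (hDO he) z hzp).symm
      exact (mem_centralizer_singleton_iff.1 (hsup hc.1)).symm
    have hcb : c * b = b * c := mem_centralizer_singleton_iff.1 hc.2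
    show x * c * x⁻¹ ∈ centralizer ({b} : Set H)
    rw [mem_centralizer_singleton_iff]
    calc x * c * x⁻¹ * b = x * (c * (z * b)) * x⁻¹ := by rw [hz]; group
      _ = x * (z * b * c) * x⁻¹ := by
        rw [show c * (z * b) = z * b * c by rw [← mul_assoc, ← hzc, mul_assoc, hcb, ← mul_assoc]]
      _ = b * (x * c * x⁻¹) := by rw [hz]; group
  let N' : Subgroup ↥(centralizer ({bb} : Set ↥(inducedAut L A D))) :=
    ((Rb.subgroupOf (normalizer (L : Set H))).map L.normalizerMonoidHom).comap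
      ((inducedAut L A D).subtype.comp (centralizer ({bb} : Set ↥(inducedAut L A D))).subtype)
  have hRbn : Rb ≤ normalizer (L : Set H) :=
    (coreP_le p K).trans (inf_le_left.trans (sup_le le_normalizer hDL))
  have hN'n : N'.Normal := by
    refine ⟨fun n hn y => ?_⟩
    obtain ⟨⟨r, hrN⟩, hr, hre⟩ := hn
    obtain ⟨⟨m, hmN⟩, hm, hme⟩ := (y : ↥(inducedAut L A D)).2
    replace hr : r ∈ Rb := hr
    replace hm : m ∈ L ⊔ (A ⊔ D) := hm
    obtain ⟨x, hx, e, he, rfl⟩ := (CfsgLib.Solvable.mem_sup_of_le_normalizer hADn).1 hm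
    have hxe : (⟨x * e, hmN⟩ : ↥(normalizer (L : Set H))) = ⟨x, le_normalizer hx⟩ * ⟨e, hADn he⟩ := rfl
    have hym : Commute (L.normalizerMonoidHom ⟨x * e, hmN⟩) (L.normalizerMonoidHom ⟨b, hAL hbA⟩) := by
      have h := congrArg Subtype.val (mem_centralizer_singleton_iff.1 y.2)
      simp only [Subgroup.coe_mul, hbb] at h
      rw [← hme] at h
      exact h
    have hec : Commute (L.normalizerMonoidHom ⟨e, hADn he⟩) (L.normalizerMonoidHom ⟨b, hAL hbA⟩) :=
      Commute.map (Subtype.ext (mem_centralizer_singleton_iff.1 (hAb he))) _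
    have hxc : Commute (L.normalizerMonoidHom ⟨x, le_normalizer hx⟩) (L.normalizerMonoidHom ⟨b, hAL hbA⟩) := by
      rw [hxe, map_mul] at hym
      simpa using hym.mul_left hec.inv_left
    have hxK : x ∈ normalizer (K : Set H) := by
      rw [mem_normalizer_iff]
      refine fun c => ⟨hLK x hx _ hxc c, fun hc => ?_⟩
      have := hLK x⁻¹ (inv_mem hx) (inv_mem (le_normalizer hx)) (by
        have h2 : L.normalizerMonoidHom ⟨x⁻¹, inv_mem (le_normalizer hx)⟩ = (L.normalizerMonoidHom ⟨x, le_normalizer hx⟩)⁻¹ :=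
          map_inv L.normalizerMonoidHom ⟨x, le_normalizer hx⟩
        rw [h2]; exact hxc.inv_left) _ hc
      simpa [mul_assoc] using this
    have hmRb : x * e ∈ normalizer (Rb : Set H) :=
      normalizer_le_normalizer_coreP p K (mul_mem hxK (hKn he))
    refine ⟨⟨x * e, hmN⟩ * ⟨r, hrN⟩ * ⟨x * e, hmN⟩⁻¹, (mem_normalizer_iff.1 hmRb r).1 hr, ?_⟩
    rw [map_mul, map_mul, map_inv, hme, hre]
    rfl
  have hN'c : (Nat.card N').Coprime p := by
    refine (coreP_coprime p K).coprime_dvd_left ?_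
    refine dvd_trans (card_comap_dvd_of_injective _ _ ?_) ((card_map_dvd _ _).trans ?_)
    · exact Subtype.val_injective.comp Subtype.val_injective
    · exact card_comap_dvd_of_injective _ _ (Subgroup.subtype_injective _)
  have hle := le_pPrimeCore_of_normal hN'n hN'c
  refine ⟨⟨⟨L.normalizerMonoidHom d, mem_inducedAut d (mem_sup_right (mem_sup_right hd))⟩, ?_⟩, hle ⟨d, hDRb hd, rfl⟩, rfl⟩
  show _ ∈ centralizer ({bb} : Set ↥(inducedAut L A D))
  rw [mem_centralizer_singleton_iff, hbb]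
  apply Subtype.ext
  show L.normalizerMonoidHom d * L.normalizerMonoidHom ⟨b, hAL hbA⟩ =
    L.normalizerMonoidHom ⟨b, hAL hbA⟩ * L.normalizerMonoidHom d
  exact (Commute.map (show Commute d ⟨b, hAL hbA⟩ from Subtype.ext (mem_centralizer_singleton_iff.1 (hDb hd)))
    L.normalizerMonoidHom).eq

/-- Either `D` centralizes `L`, or `D` maps into `Δ(B')` for an elementary abelian `B'` of order `p^k`. -/
theorem centralizes_or_delta [hp : Fact p.Prime] (hO : Cfsg.pPrimeCore p H = ⊥) {k : ℕ}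
    {L : Subgroup H} (hL : Cfsg.IsComponent L) {A B D : Subgroup H} (hAc : A ≤ centralizer (A : Set H))
    (hAL : A ≤ normalizer (L : Set H)) (hBA : B ≤ A) (hAD : A ≤ normalizer (D : Set H))
    (hB : Cfsg.IsElementaryAbelian p B) (hBcard : Nat.card B = p ^ k) (hDc : (Nat.card D).Coprime p)
    (hDB : ∀ b ∈ B, b ≠ 1 → D ≤ coreP p (centralizer ({b} : Set H)))
    (hDN : D ≤ normalizer (L : Set H)) (hDO : D ≤ centralizer (Cfsg.pCore p H : Set H)) :
    D ≤ centralizer (L : Set H) ∨
      ∃ B' : Subgroup ↥(inducedAut L A D), Cfsg.IsElementaryAbelian p B' ∧ Nat.card B' = p ^ k ∧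
        (∀ a : ↥(normalizer (L : Set H)), ∀ ha : (a : H) ∈ A,
          (⟨L.normalizerMonoidHom a, mem_inducedAut a (mem_sup_right (mem_sup_left ha))⟩ : ↥(inducedAut L A D)) ∈
            centralizer (B' : Set ↥(inducedAut L A D))) ∧
        ∀ d : ↥(normalizer (L : Set H)), ∀ hd : (d : H) ∈ D,
          (⟨L.normalizerMonoidHom d, mem_inducedAut d (mem_sup_right (mem_sup_right hd))⟩ : ↥(inducedAut L A D)) ∈
            Cfsg.signalizerDelta p B' := by
  by_cases hfaith : ∃ b ∈ B, b ≠ 1 ∧ b ∈ centralizer (L : Set H)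
  · obtain ⟨b, hbB, hb1, hbL⟩ := hfaith
    exact Or.inl ((component_facts hO (orderOf_eq_prime (hB.2 b hbB) hb1) (hDB b hbB hb1) hL).2.2 (Or.inr hbL))
  push Not at hfaith
  right
  let f : ↥B →* ↥(inducedAut L A D) :=
    (L.normalizerMonoidHom.comp (inclusion (hBA.trans hAL))).codRestrict _
      fun b => mem_inducedAut (inclusion (hBA.trans hAL) b) (mem_sup_right (mem_sup_left (hBA b.2)))
  have hfinj : Function.Injective f := by
    rw [injective_iff_map_eq_one]
    intro b hb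
    by_contra hne
    refine hfaith b b.2 (fun h => hne (Subtype.ext h)) ?_
    exact (normalizerMonoidHom_eq_one_iff (inclusion (hBA.trans hAL) b)).1 (congrArg Subtype.val hb)
  haveI := hB.1
  refine ⟨f.range, ⟨⟨⟨?_⟩⟩, ?_⟩, ?_, ?_, ?_⟩
  · rintro ⟨_, a, rfl⟩ ⟨_, b, rfl⟩
    apply Subtype.ext
    show f a * f b = f b * f a
    rw [← map_mul, ← map_mul, hB.1.is_comm.comm a b]
  · rintro _ ⟨b, rfl⟩
    rw [← map_pow, show b ^ p = 1 from Subtype.ext (hB.2 b b.2), map_one]
  · rw [Nat.card_congr (MonoidHom.ofInjective hfinj).toEquiv.symm, hBcard]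
  · intro a ha
    rw [mem_centralizer_iff]
    rintro _ ⟨b, rfl⟩
    apply Subtype.ext
    exact (Commute.map (show Commute (inclusion (hBA.trans hAL) b) a from
      Subtype.ext (mem_centralizer_iff.1 (hAc ha) b (hBA b.2))) L.normalizerMonoidHom).eq
  · intro d hd
    rw [Cfsg.signalizerDelta, mem_iInf]
    rintro ⟨_, ⟨b, rfl⟩, hb1⟩
    have hb : (b : H) ≠ 1 := fun h => hb1 (by rw [show b = 1 from Subtype.ext h, map_one])
    exact image_mem_centralizerPPrimeCore hO hL hAc hAL hDN hAD hDc hDO (hBA b.2) (hDB b b.2 hb) hd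

theorem exists_card_pow_le [hp : Fact p.Prime] {k : ℕ} {B : Subgroup H} (hB : Cfsg.IsElementaryAbelian p B)
    (hcard : p ^ k ≤ Nat.card B) : ∃ B0 ≤ B, Cfsg.IsElementaryAbelian p B0 ∧ Nat.card B0 = p ^ k := by
  have hP : IsPGroup p ↥B := fun g => ⟨1, Subtype.ext (by simpa using hB.2 g g.2)⟩
  obtain ⟨n, hn⟩ := hP.exists_card_eq
  rw [hn] at hcard
  obtain ⟨K, hK⟩ := Sylow.exists_subgroup_card_pow_prime p (G := ↥B) (n := k)
    (hn ▸ pow_dvd_pow p ((Nat.pow_le_pow_iff_right hp.out.one_lt).1 hcard))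
  refine ⟨K.map B.subtype, map_subtype_le _, ⟨⟨⟨?_⟩⟩, fun a ha => hB.2 a (map_subtype_le K ha)⟩,
    by rw [card_map_of_injective B.subtype_injective, hK]⟩
  rintro ⟨_, a, -, rfl⟩ ⟨_, b, -, rfl⟩
  apply Subtype.ext
  exact congrArg (fun z : ↥B => (z : H)) (hB.1.is_comm.comm a b)

theorem exists_ne_one_of_card {k : ℕ} [hp : Fact p.Prime] (hk : 1 ≤ k) {B : Subgroup H}
    (hcard : Nat.card B = p ^ k) : ∃ b ∈ B, b ≠ 1 := by
  by_contra hcon
  push Not at hcon
  rw [(eq_bot_iff_forall B).2 hcon, card_bot] at hcard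
  exact (Nat.one_lt_pow (by omega) hp.out.one_lt).ne hcard

/-- Local `k`-balance of the components kills `⋂_b O_{p'}(C(b))`. -/
theorem eq_bot_of_locallyKBalanced [hp : Fact p.Prime] (hO : Cfsg.pPrimeCore p H = ⊥) {k : ℕ} (hk : 1 ≤ k)
    {B D : Subgroup H} (hB : Cfsg.IsElementaryAbelian p B) (hBk : p ^ k ≤ Nat.card B)
    (hDB : ∀ b ∈ B, b ≠ 1 → D ≤ coreP p (centralizer ({b} : Set H)))
    (hloc : ∀ L : Subgroup H, Cfsg.IsComponent L → Cfsg.IsLocallyKBalanced p k ↥L) : D = ⊥ := by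
  obtain ⟨B0, hB0, hB0e, hB0c⟩ := exists_card_pow_le hB hBk
  obtain ⟨b₀, hb₀, hb₀1⟩ := exists_ne_one_of_card hk hB0c
  have hDc : (Nat.card D).Coprime p :=
    (coreP_coprime p _).coprime_dvd_left (card_dvd_of_le (hDB b₀ (hB0 hb₀) hb₀1))
  have hb₀o : orderOf b₀ = p := orderOf_eq_prime (hB0e.2 b₀ hb₀) hb₀1
  refine eq_bot_of_centralizes hO hDc
    ((hDB b₀ (hB0 hb₀) hb₀1).trans (centralizer_zpowers b₀ ▸ coreP_centralizer_le_centralizer_pCore
      (IsPGroup.of_card (n := 1) (by rw [Nat.card_zpowers, hb₀o, pow_one])))) fun L hL => ?_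
  have h0 := component_facts hO hb₀o (hDB b₀ (hB0 hb₀) hb₀1) hL
  by_cases hmove : ∃ b ∈ B0, b ∉ normalizer (L : Set H)
  · obtain ⟨b, hb, hbN⟩ := hmove
    have hb1 : b ≠ 1 := fun h => hbN (h ▸ one_mem _)
    exact (component_facts hO (orderOf_eq_prime (hB0e.2 b hb) hb1) (hDB b (hB0 hb) hb1) hL).2.2 (Or.inl hbN)
  push Not at hmove
  have hBD : B0 ≤ normalizer (D : Set H) := by
    rw [le_normalizer_iff]
    intro b hb d hd
    rcases eq_or_ne b 1 with rfl | hb1
    · simpa using hd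
    · have := mem_centralizer_singleton_iff.1 (coreP_le p _ (hDB b (hB0 hb) hb1 hd))
      rwa [← this, mul_inv_cancel_right]
  haveI := hB0e.1
  rcases centralizes_or_delta hO hL (le_centralizer B0) hmove le_rfl hBD hB0e hB0c hDc
    (fun b hb => hDB b (hB0 hb)) h0.2.1 h0.1 with h | ⟨B', hB', hB'c, -, hB'd⟩
  · exact h
  · intro d hd
    have h1 := hB'd ⟨d, h0.2.1 hd⟩ hd
    rw [hloc L hL _ (inn_le_inducedAut L B0 D) B' hB' hB'c, mem_bot] at h1
    exact (normalizerMonoidHom_eq_one_iff ⟨d, h0.2.1 hd⟩).1 (congrArg Subtype.val h1)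

/-- Weak local `k`-balance of `A`-invariant components: `[⋂_b O_{p'}(C(b)), A] = 1`. -/
theorem commutator_eq_bot_of_weaklyLocallyKBalanced [hp : Fact p.Prime] (hO : Cfsg.pPrimeCore p H = ⊥)
    {k : ℕ} (hk : 1 ≤ k) {A B D : Subgroup H} (hA : Cfsg.IsElementaryAbelian p A) (hBA : B ≤ A)
    (hBk : p ^ k ≤ Nat.card B) (hAD : A ≤ normalizer (D : Set H))
    (hDB : ∀ b ∈ B, b ≠ 1 → D ≤ coreP p (centralizer ({b} : Set H)))
    (hloc : ∀ L : Subgroup H, Cfsg.IsComponent L → Cfsg.IsWeaklyLocallyKBalanced p k ↥L)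
    (hinv : ∀ L : Subgroup H, Cfsg.IsComponent L → A ≤ normalizer (L : Set H)) : ⁅D, A⁆ = ⊥ := by
  haveI := hA.1
  have hAc : A ≤ centralizer (A : Set H) := le_centralizer A
  have hB : Cfsg.IsElementaryAbelian p B :=
    ⟨le_centralizer_iff_isMulCommutative.1 (hBA.trans (hAc.trans (centralizer_le hBA))), fun b hb => hA.2 b (hBA hb)⟩
  obtain ⟨B0, hB0, hB0e, hB0c⟩ := exists_card_pow_le hB hBk
  obtain ⟨b₀, hb₀, hb₀1⟩ := exists_ne_one_of_card hk hB0c
  have hb₀o : orderOf b₀ = p := orderOf_eq_prime (hB0e.2 b₀ hb₀) hb₀1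
  have hDc : (Nat.card D).Coprime p :=
    (coreP_coprime p _).coprime_dvd_left (card_dvd_of_le (hDB b₀ (hB0 hb₀) hb₀1))
  have hsub : ⁅D, A⁆ ≤ D := CfsgLib.Solvable.commutator_le_of_normalizes hAD
  have hDO : D ≤ centralizer (Cfsg.pCore p H : Set H) :=
    (hDB b₀ (hB0 hb₀) hb₀1).trans (centralizer_zpowers b₀ ▸ coreP_centralizer_le_centralizer_pCore
      (IsPGroup.of_card (n := 1) (by rw [Nat.card_zpowers, hb₀o, pow_one])))
  refine eq_bot_of_centralizes hO (hDc.coprime_dvd_left (card_dvd_of_le hsub)) (hsub.trans hDO) fun L hL => ?_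
  have h0 := component_facts hO hb₀o (hDB b₀ (hB0 hb₀) hb₀1) hL
  rcases centralizes_or_delta hO hL hAc (hinv L hL) (hB0.trans hBA) hAD hB0e hB0c hDc
    (fun b hb => hDB b (hB0 hb)) h0.2.1 h0.1 with h | ⟨B', hB', hB'c, hB'a, hB'd⟩
  · exact hsub.trans h
  · rw [commutator_le]
    intro d hd a ha
    have hdN := h0.2.1 hd
    have haN := hinv L hL ha
    have hcomm : Commute (L.normalizerMonoidHom ⟨d, hdN⟩) (L.normalizerMonoidHom ⟨a, haN⟩) := by
      by_cases h1 : L.normalizerMonoidHom ⟨a, haN⟩ = 1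
      · rw [h1]; exact Commute.one_right _
      · set x : ↥(inducedAut L A D) := ⟨L.normalizerMonoidHom ⟨a, haN⟩,
          mem_inducedAut (A := A) (D := D) ⟨a, haN⟩ (mem_sup_right (mem_sup_left ha))⟩ with hx
        have hxo : orderOf x = p := by
          refine orderOf_eq_prime (Subtype.ext ?_) (fun h => h1 (congrArg Subtype.val h))
          show (L.normalizerMonoidHom ⟨a, haN⟩) ^ p = 1
          rw [← map_pow, show (⟨a, haN⟩ : ↥(normalizer (L : Set H))) ^ p = 1 from Subtype.ext (hA.2 a ha), map_one]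
        have h2 := hloc L hL _ (inn_le_inducedAut L A D) B' hB' hB'c x hxo (hB'a ⟨a, haN⟩ ha) (hB'd ⟨d, hdN⟩ hd)
        exact congrArg Subtype.val (mem_centralizer_singleton_iff.1 h2)
    have h3 : L.normalizerMonoidHom ⁅(⟨d, hdN⟩ : ↥(normalizer (L : Set H))), ⟨a, haN⟩⁆ = 1 := by
      rw [map_commutatorElement]
      exact commutatorElement_eq_one_iff_mul_comm.2 hcomm.eq
    exact (normalizerMonoidHom_eq_one_iff _).1 h3

end general

section ambient

variable {G : Type u} [Group G] [Finite G] {p : ℕ}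

/-- The image of `Δ(B) ∩ C(a)` in `C(a)/O_{p'}(C(a))`. -/
def deltaBar (p : ℕ) (a : G) (B : Subgroup G) :
    Subgroup (↥(centralizer ({a} : Set G)) ⧸ Cfsg.pPrimeCore p ↥(centralizer ({a} : Set G))) :=
  ((Cfsg.signalizerDelta p B ⊓ centralizer {a}).subgroupOf (centralizer ({a} : Set G))).map
    (QuotientGroup.mk' (Cfsg.pPrimeCore p ↥(centralizer ({a} : Set G))))

/-- The image in `C(a)/O_{p'}(C(a))` of a subgroup. -/
def imgBar (p : ℕ) (a : G) (B : Subgroup G) :
    Subgroup (↥(centralizer ({a} : Set G)) ⧸ Cfsg.pPrimeCore p ↥(centralizer ({a} : Set G))) :=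
  (B.subgroupOf (centralizer ({a} : Set G))).map (QuotientGroup.mk' (Cfsg.pPrimeCore p ↥(centralizer ({a} : Set G))))

theorem imgBar_facts [hp : Fact p.Prime] {a : G} {B : Subgroup G} (hB : Cfsg.IsElementaryAbelian p B)
    (hBa : B ≤ centralizer ({a} : Set G)) :
    Cfsg.IsElementaryAbelian p (imgBar p a B) ∧ Nat.card (imgBar p a B) = Nat.card B ∧
      ∀ b' ∈ imgBar p a B, b' ≠ 1 → deltaBar p a B ≤ coreP p (centralizer ({b'} : Set _)) := by
  set C := centralizer ({a} : Set G) with hC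
  set π := QuotientGroup.mk' (Cfsg.pPrimeCore p ↥C) with hπ
  have hπs : Function.Surjective π := QuotientGroup.mk'_surjective _
  have hker : (Nat.card π.ker).Coprime p := by
    rw [hπ, QuotientGroup.ker_mk']; exact coprime_card_pPrimeCore p
  have hBp : IsPGroup p ↥(B.subgroupOf C) := fun g =>
    ⟨1, Subtype.ext (Subtype.ext (by simpa using hB.2 _ g.2))⟩
  refine ⟨⟨⟨⟨?_⟩⟩, ?_⟩, ?_, ?_⟩
  · rintro ⟨_, x, hx, rfl⟩ ⟨_, y, hy, rfl⟩
    apply Subtype.ext
    show π x * π y = π y * π x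
    rw [← map_mul, ← map_mul]
    congr 1
    exact Subtype.ext (congrArg (fun z : ↥B => (z : G)) (hB.1.is_comm.comm ⟨(x : G), hx⟩ ⟨(y : G), hy⟩))
  · rintro _ ⟨x, hx, rfl⟩
    rw [← map_pow, show x ^ p = 1 from Subtype.ext (by simpa using hB.2 x hx), map_one]
  · rw [imgBar, ← Nat.card_congr (subgroupOfEquivOfLe hBa).toEquiv]
    have hinj : Function.Injective (π.comp (B.subgroupOf C).subtype) := by
      rw [injective_iff_map_eq_one]
      intro x hx
      have h1 : (x : ↥C) ∈ B.subgroupOf C ⊓ π.ker := ⟨x.2, hx⟩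
      rw [CfsgLib.PLoc.disjoint_of_pgroup_coprime hBp hker, mem_bot] at h1
      exact Subtype.ext h1
    rw [Nat.card_congr (MonoidHom.ofInjective hinj).toEquiv, MonoidHom.range_comp, range_subtype]
  · rintro _ ⟨x, hx, rfl⟩ hx1
    have hxp : IsPGroup p ↥(zpowers x) := hBp.to_le (zpowers_le.2 hx)
    have hcent : centralizer ({π x} : Set _) = (centralizer ({x} : Set ↥C)).map π := by
      rw [← centralizer_zpowers, ← centralizer_zpowers, ← MonoidHom.map_zpowers]
      exact CfsgLib.PLoc.centralizer_map_eq hπs hker hxp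
    have hxG : (x : G) ≠ 1 := fun h => hx1 (by rw [show x = 1 from Subtype.ext h, map_one])
    set N2 : Subgroup ↥C := (coreP p (centralizer ({(x : G)} : Set G))).subgroupOf C with hN2
    have hN2le : N2 ≤ centralizer ({x} : Set ↥C) := fun y hy => by
      rw [mem_centralizer_singleton_iff]
      exact Subtype.ext (mem_centralizer_singleton_iff.1 (coreP_le p _ (mem_subgroupOf.1 hy)))
    have hdN : deltaBar p a B ≤ N2.map π := by
      refine map_mono fun y hy => ?_
      exact mem_iInf.1 hy.1 ⟨(x : G), hx, hxG⟩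
    refine hdN.trans (le_coreP ?_ ?_ ?_)
    · rw [hcent]; exact map_mono hN2le
    · rw [hcent]
      refine le_trans (map_mono ?_) (le_normalizer_map π)
      rw [le_normalizer_iff]
      intro g hg y hy
      have hgx : (g : G) ∈ centralizer ({(x : G)} : Set G) := by
        rw [mem_centralizer_singleton_iff]
        exact congrArg Subtype.val (mem_centralizer_singleton_iff.1 hg)
      exact le_normalizer_iff.1 (le_normalizer_coreP p _) _ hgx _ hy
    · refine (coreP_coprime p (centralizer ({(x : G)} : Set G))).coprime_dvd_left ((card_map_dvd _ _).trans ?_)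
      exact card_comap_dvd_of_injective _ _ (Subgroup.subtype_injective _)

theorem le_centralizerPPrimeCore_of_map_eq_bot {a : G} {N : Subgroup G} (hN : N ≤ centralizer ({a} : Set G))
    (h : (N.subgroupOf (centralizer ({a} : Set G))).map (QuotientGroup.mk' (Cfsg.pPrimeCore p ↥(centralizer ({a} : Set G)))) = ⊥) :
    N ≤ Cfsg.centralizerPPrimeCore p a := by
  rw [Subgroup.map_eq_bot_iff, QuotientGroup.ker_mk'] at h
  intro x hx
  exact ⟨⟨x, hN hx⟩, h hx, rfl⟩

/-- Local `k`-balance of the components of `C(a)/O_{p'}(C(a))` gives balance at `a`. -/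
theorem delta_inf_le_of_local [hp : Fact p.Prime] {k : ℕ} (hk : 1 ≤ k) {a : G} {B : Subgroup G}
    (hB : Cfsg.IsElementaryAbelian p B) (hBa : B ≤ centralizer ({a} : Set G)) (hBk : p ^ k ≤ Nat.card B)
    (hloc : ∀ K : Subgroup (↥(centralizer ({a} : Set G)) ⧸ Cfsg.pPrimeCore p ↥(centralizer ({a} : Set G))),
      Cfsg.IsComponent K → Cfsg.IsLocallyKBalanced p k ↥K) :
    Cfsg.signalizerDelta p B ⊓ centralizer {a} ≤ Cfsg.centralizerPPrimeCore p a := by
  obtain ⟨h1, h2, h3⟩ := imgBar_facts hB hBa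
  refine le_centralizerPPrimeCore_of_map_eq_bot inf_le_right ?_
  exact eq_bot_of_locallyKBalanced (CfsgLib.Solvable.pPrimeCore_quotient_eq_bot _ rfl) hk h1 (h2 ▸ hBk) h3 hloc

/-- Weak version. -/
theorem commutator_delta_le_of_local [hp : Fact p.Prime] {k : ℕ} (hk : 1 ≤ k) {a : G} {A B : Subgroup G}
    (hA : Cfsg.IsElementaryAbelian p A) (hAa : A ≤ centralizer ({a} : Set G)) (hBA : B ≤ A)
    (hBk : p ^ k ≤ Nat.card B)
    (hloc : ∀ K : Subgroup (↥(centralizer ({a} : Set G)) ⧸ Cfsg.pPrimeCore p ↥(centralizer ({a} : Set G))),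
      Cfsg.IsComponent K → Cfsg.IsWeaklyLocallyKBalanced p k ↥K)
    (hinv : ∀ K : Subgroup (↥(centralizer ({a} : Set G)) ⧸ Cfsg.pPrimeCore p ↥(centralizer ({a} : Set G))),
      Cfsg.IsComponent K → ∀ b : ↥(centralizer ({a} : Set G)), (b : G) ∈ A →
        ∀ x ∈ K, (QuotientGroup.mk b) * x * (QuotientGroup.mk b)⁻¹ ∈ K) :
    ⁅Cfsg.signalizerDelta p B ⊓ centralizer {a}, A⁆ ≤ Cfsg.centralizerPPrimeCore p a := by
  haveI := hA.1
  have hAc : A ≤ centralizer (A : Set G) := le_centralizer A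
  have hB : Cfsg.IsElementaryAbelian p B :=
    ⟨le_centralizer_iff_isMulCommutative.1 (hBA.trans (hAc.trans (centralizer_le hBA))), fun b hb => hA.2 b (hBA hb)⟩
  obtain ⟨-, h2, h3⟩ := imgBar_facts hB (hBA.trans hAa)
  obtain ⟨hA1, -, -⟩ := imgBar_facts hA hAa
  have hAΔ : A ≤ normalizer ((Cfsg.signalizerDelta p B ⊓ centralizer {a} : Subgroup G) : Set G) := by
    rw [le_normalizer_iff]
    intro g hg x hx
    refine ⟨mem_iInf.2 fun b => ?_, (centralizer ({a} : Set G)).mul_mem ((centralizer ({a} : Set G)).mul_mem (hAa hg) hx.2) (inv_mem (hAa hg))⟩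
    refine le_normalizer_iff.1 (le_normalizer_coreP p (centralizer ({(b : G)} : Set G))) g ?_ x (mem_iInf.1 hx.1 b)
    rw [mem_centralizer_singleton_iff]
    exact (mem_centralizer_iff.1 (hAc hg) b (hBA b.2.1)).symm
  refine le_centralizerPPrimeCore_of_map_eq_bot ((CfsgLib.Solvable.commutator_le_of_normalizes hAΔ).trans inf_le_right) ?_
  have key : ⁅deltaBar p a B, imgBar p a A⁆ = ⊥ := by
    refine commutator_eq_bot_of_weaklyLocallyKBalanced (CfsgLib.Solvable.pPrimeCore_quotient_eq_bot _ rfl) hk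
      hA1 (map_mono (comap_mono hBA)) (h2 ▸ hBk) ?_ h3 hloc ?_
    · refine le_trans (map_mono ?_) (le_normalizer_map _)
      rw [le_normalizer_iff]
      exact fun g hg x hx => le_normalizer_iff.1 hAΔ _ hg _ hx
    · intro K hK
      rw [le_normalizer_iff]
      rintro _ ⟨b, hb, rfl⟩ x hx
      exact hinv K hK b hb x hx
  rw [eq_bot_iff, ← key, deltaBar, imgBar, ← map_commutator]
  refine map_mono fun x hx => ?_
  rw [mem_subgroupOf] at hx
  have hmap : ⁅(Cfsg.signalizerDelta p B ⊓ centralizer {a}).subgroupOf (centralizer ({a} : Set G)),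
      A.subgroupOf (centralizer ({a} : Set G))⁆.map (centralizer ({a} : Set G)).subtype =
      ⁅Cfsg.signalizerDelta p B ⊓ centralizer {a}, A⁆ := by
    rw [map_commutator, map_subgroupOf_eq_of_le inf_le_right, map_subgroupOf_eq_of_le hAa]
  rw [← hmap] at hx
  exact (mem_map_iff_mem (Subgroup.subtype_injective _)).1 hx

end ambient

end CfsgLib.Balance
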