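import Mathlib.GroupTheory.Sylow
import Mathlib.GroupTheory.OrderOfElement
import Mathlib.Algebra.BigOperators.Group.Finset.Sigma
import Mathlib.Algebra.Order.BigOperators.Group.Finset

/-!
Involution fusion when a subgroup contains the centralizers of its involutions; the Suzuki count for a
strongly embedded subgroup.
-/

set_option autoImplicit false
set_option linter.style.haveILetI false

namespace CfsgLib.Balance

open Subgroup Finset

universe u

variable {S : Type u} [Group S] [Finite S]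

theorem conj_involution {x g : S} (hx : orderOf x = 2) : orderOf (g * x * g⁻¹) = 2 := by
  rw [← MulAut.conj_apply, MulEquiv.orderOf_eq, hx]

/-- Two nonconjugate involutions commute with a common involution. -/
theorem exists_commuting_involution {x y : S} (hx : orderOf x = 2) (hy : orderOf y = 2) (hnc : ¬ IsConj x y) :
    ∃ k : S, orderOf k = 2 ∧ Commute k x ∧ Commute k y := by
  have hx2 : x * x = 1 := by rw [← pow_two, ← hx, pow_orderOf_eq_one]
  have hy2 : y * y = 1 := by rw [← pow_two, ← hy, pow_orderOf_eq_one]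
  have hxi : x⁻¹ = x := inv_eq_of_mul_eq_one_right hx2
  have hyi : y⁻¹ = y := inv_eq_of_mul_eq_one_right hy2
  set d := x * y with hd
  have hconj : x * d * x⁻¹ = d⁻¹ := by rw [hd, mul_inv_rev, hyi, hxi, ← mul_assoc, hx2, one_mul]
  have hpow : ∀ m : ℕ, x * d ^ m * x⁻¹ = (d ^ m)⁻¹ := fun m => by rw [← conj_pow, hconj, inv_pow]
  rcases Nat.even_or_odd (orderOf d) with ⟨m, hm⟩ | ⟨m, hm⟩
  · have hm0 : m ≠ 0 := fun h => (orderOf_pos d).ne' (by rw [hm, h])
    have ho : orderOf (d ^ m) = 2 := by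
      rw [orderOf_pow' d hm0, hm, Nat.gcd_eq_right (Dvd.intro_left 2 (by omega))]
      rw [← two_mul, Nat.mul_div_cancel _ (Nat.pos_of_ne_zero hm0)]
    have hk2 : (d ^ m)⁻¹ = d ^ m := inv_eq_of_mul_eq_one_right (by rw [← pow_two, ← ho, pow_orderOf_eq_one])
    have hcx : Commute (d ^ m) x := (mul_inv_eq_iff_eq_mul.1 ((hpow m).trans hk2)).symm
    refine ⟨d ^ m, ho, hcx, ?_⟩
    have hyd : y = x * d := by rw [hd, ← mul_assoc, hx2, one_mul]
    rw [hyd]
    exact hcx.mul_right ((Commute.refl d).pow_left m)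
  · exfalso
    refine hnc (isConj_iff.2 ⟨d ^ m, ?_⟩)
    have h1 : d ^ (m + m + 1) = 1 := by rw [show m + m + 1 = 2 * m + 1 by omega, ← hm, pow_orderOf_eq_one]
    have h2 : x * (d ^ m)⁻¹ = d ^ m * x := by
      rw [← hpow m, hxi]; simp only [mul_assoc]; rw [← mul_assoc x x, hx2, one_mul]
    calc d ^ m * x * (d ^ m)⁻¹ = d ^ m * (x * (d ^ m)⁻¹) := mul_assoc _ _ _
      _ = d ^ (m + m) * x := by rw [h2, pow_add, mul_assoc]
      _ = d⁻¹ * x := by rw [eq_inv_of_mul_eq_one_left (show d ^ (m + m) * d = 1 by rwa [← pow_succ])]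
      _ = y := by rw [hd, mul_inv_rev, hxi, hyi, mul_assoc, hx2, mul_one]

/-- All involutions are conjugate. -/
theorem involutions_conj (M : Subgroup S) (hM : Even (Nat.card M))
    (hC : ∀ i ∈ M, orderOf i = 2 → centralizer ({i} : Set S) ≤ M) (hcore : Odd (Nat.card M.normalCore)) :
    ∀ x y : S, orderOf x = 2 → orderOf y = 2 → IsConj x y := by
  obtain ⟨i, hi⟩ := exists_prime_orderOf_dvd_card' (G := ↥M) 2 (even_iff_two_dvd.1 hM)
  have hi' : orderOf (i : S) = 2 := by rw [orderOf_coe, hi]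
  suffices h : ∀ x : S, orderOf x = 2 → IsConj (i : S) x from fun x y hx hy => (h x hx).symm.trans (h y hy)
  intro x hx
  by_contra hnc
  have key : ∀ z : S, IsConj x z → z ∈ M := by
    intro z hz
    have hz2 : orderOf z = 2 := by
      obtain ⟨g, rfl⟩ := isConj_iff.1 hz; exact conj_involution hx
    obtain ⟨k, hk, hki, hkz⟩ := exists_commuting_involution hi' hz2 (fun h => hnc (h.trans hz.symm))
    have hkM : k ∈ M := hC i i.2 hi' (mem_centralizer_singleton_iff.2 hki.eq)
    exact hC k hkM hk (mem_centralizer_singleton_iff.2 hkz.eq.symm)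
  have hxc : x ∈ M.normalCore := fun g => key _ (isConj_iff.2 ⟨g, rfl⟩)
  have h2 : 2 ∣ Nat.card M.normalCore := hx ▸ Subgroup.orderOf_dvd_natCard _ hxc
  exact (Nat.not_even_iff_odd.2 hcore) (even_iff_two_dvd.2 h2)

/-- A subgroup containing the centralizers of its involutions and the normalizer of a Sylow `2`-subgroup
is strongly embedded. -/
theorem mem_of_conj_involution (M : Subgroup S)
    (hC : ∀ i ∈ M, orderOf i = 2 → centralizer ({i} : Set S) ≤ M) (X : Sylow 2 M)
    (hN : normalizer (((X : Subgroup M).map M.subtype : Subgroup S) : Set S) ≤ M)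
    {g t : S} (ht : orderOf t = 2) (htM : t ∈ M) (htg : g⁻¹ * t * g ∈ M) : g ∈ M := by
  set M' := M.map (MulAut.conj g).toMonoidHom with hM'
  have hmem : ∀ y : S, y ∈ M' ↔ g⁻¹ * y * g ∈ M := by
    intro y
    constructor
    · rintro ⟨m, hm, rfl⟩
      show g⁻¹ * (g * m * g⁻¹) * g ∈ M
      simpa [mul_assoc] using hm
    · intro h
      exact ⟨_, h, by show g * (g⁻¹ * y * g) * g⁻¹ = y; group⟩
  have hCg : ∀ i : S, orderOf i = 2 → i ∈ M' → centralizer ({i} : Set S) ≤ M' := by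
    intro i hi hiM c hc
    rw [hmem]
    refine hC _ ((hmem i).1 hiM) ?_ ?_
    · have h := conj_involution (g := g⁻¹) hi
      rwa [inv_inv] at h
    · rw [mem_centralizer_singleton_iff]
      have hc' : c * i = i * c := mem_centralizer_singleton_iff.1 hc
      calc g⁻¹ * c * g * (g⁻¹ * i * g) = g⁻¹ * (c * i) * g := by group
        _ = g⁻¹ * i * g * (g⁻¹ * c * g) := by rw [hc']; group
  set T := (zpowers t).subgroupOf M with hT
  have hTp : IsPGroup 2 ↥T := (IsPGroup.of_card (p := 2) (n := 1) (by rw [Nat.card_zpowers, ht, pow_one])).of_equiv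
    (subgroupOfEquivOfLe (zpowers_le.2 htM)).symm
  obtain ⟨X1, hX1⟩ := hTp.exists_le_sylow
  have htX : (⟨t, htM⟩ : ↥M) ∈ (X1 : Subgroup ↥M) := hX1 (mem_zpowers t)
  haveI : Nontrivial ↥(X1 : Subgroup ↥M) := by
    refine (nontrivial_iff_ne_bot _).2 fun h => ?_
    rw [h, mem_bot] at htX
    rw [show t = 1 from congrArg Subtype.val htX, orderOf_one] at ht
    omega
  haveI := X1.2.center_nontrivial
  obtain ⟨z, hz⟩ := exists_prime_orderOf_dvd_card' (G := center ↥(X1 : Subgroup ↥M)) 2 (by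
    obtain ⟨k, hk⟩ := (X1.2.to_subgroup (center ↥(X1 : Subgroup ↥M))).exists_card_eq
    have h1 : 1 < Nat.card (center ↥(X1 : Subgroup ↥M)) := Finite.one_lt_card
    rw [hk]
    refine dvd_pow_self 2 fun h0 => ?_
    rw [hk, h0, pow_zero] at h1
    exact lt_irrefl _ h1)
  set zS : S := (((z : ↥(X1 : Subgroup ↥M)) : ↥M) : S) with hzS
  have hz2 : orderOf zS = 2 := by rw [hzS, orderOf_coe, orderOf_coe, orderOf_coe, hz]
  have hcomm : ∀ m : ↥M, m ∈ (X1 : Subgroup ↥M) → (m : S) * zS = zS * m := fun m hm =>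
    congrArg (fun w : ↥(X1 : Subgroup ↥M) => ((w : ↥M) : S)) (mem_center_iff.1 z.2 ⟨m, hm⟩)
  have hzg : zS ∈ M' := hCg t ht ((hmem t).2 htg) (mem_centralizer_singleton_iff.2 (hcomm _ htX).symm)
  set X1S := (X1 : Subgroup ↥M).map M.subtype with hX1S
  have hX1g : X1S ≤ M' := by
    rintro _ ⟨m, hm, rfl⟩
    exact hCg zS hz2 hzg (mem_centralizer_singleton_iff.2 (hcomm m hm))
  obtain ⟨m, hm⟩ := MulAction.exists_smul_eq ↥M X X1
  set XS := (X : Subgroup ↥M).map M.subtype with hXS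
  have hX1m : X1S = XS.map (MulAut.conj (m : S)).toMonoidHom := by
    rw [hX1S, ← hm, hXS, Subgroup.map_map]
    show Subgroup.map M.subtype (Subgroup.map (MulAut.conj m).toMonoidHom (X : Subgroup ↥M)) = _
    rw [Subgroup.map_map]
    rfl
  -- a Sylow subgroup of `M` pulled back by `g`
  set Y := X1S.map (MulAut.conj g⁻¹).toMonoidHom with hY
  have hYM : Y ≤ M := by
    rintro _ ⟨y, hy, rfl⟩
    show g⁻¹ * y * g⁻¹⁻¹ ∈ M
    rw [inv_inv]
    exact (hmem y).1 (hX1g hy)
  have hYp : IsPGroup 2 ↥(Y.subgroupOf M) := ((X1.2.map _).map _).of_equiv (subgroupOfEquivOfLe hYM).symm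
  obtain ⟨X2, hX2⟩ := hYp.exists_le_sylow
  have hcard : Nat.card ↥(Y.subgroupOf M) = Nat.card ↥(X2 : Subgroup ↥M) := by
    rw [Nat.card_congr (subgroupOfEquivOfLe hYM).toEquiv, hY, card_map_of_injective (MulAut.conj g⁻¹).injective,
      hX1S, card_map_of_injective M.subtype_injective]
    exact (Sylow.card_eq_multiplicity X1).trans (Sylow.card_eq_multiplicity X2).symm
  have heq : Y.subgroupOf M = X2 := eq_of_le_of_card_ge hX2 hcard.ge
  obtain ⟨m', hm'⟩ := MulAction.exists_smul_eq ↥M X X2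
  have hY' : Y = XS.map (MulAut.conj (m' : S)).toMonoidHom := by
    rw [← map_subgroupOf_eq_of_le hYM, heq, ← hm', hXS, Subgroup.map_map]
    show Subgroup.map M.subtype (Subgroup.map (MulAut.conj m').toMonoidHom (X : Subgroup ↥M)) = _
    rw [Subgroup.map_map]
    rfl
  have hcomp : ∀ a b : S, (XS.map (MulAut.conj b).toMonoidHom).map (MulAut.conj a).toMonoidHom =
      XS.map (MulAut.conj (a * b)).toMonoidHom := by
    intro a b
    rw [Subgroup.map_map]
    congr 1
    refine MonoidHom.ext fun w => ?_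
    show a * (b * w * b⁻¹) * a⁻¹ = a * b * w * (a * b)⁻¹
    group
  have hn : ((m' : S))⁻¹ * g⁻¹ * (m : S) ∈ normalizer (XS : Set S) := by
    have h3 : XS.map (MulAut.conj (g⁻¹ * (m : S))).toMonoidHom = XS.map (MulAut.conj (m' : S)).toMonoidHom := by
      rw [← hY', hY, hX1m, hcomp]
    rw [mem_normalizer_iff_map_conj_eq]
    show XS.map (MulAut.conj _).toMonoidHom = XS
    rw [mul_assoc, ← hcomp, h3, hcomp, inv_mul_cancel, map_one]
    exact Subgroup.map_id XS
  have h6 := hN hn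
  have h7 : g⁻¹ ∈ M := by
    have := mul_mem (mul_mem m'.2 h6) (inv_mem m.2)
    simpa [mul_assoc] using this
  simpa using inv_mem h7

/-- The counting argument: `M = D C_M(I)` with `D = M ∩ gMg⁻¹` for every `g ∉ M`. -/
theorem exists_odd_transitive (M : Subgroup S) (hne : M ≠ ⊤)
    (hconj : ∀ x y : S, orderOf x = 2 → orderOf y = 2 → IsConj x y)
    (hse : ∀ g t : S, orderOf t = 2 → t ∈ M → g⁻¹ * t * g ∈ M → g ∈ M)
    (hC' : ∀ t : S, orderOf t = 2 → t ∈ M → ∀ c : S, c * t = t * c → c ∈ M)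
    {I : S} (hI : orderOf I = 2) (hIM : I ∈ M) :
    ∃ D : Subgroup S, D ≤ M ∧ Odd (Nat.card D) ∧
      ∀ m ∈ M, ∃ a ∈ D, a⁻¹ * m * I = I * (a⁻¹ * m) := by
  classical
  haveI : Fintype S := Fintype.ofFinite S
  let J : Finset S := univ.filter fun t => orderOf t = 2 ∧ t ∈ M
  let Out : Finset S := univ.filter fun g => g ∉ M
  let DF : S → Finset S := fun g => univ.filter fun c => c ∈ M ∧ g⁻¹ * c * g ∈ M
  let CD : S → S → Finset S := fun t g => (DF g).filter fun c => c * t = t * c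
  let A : S → Finset S := fun g => univ.filter fun x => orderOf x = 2 ∧ g⁻¹ * x ∈ M
  let Cm : S → Finset S := fun x => univ.filter fun c => c ∈ M ∧ c * x = x * c
  have hinv : ∀ x : S, orderOf x = 2 → x⁻¹ = x := fun x hx =>
    inv_eq_of_mul_eq_one_right (by rw [← pow_two, ← hx, pow_orderOf_eq_one])
  have hodd : ∀ g ∈ Out, Odd (Nat.card ↥(M ⊓ M.map (MulAut.conj g).toMonoidHom)) := by
    intro g hg
    simp only [Out, mem_filter, Finset.mem_univ, true_and] at hg
    rw [← Nat.not_even_iff_odd, even_iff_two_dvd]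
    intro h
    obtain ⟨⟨t, htM, m, hm, hmt⟩, ht⟩ := exists_prime_orderOf_dvd_card' 2 h
    replace ht : orderOf t = 2 := by rw [← ht, ← orderOf_coe]
    refine hg (hse g t ht htM ?_)
    rw [← hmt]
    show g⁻¹ * (g * m * g⁻¹) * g ∈ M
    simpa [mul_assoc] using hm
  -- the coset inequality
  have hA : ∀ g ∈ Out, ∑ x ∈ A g, (Cm x).card ≤ (DF g).card := by
    intro g hg
    rcases (A g).eq_empty_or_nonempty with h | ⟨x0, hx0⟩
    · simp [h]
    simp only [A, mem_filter, Finset.mem_univ, true_and] at hx0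
    obtain ⟨hx0o, hx0g⟩ := hx0
    have hx0i := hinv x0 hx0o
    have hex : ∀ x ∈ A g, ∃ e : S, (e ∈ M ∧ g⁻¹ * e * g ∈ M) ∧ e * x0 * e⁻¹ = x := by
      intro x hx
      simp only [A, mem_filter, Finset.mem_univ, true_and] at hx
      obtain ⟨hxo, hxg⟩ := hx
      have hxi := hinv x hxo
      set D := M ⊓ M.map (MulAut.conj g).toMonoidHom with hD
      have hd : x * x0 ∈ D := by
        refine ⟨?_, g⁻¹ * (x * x0) * g, ?_, by show g * (g⁻¹ * (x * x0) * g) * g⁻¹ = _; group⟩
        · have h1 : x⁻¹ * g ∈ M := by simpa using inv_mem hxg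
          have h2 : x * x0 = x⁻¹ * g * (g⁻¹ * x0) := by rw [hxi]; group
          rw [h2]; exact mul_mem h1 hx0g
        · have h2 : g⁻¹ * (x * x0) * g = g⁻¹ * x * (g⁻¹ * x0)⁻¹ := by
            rw [mul_inv_rev, hx0i]; group
          show g⁻¹ * (x * x0) * g ∈ M
          rw [h2]; exact mul_mem hxg (inv_mem hx0g)
      set d := x * x0 with hddef
      obtain ⟨k, hk⟩ := hodd g hg
      have hdk : d ^ (2 * k + 1) = 1 := by
        rw [← hk]; exact orderOf_dvd_iff_pow_eq_one.1 (Subgroup.orderOf_dvd_natCard D hd)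
      have hconjd : x0 * d * x0⁻¹ = d⁻¹ := by
        rw [hddef, mul_inv_rev, hxi, hx0i]; simp [mul_assoc, mul_eq_one_iff_eq_inv.2 hx0i.symm]
      have hpk : x0 * d ^ (k + 1) * x0⁻¹ = (d ^ (k + 1))⁻¹ := by rw [← conj_pow, hconjd, inv_pow]
      refine ⟨d ^ (k + 1), ⟨(pow_mem hd _).1, ?_⟩, ?_⟩
      · obtain ⟨m, hm, hme⟩ := (pow_mem hd (k + 1)).2
        rw [← hme]
        show g⁻¹ * (g * m * g⁻¹) * g ∈ M
        simpa [mul_assoc] using hm
      · have h2 : x0 * (d ^ (k + 1))⁻¹ = d ^ (k + 1) * x0 := by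
          rw [← hpk]
          have : x0 * x0 = 1 := by rw [← pow_two, ← hx0o, pow_orderOf_eq_one]
          calc x0 * (x0 * d ^ (k + 1) * x0⁻¹) = x0 * x0 * d ^ (k + 1) * x0⁻¹ := by group
            _ = d ^ (k + 1) * x0 := by rw [this, one_mul, hx0i]
        calc d ^ (k + 1) * x0 * (d ^ (k + 1))⁻¹ = d ^ (k + 1) * (x0 * (d ^ (k + 1))⁻¹) := mul_assoc _ _ _
          _ = d ^ (k + 1 + (k + 1)) * x0 := by rw [h2, ← mul_assoc, ← pow_add]
          _ = d * x0 := by
            rw [show k + 1 + (k + 1) = 2 * k + 1 + 1 by ring, pow_succ, hdk, one_mul]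
          _ = x := by rw [hddef, mul_assoc, ← pow_two, ← hx0o, pow_orderOf_eq_one, mul_one]
    choose! e he1 he2 using hex
    rw [← Finset.card_sigma]
    refine Finset.card_le_card_of_injOn (fun p => p.2 * e p.1) ?_ ?_
    · rintro ⟨x, c⟩ hp
      simp only [Finset.mem_coe, Finset.mem_sigma, Cm, mem_filter, Finset.mem_univ, true_and] at hp
      obtain ⟨hx, hcM, hcx⟩ := hp
      simp only [DF, Finset.mem_coe, mem_filter, Finset.mem_univ, true_and]
      refine ⟨mul_mem hcM (he1 x hx).1, ?_⟩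
      simp only [A, mem_filter, Finset.mem_univ, true_and] at hx
      have hcg : g⁻¹ * c * g ∈ M := by
        have h1 : g⁻¹ * c * g = g⁻¹ * x * c * (g⁻¹ * x)⁻¹ := by
          rw [mul_assoc g⁻¹ x c, ← hcx]; group
        rw [h1]
        exact mul_mem (mul_mem hx.2 hcM) (inv_mem hx.2)
      have h2 : g⁻¹ * (c * e x) * g = g⁻¹ * c * g * (g⁻¹ * e x * g) := by group
      rw [h2]
      exact mul_mem hcg (he1 x (by simp [A, hx])).2
    · rintro ⟨x, c⟩ hp ⟨x', c'⟩ hp' heq
      simp only [Finset.mem_coe, Finset.mem_sigma, Cm, mem_filter, Finset.mem_univ, true_and] at hp hp'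
      simp only at heq
      have key : ∀ y b, y ∈ A g → b * y = y * b → b * e y * x0 * (b * e y)⁻¹ = y := by
        intro y b hy hb
        calc b * e y * x0 * (b * e y)⁻¹ = b * (e y * x0 * (e y)⁻¹) * b⁻¹ := by group
          _ = y := by rw [he2 y hy, hb]; group
      have hxx : x = x' := by rw [← key x c hp.1 hp.2.2, heq, key x' c' hp'.1 hp'.2.2]
      subst hxx
      rw [mul_right_cancel heq]
  -- a transversal
  have hh : ∀ x : S, orderOf x = 2 → ∃ h : S, h⁻¹ * x * h ∈ M := by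
    intro x hx
    obtain ⟨h, hh⟩ := isConj_iff.1 (hconj I x hI hx)
    exact ⟨h, by rw [← hh]; simpa [mul_assoc] using hIM⟩
  choose! h hh using hh
  have hswap : ∑ g ∈ Out, ∑ x ∈ A g, (Cm x).card = ∑ g ∈ Out, ∑ t ∈ J, (CD t g).card := by
    rw [Finset.sum_sigma', Finset.sum_sigma']
    refine Finset.sum_bij' (fun p _ => ⟨(h p.2 * (p.2⁻¹ * p.1))⁻¹,
        (h p.2 * (p.2⁻¹ * p.1))⁻¹ * p.2 * (h p.2 * (p.2⁻¹ * p.1))⟩)
      (fun q _ => ⟨q.1⁻¹ * q.2 * q.1 * ((h (q.1⁻¹ * q.2 * q.1))⁻¹ * q.1⁻¹), q.1⁻¹ * q.2 * q.1⟩) ?_ ?_ ?_ ?_ ?_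
    · rintro ⟨g, x⟩ hp
      simp only [Finset.mem_sigma, Out, A, J, mem_filter, Finset.mem_univ, true_and] at hp ⊢
      obtain ⟨hg, hxo, hxg⟩ := hp
      have hm : x⁻¹ * g ∈ M := by simpa using inv_mem hxg
      have ht : (h x * (x⁻¹ * g))⁻¹ * x * (h x * (x⁻¹ * g)) ∈ M := by
        have := mul_mem (mul_mem (inv_mem hm) (hh x hxo)) hm
        simpa [mul_assoc] using this
      refine ⟨fun hc => hg ?_, ?_, ht⟩
      · have hc' : h x * (x⁻¹ * g) ∈ M := by simpa using inv_mem hc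
        have hxM : x ∈ M := by
          have := mul_mem (mul_mem hc' ht) (inv_mem hc')
          simpa [mul_assoc] using this
        have := mul_mem hxM hm
        rwa [mul_inv_cancel_left] at this
      · have := conj_involution (g := (h x * (x⁻¹ * g))⁻¹) hxo
        rwa [inv_inv] at this
    · rintro ⟨g, t⟩ hq
      simp only [Finset.mem_sigma, Out, A, J, mem_filter, Finset.mem_univ, true_and] at hq ⊢
      obtain ⟨hg, hto, htM⟩ := hq
      set x := g⁻¹ * t * g with hx
      have hxo : orderOf x = 2 := by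
        have := conj_involution (g := g⁻¹) hto
        rwa [inv_inv] at this
      have hm : (h x)⁻¹ * g⁻¹ ∈ M := by
        have h1 := hh x hxo
        have h2 : ((h x)⁻¹ * g⁻¹)⁻¹⁻¹ * t * ((h x)⁻¹ * g⁻¹)⁻¹ = (h x)⁻¹ * x * h x := by rw [hx]; group
        have := hse ((h x)⁻¹ * g⁻¹)⁻¹ t hto htM (by rw [show (((h x)⁻¹ * g⁻¹)⁻¹)⁻¹ = ((h x)⁻¹ * g⁻¹)⁻¹⁻¹ from rfl, h2]; exact h1)
        simpa using inv_mem this
      refine ⟨fun hc => ?_, hxo, ?_⟩
      · have hxM : x ∈ M := by
          have := mul_mem hc (inv_mem hm)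
          simpa [mul_assoc] using this
        exact hg (hse g t hto htM hxM)
      · have := inv_mem hm
        rw [show ((x * ((h x)⁻¹ * g⁻¹))⁻¹ * x) = ((h x)⁻¹ * g⁻¹)⁻¹ by group]
        exact this
    · rintro ⟨g, x⟩ hp
      simp only [Sigma.mk.injEq, heq_eq_eq]
      refine ⟨?_, by group⟩
      rw [show (h x * (x⁻¹ * g))⁻¹⁻¹ * ((h x * (x⁻¹ * g))⁻¹ * x * (h x * (x⁻¹ * g))) * (h x * (x⁻¹ * g))⁻¹ = x by group]
      group
    · rintro ⟨g, t⟩ hq
      simp only [Sigma.mk.injEq, heq_eq_eq]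
      constructor <;> group
    · rintro ⟨g, x⟩ hp
      simp only [Finset.mem_sigma, Out, A, J, mem_filter, Finset.mem_univ, true_and] at hp
      obtain ⟨hg, hxo, hxg⟩ := hp
      have hm : x⁻¹ * g ∈ M := by simpa using inv_mem hxg
      set u := h x * (x⁻¹ * g) with hu
      have ht : u⁻¹ * x * u ∈ M := by
        have := mul_mem (mul_mem (inv_mem hm) (hh x hxo)) hm
        simpa [hu, mul_assoc] using this
      have hto : orderOf (u⁻¹ * x * u) = 2 := by
        have := conj_involution (g := u⁻¹) hxo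
        rwa [inv_inv] at this
      refine Finset.card_nbij' (fun c => u⁻¹ * c * u) (fun c => u * c * u⁻¹) ?_ ?_ ?_ ?_
      · intro c hc
        simp only [Cm, CD, DF, Finset.mem_coe, mem_filter, Finset.mem_univ, true_and, inv_inv] at hc ⊢
        have hcomm : u⁻¹ * c * u * (u⁻¹ * x * u) = u⁻¹ * x * u * (u⁻¹ * c * u) := by
          calc u⁻¹ * c * u * (u⁻¹ * x * u) = u⁻¹ * (c * x) * u := by group
            _ = _ := by rw [hc.2]; group
        refine ⟨⟨hC' _ hto ht _ hcomm, ?_⟩, hcomm⟩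
        simpa [mul_assoc] using hc.1
      · intro c hc
        simp only [Cm, CD, DF, Finset.mem_coe, mem_filter, Finset.mem_univ, true_and, inv_inv] at hc ⊢
        refine ⟨hc.1.2, ?_⟩
        calc u * c * u⁻¹ * x = u * (c * (u⁻¹ * x * u)) * u⁻¹ := by group
          _ = u * (u⁻¹ * x * u * c) * u⁻¹ := by rw [hc.2]
          _ = x * (u * c * u⁻¹) := by group
      · intro c _; group
      · intro c _; group
  have hQ : ∀ t ∈ J, ∑ g ∈ Out, (CD t g).card = ∑ g ∈ Out, (CD I g).card := by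
    intro t ht
    simp only [J, mem_filter, Finset.mem_univ, true_and] at ht
    obtain ⟨m, hm⟩ := isConj_iff.1 (hconj I t hI ht.1)
    have hmM : m ∈ M := hse m t ht.1 ht.2 (by rw [← hm]; simpa [mul_assoc] using hIM)
    refine Finset.sum_nbij' (fun g => m⁻¹ * g) (fun g => m * g) ?_ ?_ ?_ ?_ ?_
    · intro g hg
      simp only [Out, Finset.mem_coe, mem_filter, Finset.mem_univ, true_and] at hg ⊢
      exact fun hc => hg (by simpa using mul_mem hmM hc)
    · intro g hg
      simp only [Out, Finset.mem_coe, mem_filter, Finset.mem_univ, true_and] at hg ⊢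
      exact fun hc => hg (by simpa using mul_mem (inv_mem hmM) hc)
    · intro g _; group
    · intro g _; group
    · intro g _
      refine Finset.card_nbij' (fun c => m⁻¹ * c * m) (fun c => m * c * m⁻¹) ?_ ?_ ?_ ?_
      · intro c hc
        simp only [CD, DF, Finset.mem_coe, mem_filter, Finset.mem_univ, true_and] at hc ⊢
        refine ⟨⟨mul_mem (mul_mem (inv_mem hmM) hc.1.1) hmM, by simpa [mul_assoc] using hc.1.2⟩, ?_⟩
        calc m⁻¹ * c * m * I = m⁻¹ * (c * (m * I * m⁻¹)) * m := by group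
          _ = m⁻¹ * (m * I * m⁻¹ * c) * m := by rw [hm, hc.2]
          _ = I * (m⁻¹ * c * m) := by group
      · intro c hc
        simp only [CD, DF, Finset.mem_coe, mem_filter, Finset.mem_univ, true_and] at hc ⊢
        refine ⟨⟨mul_mem (mul_mem hmM hc.1.1) (inv_mem hmM), by simpa [mul_assoc] using hc.1.2⟩, ?_⟩
        rw [← hm]
        calc m * c * m⁻¹ * (m * I * m⁻¹) = m * (c * I) * m⁻¹ := by group
          _ = _ := by rw [hc.2]; group
      · intro c _; group
      · intro c _; group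
  let orb : S → Finset S := fun g => (DF g).image fun d => d * I * d⁻¹
  have horb : ∀ g, (DF g).card ≤ (CD I g).card * (orb g).card := by
    intro g
    refine Finset.card_le_mul_card_image _ _ fun a ha => ?_
    simp only [mem_image] at ha
    obtain ⟨d0, hd0, rfl⟩ := ha
    refine Finset.card_le_card_of_injOn (fun d => d0⁻¹ * d) ?_ ?_
    · intro d hd
      simp only [CD, DF, Finset.mem_coe, mem_filter, Finset.mem_univ, true_and] at hd hd0 ⊢
      refine ⟨⟨mul_mem (inv_mem hd0.1) hd.1.1, ?_⟩, ?_⟩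
      · rw [show g⁻¹ * (d0⁻¹ * d) * g = (g⁻¹ * d0 * g)⁻¹ * (g⁻¹ * d * g) by group]
        exact mul_mem (inv_mem hd0.2) hd.1.2
      · calc d0⁻¹ * d * I = d0⁻¹ * (d * I * d⁻¹) * d := by group
          _ = I * (d0⁻¹ * d) := by rw [hd.2]; group
    · intro a _ b _ hab
      exact mul_left_cancel hab
  have horbJ : ∀ g, orb g ⊆ J := by
    intro g a ha
    simp only [orb, DF, J, mem_image, mem_filter, Finset.mem_univ, true_and] at ha ⊢
    obtain ⟨d, hd, rfl⟩ := ha
    exact ⟨conj_involution hI, mul_mem (mul_mem hd.1 hIM) (inv_mem hd.1)⟩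
  have hle : ∀ g ∈ Out, (DF g).card ≤ J.card * (CD I g).card := fun g _ =>
    (horb g).trans ((Nat.mul_le_mul_left _ (Finset.card_le_card (horbJ g))).trans (le_of_eq (mul_comm _ _)))
  have htotal : ∑ g ∈ Out, J.card * (CD I g).card ≤ ∑ g ∈ Out, (DF g).card := by
    calc ∑ g ∈ Out, J.card * (CD I g).card = ∑ _t ∈ J, ∑ g ∈ Out, (CD I g).card := by
          rw [← Finset.mul_sum, Finset.sum_const, smul_eq_mul]
      _ = ∑ t ∈ J, ∑ g ∈ Out, (CD t g).card := Finset.sum_congr rfl fun t ht => (hQ t ht).symm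
      _ = ∑ g ∈ Out, ∑ t ∈ J, (CD t g).card := Finset.sum_comm
      _ ≤ ∑ g ∈ Out, (DF g).card := hswap ▸ Finset.sum_le_sum hA
  obtain ⟨g, hg⟩ : ∃ g, g ∉ M := by
    by_contra hc
    push Not at hc
    exact hne (eq_top_iff.2 fun g _ => hc g)
  have hgO : g ∈ Out := by simp [Out, hg]
  have heq : (DF g).card = J.card * (CD I g).card :=
    (Finset.sum_eq_sum_iff_of_le hle).1 (le_antisymm (Finset.sum_le_sum hle) htotal) g hgO
  have hpos : 0 < (CD I g).card := Finset.card_pos.2 ⟨1, by simp [CD, DF]⟩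
  have hfull : orb g = J := Finset.eq_of_subset_of_card_le (horbJ g)
    (Nat.le_of_mul_le_mul_left (by rw [mul_comm, ← heq]; exact horb g) hpos)
  refine ⟨M ⊓ M.map (MulAut.conj g).toMonoidHom, inf_le_left, hodd g hgO, fun m hm => ?_⟩
  have hmJ : m * I * m⁻¹ ∈ orb g := by
    rw [hfull]
    simp only [J, mem_filter, Finset.mem_univ, true_and]
    exact ⟨conj_involution hI, mul_mem (mul_mem hm hIM) (inv_mem hm)⟩
  simp only [orb, DF, mem_image, mem_filter, Finset.mem_univ, true_and] at hmJ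
  obtain ⟨a, ⟨haM, hag⟩, hae⟩ := hmJ
  refine ⟨a, ⟨haM, g⁻¹ * a * g, hag, by show g * (g⁻¹ * a * g) * g⁻¹ = a; group⟩, ?_⟩
  calc a⁻¹ * m * I = a⁻¹ * (m * I * m⁻¹) * m := by group
    _ = a⁻¹ * (a * I * a⁻¹) * m := by rw [hae]
    _ = I * (a⁻¹ * m) := by group

end CfsgLib.Balance
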