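import Cfsg.Agent.Lib.Balance.Orbit
import Cfsg.Agent.Lib.PLocal.HallHigman
import Cfsg.Agent.Lib.Solvable.CoprimeAction

/-!
A `p'`-subgroup generated by commutators with a `p`-group normalizes no Sylow `p`-subgroup of a `p`-solvable group.
-/

set_option autoImplicit false
set_option linter.style.haveILetI false

namespace CfsgLib.Balance

open Subgroup CfsgLib.Components

universe u

variable {p : ℕ}

theorem eq_bot_of_le_normalizer_sylow [hp : Fact p.Prime] :
    ∀ (n : ℕ) (G : Type u) [Group G] [Finite G], Nat.card G ≤ n → Cfsg.IsPSolvable p G →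
      ∀ {A Q : Subgroup G}, IsPGroup p A → (Nat.card Q).Coprime p → A ≤ normalizer (Q : Set G) →
        ⁅Q, A⁆ = Q → ∀ P : Sylow p G, Q ≤ normalizer ((P : Subgroup G) : Set G) → Q = ⊥ := by
  intro n
  induction n with
  | zero => intro G _ _ hc; exact absurd hc (Nat.card_pos.ne' ∘ Nat.le_zero.1)
  | succ n ih =>
  intro G _ _ hcard hs A Q hA hQ hAQ hcomm P hQP
  by_contra hne
  -- reduction modulo a nontrivial normal subgroup not containing `Q`
  have red : ∀ V : Subgroup G, V.Normal → V ≠ ⊥ → Q ≤ V := by
    intro V hV hVne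
    set f := QuotientGroup.mk' V with hf
    have hlt : Nat.card (G ⧸ V) ≤ n := by
      have h1 := card_eq_card_quotient_mul_card_subgroup V
      haveI := (nontrivial_iff_ne_bot V).2 hVne
      have h2 : 1 < Nat.card ↥V := Finite.one_lt_card
      have h3 : 0 < Nat.card (G ⧸ V) := Nat.card_pos
      nlinarith
    have h := ih (G ⧸ V) hlt (CfsgLib.PLoc.isPSolvable_of_surjective (QuotientGroup.mk'_surjective V) hs)
      (A := A.map f) (Q := Q.map f) (hA.map f) (hQ.coprime_dvd_left (card_map_dvd _ _))
      ((map_mono hAQ).trans (le_normalizer_map f)) (by rw [← map_commutator, hcomm])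
      (P.mapSurjective (f := f) (QuotientGroup.mk'_surjective V))
      (by rw [Sylow.coe_mapSurjective]; exact (map_mono hQP).trans (le_normalizer_map f))
    rwa [Subgroup.map_eq_bot_iff, QuotientGroup.ker_mk'] at h
  by_cases hO : Cfsg.pPrimeCore p G = ⊥
  · haveI : Nontrivial G := by
      by_contra h
      haveI := not_nontrivial_iff_subsingleton.1 h
      exact hne (eq_bot_of_subsingleton Q)
    have hpne : Cfsg.pCore p G ≠ ⊥ := by
      intro h
      have h1 := CfsgLib.PLoc.centralizer_pCore_le_self hs hO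
      rw [h] at h1
      obtain ⟨g, hg⟩ := exists_ne (1 : G)
      exact hg (mem_bot.1 (h1 (mem_centralizer_iff.2 fun x hx => by
        rw [SetLike.mem_coe, mem_bot] at hx; rw [hx, one_mul, mul_one])))
    refine hne (le_bot_iff.1 ?_)
    rw [← CfsgLib.PLoc.disjoint_of_pgroup_coprime (isPGroup_pCore (G := G) p) hQ]
    exact le_inf (red _ (Cfsg.pCore_normal p G) hpne) le_rfl
  · have hQV := red _ (Cfsg.pPrimeCore_normal p G) hO
    have hPQ : (P : Subgroup G) ≤ centralizer (Q : Set G) := by
      refine le_centralizer_of_commutator_eq_bot (le_bot_iff.1 ?_)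
      rw [← CfsgLib.PLoc.disjoint_of_pgroup_coprime P.2 (coprime_card_pPrimeCore (G := G) p)]
      haveI := Cfsg.pPrimeCore_normal p G
      exact le_inf (CfsgLib.Solvable.commutator_le_of_normalizes hQP)
        ((commutator_mono le_rfl hQV).trans (commutator_le_right _ _))
    -- every `p`-element of the normalizer centralizes `Q`
    refine hne ?_
    rw [← hcomm, commutator_comm, commutator_eq_bot_iff_le_centralizer]
    set N := normalizer (Q : Set G)
    set C := (centralizer (Q : Set G)).subgroupOf N with hC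
    haveI hCn : C.Normal := by
      rw [hC, ← normalizerMonoidHom_ker]; exact MonoidHom.normal_ker _
    have hCidx : ¬ p ∣ C.index := by
      intro h
      refine P.not_dvd_index (h.trans ?_)
      refine dvd_trans ?_ (index_dvd_of_le hPQ)
      rw [hC, ← relIndex_mul_index (centralizer_le_normalizer (Q : Set G))]
      exact dvd_mul_right _ _
    intro a ha
    obtain ⟨k, hk⟩ := hA ⟨a, ha⟩
    have hk' : a ^ p ^ k = 1 := congrArg Subtype.val hk
    have h1 : (QuotientGroup.mk' C ⟨a, hAQ ha⟩ : ↥N ⧸ C) = 1 := by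
      refine orderOf_eq_one_iff.1 (Nat.eq_one_of_dvd_coprimes
        (Nat.Coprime.pow_left k (hp.out.coprime_iff_not_dvd.2 hCidx)) (orderOf_dvd_of_pow_eq_one ?_)
        (orderOf_dvd_natCard _))
      rw [← map_pow, show (⟨a, hAQ ha⟩ : ↥N) ^ p ^ k = 1 from Subtype.ext hk', map_one]
    exact (QuotientGroup.eq_one_iff (⟨a, hAQ ha⟩ : ↥N)).1 h1

end CfsgLib.Balance
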