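import Cfsg.Prelude.Def_EvenTechniques
import Cfsg.Agent.Lib.Balance.Local
import Cfsg.Agent.Lib.Components.PLayer
import Cfsg.Agent.Lib.Components.Local
import Cfsg.Agent.S1304
import Cfsg.Prelude.Def_KGroupFacts

/-!
`p`-local subgroups: `O_{p'}(N(R))` and the `p`-layer of `N(R)` against the `p`-components of the group.
-/

set_option autoImplicit false
set_option linter.style.haveILetI false

namespace CfsgLib.Balance

open Subgroup CfsgLib.Components
open scoped commutatorElement

universe u

variable {H : Type u} [Group H] [Finite H] {p : ℕ}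

theorem subsingleton_of_perfect_solvable (G : Type*) [Group G] [Group.IsPerfect G] [Group.IsSolvable G] :
    Subsingleton G := by
  by_contra h
  haveI := not_subsingleton_iff_nontrivial.1 h
  exact Group.IsPerfect.not_isSolvable (G := G) inferInstance

theorem coreP_normalizer_le_centralizer [hp : Fact p.Prime] {R : Subgroup H} (hR : IsPGroup p R) :
    coreP p (normalizer (R : Set H)) ≤ centralizer (R : Set H) := by
  rw [le_centralizer_iff]
  refine le_centralizer_of_commutator_eq_bot (le_bot_iff.1 ?_)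
  have hd : R ⊓ coreP p (normalizer (R : Set H)) = ⊥ :=
    CfsgLib.PLoc.disjoint_of_pgroup_coprime hR (coreP_coprime p _)
  rw [← hd]
  refine le_inf (CfsgLib.Solvable.commutator_le_of_normalizes (coreP_le p _)) ?_
  rw [commutator_comm]
  exact CfsgLib.Solvable.commutator_le_of_normalizes (le_normalizer.trans (le_normalizer_coreP p _))

theorem coreP_normalizer_le_coreP_centralizer [hp : Fact p.Prime] {R : Subgroup H} (hR : IsPGroup p R) :
    coreP p (normalizer (R : Set H)) ≤ coreP p (centralizer (R : Set H)) := by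
  refine le_coreP (coreP_normalizer_le_centralizer hR) ?_ (coreP_coprime p _)
  refine le_trans ?_ (le_normalizer_coreP p (normalizer (R : Set H)))
  intro g hg
  rw [mem_normalizer_iff]
  intro x
  constructor
  · intro hx
    rwa [← mem_centralizer_iff.1 hg x hx, mul_inv_cancel_right]
  · intro hx
    have h := mem_centralizer_iff.1 hg _ hx
    rw [inv_mul_cancel_right] at h
    have h2 : g * x * g⁻¹ = x := mul_left_cancel (a := g) (by rw [← h])
    rwa [h2] at hx

/-- With `O_{p'}(H) = 1`: `O_{p'}(N(R))` centralizes `O_p(H)` and normalizes every component. -/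
theorem coreP_normalizer_facts [hp : Fact p.Prime] (hO : Cfsg.pPrimeCore p H = ⊥) {R : Subgroup H}
    (hR : IsPGroup p R) :
    coreP p (normalizer (R : Set H)) ≤ centralizer (Cfsg.pCore p H : Set H) ∧
      ∀ L : Subgroup H, Cfsg.IsComponent L → coreP p (normalizer (R : Set H)) ≤ normalizer (L : Set H) :=
  ⟨(coreP_normalizer_le_coreP_centralizer hR).trans (coreP_centralizer_le_centralizer_pCore hR),
    fun _ hL => ((coreP_normalizer_le_coreP_centralizer hR).trans (coreP_centralizer_le_coreP_inf hR)).trans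
      (coreP_le_normalizer_component hO hR hL)⟩

/-- `O_{p'}(N(R))` maps into `O_{p'}` of the normalizer in a quotient by a normal `p'`-subgroup. -/
theorem map_coreP_normalizer_le [hp : Fact p.Prime] {Q : Type u} [Group Q] [Finite Q] {f : H →* Q}
    (hf : Function.Surjective f) (hker : (Nat.card f.ker).Coprime p) {R : Subgroup H} (hR : IsPGroup p R) :
    (coreP p (normalizer (R : Set H))).map f ≤ coreP p (normalizer ((R.map f : Subgroup Q) : Set Q)) := by
  rw [CfsgLib.PLoc.normalizer_map_eq hf hker hR]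
  exact le_coreP (map_mono (coreP_le p _)) ((map_mono (le_normalizer_coreP p _)).trans (le_normalizer_map f))
    ((coreP_coprime p _).coprime_dvd_left (card_map_dvd _ _))

/-- `O_{p'}(N(R))` lies in the subgroup fixing all `p`-components and centralizing `O_p` modulo `O_{p'}`. -/
theorem coreP_normalizer_le_hatPLayer [hp : Fact p.Prime] {R : Subgroup H} (hR : IsPGroup p R) :
    coreP p (normalizer (R : Set H)) ≤ Cfsg.hatPLayer p H := by
  set f := QuotientGroup.mk' (Cfsg.pPrimeCore p H)
  have hker : (Nat.card f.ker).Coprime p := by rw [QuotientGroup.ker_mk']; exact coprime_card_pPrimeCore p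
  obtain ⟨h1, h2⟩ := coreP_normalizer_facts (p := p) (pPrimeCore_quotient_self (G := H) (p := p)) (hR.map f)
  have hle := map_coreP_normalizer_le (QuotientGroup.mk'_surjective _) hker hR
  intro x hx
  refine ⟨mem_iInf.2 fun K => mem_normalizer_pComponent K.2 ?_, h1 (hle ⟨x, hx, rfl⟩)⟩
  exact h2 _ K.2.2.1 (hle ⟨x, hx, rfl⟩)

/-- The orbit witness of a component under a `p`-subgroup. -/
theorem orbit_witness [hp : Fact p.Prime] (hO : Cfsg.pPrimeCore p H = ⊥) {R : Subgroup H} (hR : IsPGroup p R)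
    {L : Subgroup H} (hL : Cfsg.IsComponent L) :
    ∃ w ∈ Cfsg.layer H, (∀ r ∈ R, ⁅w, r⁆ ∈ Cfsg.pCore p H) ∧
      ∀ d ∈ centralizer (R : Set H), (orderOf (d * w * d⁻¹ * w⁻¹)).Coprime p →
        ∃ r ∈ R, L.map (MulAut.conj d).toMonoidHom = L.map (MulAut.conj r).toMonoidHom := by
  set M : Subgroup H := ⨆ r : R, L.map (MulAut.conj (r : H)).toMonoidHom with hMdef
  have hcomp : ∀ r : H, Cfsg.IsComponent (L.map (MulAut.conj r).toMonoidHom) := component_map_conj hL
  have hle : ∀ r : R, L.map (MulAut.conj (r : H)).toMonoidHom ≤ M :=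
    fun r => le_iSup (fun r : R => L.map (MulAut.conj (r : H)).toMonoidHom) r
  have hMlayer : M ≤ Cfsg.layer H := iSup_le fun r => component_le_layer (hcomp r)
  have hMsub : M.IsSubnormal := by
    refine isSubnormal_of_le_normalizer hMlayer ?_ (Normal.isSubnormal inferInstance)
    rw [le_normalizer_iff]
    intro e he k hk
    have h : M.map (MulAut.conj e).toMonoidHom ≤ M := by
      rw [hMdef, Subgroup.map_iSup]
      exact iSup_mono fun r =>
        (map_conj_eq_of_mem_normalizer (layer_le_normalizer_component (hcomp r) he)).le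
    exact h ⟨k, hk, rfl⟩
  have hperf : ⁅M, M⁆ = M := by
    refine le_antisymm (commutator_le_self M) (iSup_le fun r => ?_)
    conv_lhs => rw [← component_commutator_self (hcomp r)]
    exact commutator_mono (hle r) (hle r)
  have hne : M ≠ ⊥ := fun h => component_ne_bot (hcomp _) (le_bot_iff.1 (h ▸ hle 1))
  have hRM : R ≤ normalizer (M : Set H) := by
    rw [le_normalizer_iff]
    intro g hg k hk
    have h : M.map (MulAut.conj g).toMonoidHom ≤ M := by
      rw [hMdef, Subgroup.map_iSup]
      refine iSup_le fun r => ?_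
      rw [map_conj_conj]
      exact hle ⟨g * r, mul_mem hg r.2⟩
    exact h ⟨k, hk, rfl⟩
  obtain ⟨w, hwM, hwC, hwp, hwR⟩ := exists_modCentral hO hMsub hperf hne hR hRM
  refine ⟨w, hMlayer hwM, hwR, fun d hd hcop => ?_⟩
  by_contra hcon
  push Not at hcon
  have hcomm : M.map (MulAut.conj d).toMonoidHom ≤ centralizer (M : Set H) := by
    rw [hMdef, Subgroup.map_iSup]
    refine iSup_le fun r => ?_
    rw [le_centralizer_iff]
    refine iSup_le fun s => le_centralizer_of_commutator_eq_bot (component_commutator_of_ne (hcomp s) ?_ ?_)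
    · rw [map_conj_conj]; exact hcomp _
    · rw [map_conj_conj]
      intro h
      refine hcon ((r : H)⁻¹ * s) (mul_mem (inv_mem r.2) s.2) ?_
      have h' := congrArg (Subgroup.map (MulAut.conj (r : H)⁻¹).toMonoidHom) h
      rw [map_conj_conj, map_conj_conj] at h'
      rw [show (r : H)⁻¹ * (d * (r : H)) = d by rw [← mem_centralizer_iff.1 hd r r.2]; group] at h'
      exact h'.symm
  have hw' : d * w * d⁻¹ ∈ M.map (MulAut.conj d).toMonoidHom := ⟨w, hwM, rfl⟩
  have hc : Commute (d * w * d⁻¹) w⁻¹ :=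
    Commute.inv_right (mem_centralizer_iff.1 (hcomm hw') w hwM).symm
  obtain ⟨a, ha⟩ := hwp ⟨w, mem_zpowers w⟩
  have ha' : w ^ p ^ a = 1 := congrArg Subtype.val ha
  have hpow : (d * w * d⁻¹ * w⁻¹) ^ p ^ a = 1 := by
    rw [hc.mul_pow, conj_pow, inv_pow, ha']; simp
  have h1 : orderOf (d * w * d⁻¹ * w⁻¹) = 1 :=
    Nat.eq_one_of_dvd_coprimes (Nat.Coprime.pow_right a hcop) dvd_rfl (orderOf_dvd_of_pow_eq_one hpow)
  have h2 : d * w * d⁻¹ = w := mul_inv_eq_one.1 (orderOf_eq_one_iff.1 h1)
  rw [h2] at hw'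
  exact hwC (hcomm hw')

/-- A perfect `p`-component-like subgroup that is subnormal in `T` either lies in `V O_{p'}(T)` or
commutes with `V` modulo `O_{p'}(T)`, for `V` normal in `T`. -/
theorem le_sup_or_commutator_le [hp : Fact p.Prime] {K T V : Subgroup H} (hKT : K ≤ T)
    (hKs : (K.subgroupOf T).IsSubnormal) (hKq : Cfsg.IsQuasisimple (↥K ⧸ Cfsg.pPrimeCore p ↥K))
    (hVT : V ≤ T) (hVn : T ≤ normalizer (V : Set H)) :
    K ≤ V ⊔ coreP p T ∨ ⁅K, V⁆ ≤ coreP p T := by
  set f := QuotientGroup.mk' (Cfsg.pPrimeCore p ↥T)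
  set K' := K.subgroupOf T with hK'
  haveI hV' : (V.subgroupOf T).Normal := normal_subgroupOf_of_le_normalizer hVn
  let e : ↥K' ≃* ↥K := subgroupOfEquivOfLe hKT
  have hq' : Cfsg.IsQuasisimple (↥K' ⧸ Cfsg.pPrimeCore p ↥K') :=
    (quasisimple_congr (QuotientGroup.congr (Cfsg.pPrimeCore p ↥K') (Cfsg.pPrimeCore p ↥K) e
      (pPrimeCore_map_equiv p e))).2 hKq
  have hker : (f.comp K'.subtype).ker = Cfsg.pPrimeCore p ↥K' := by
    rw [pPrimeCore_subnormal_eq hKs]
    ext x
    simp [f, mem_subgroupOf, MonoidHom.mem_ker, QuotientGroup.eq_one_iff]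
  have hcomp : Cfsg.IsComponent (K'.map f) := by
    refine ⟨hKs.map (QuotientGroup.mk'_surjective _), ?_⟩
    have e2 := (QuotientGroup.quotientMulEquivOfEq hker.symm).trans (QuotientGroup.quotientKerEquivRange (f.comp K'.subtype))
    rw [MonoidHom.range_comp, range_subtype] at e2
    exact (quasisimple_congr e2).1 hq'
  have hmap : ∀ A B : Subgroup H, A ≤ T → B ≤ T → ∀ C : Subgroup ↥T,
      (A.subgroupOf T).map f ≤ C.map f → C = B.subgroupOf T → A ≤ B ⊔ coreP p T := by
    intro A B hA hB C h hC x hx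
    subst hC
    obtain ⟨y, hy, hyx⟩ := h ⟨⟨x, hA hx⟩, hx, rfl⟩
    have hz : y⁻¹ * ⟨x, hA hx⟩ ∈ Cfsg.pPrimeCore p ↥T := QuotientGroup.eq.1 hyx
    have : x = (y : H) * ((y⁻¹ * ⟨x, hA hx⟩ : ↥T) : H) := by simp
    rw [this]
    exact mul_mem_sup hy ⟨_, hz, rfl⟩
  rcases component_le_or_commutator_normal hcomp
    (Normal.map hV' f (QuotientGroup.mk'_surjective _)) with h | h
  · exact Or.inl (hmap K V hKT hVT _ h rfl)
  · right
    rw [← map_commutator, Subgroup.map_eq_bot_iff, QuotientGroup.ker_mk'] at h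
    have := map_mono (f := T.subtype) h
    rwa [map_commutator, map_subgroupOf_eq_of_le hKT, map_subgroupOf_eq_of_le hVT] at this

theorem le_centralizer_of_normal_pGroup [hp : Fact p.Prime] {K N U : Subgroup H} (hKN : K ≤ N)
    (hKs : (K.subgroupOf N).IsSubnormal) (hKperf : ⁅K, K⁆ = K)
    (hKq : Cfsg.IsQuasisimple (↥K ⧸ Cfsg.pPrimeCore p ↥K))
    (hU : IsPGroup p U) (hUN : U ≤ N) (hNU : N ≤ normalizer (U : Set H)) : K ≤ centralizer (U : Set H) := by
  refine le_centralizer_of_commutator_eq_bot (le_bot_iff.1 ?_)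
  have hd : U ⊓ coreP p N = ⊥ := CfsgLib.PLoc.disjoint_of_pgroup_coprime hU (coreP_coprime p _)
  have hU' : ⁅K, U⁆ ≤ U := by
    rw [commutator_comm]; exact CfsgLib.Solvable.commutator_le_of_normalizes (hKN.trans hNU)
  rcases le_sup_or_commutator_le hKN hKs hKq hUN hNU with h | h
  · -- then `K` is perfect and lies in a `p`-group times `p'`-group
    have hUc : coreP p N ≤ centralizer (U : Set H) := by
      refine le_centralizer_of_commutator_eq_bot (le_bot_iff.1 ?_)
      rw [← hd]
      refine le_inf ?_ (CfsgLib.Solvable.commutator_le_of_normalizes (hUN.trans (le_normalizer_coreP p N)))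
      rw [commutator_comm]
      exact CfsgLib.Solvable.commutator_le_of_normalizes ((coreP_le p N).trans hNU)
    have hKo : K ≤ coreP p N := by
      have hn : U ⊔ coreP p N ≤ normalizer (coreP p N : Set H) :=
        sup_le (hUN.trans (le_normalizer_coreP p N)) le_normalizer
      haveI : (coreP p N).subgroupOf (U ⊔ coreP p N) |>.Normal := normal_subgroupOf_of_le_normalizer hn
      have hsolv : Group.IsSolvable (↥(U ⊔ coreP p N) ⧸ (coreP p N).subgroupOf (U ⊔ coreP p N)) := by
        haveI : Group.IsNilpotent ↥U := hU.isNilpotent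
        refine Group.isSolvable_of_surjective (f := (QuotientGroup.mk' ((coreP p N).subgroupOf (U ⊔ coreP p N))).comp
          (inclusion le_sup_left)) ?_
        intro q
        obtain ⟨⟨x, hx⟩, rfl⟩ := QuotientGroup.mk_surjective q
        obtain ⟨o, ho, u, hu, rfl⟩ := (CfsgLib.Solvable.mem_sup_of_le_normalizer (H := U)
          (hUN.trans (le_normalizer_coreP p N))).1 (sup_comm U (coreP p N) ▸ hx)
        refine ⟨⟨u, hu⟩, QuotientGroup.eq.2 ?_⟩
        show u⁻¹ * (o * u) ∈ coreP p N
        simpa [mul_assoc] using (mem_normalizer_iff.1 (inv_mem (le_normalizer_coreP p N (hUN hu))) o).1 ho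
      intro x hx
      by_contra hxo
      set f := (QuotientGroup.mk' ((coreP p N).subgroupOf (U ⊔ coreP p N))).comp (inclusion h)
      have hfx : f ⟨x, hx⟩ ≠ 1 := fun hh => hxo ((QuotientGroup.eq_one_iff _).1 hh : _)
      haveI : Group.IsSolvable ↥f.range := inferInstance
      haveI : Group.IsPerfect ↥K := Subgroup.isPerfect_iff.2 hKperf
      haveI : Group.IsPerfect ↥f.range := Group.IsPerfect.ofSurjective f.rangeRestrict_surjective
      haveI := subsingleton_of_perfect_solvable ↥f.range
      exact hfx (congrArg Subtype.val (Subsingleton.elim (⟨f ⟨x, hx⟩, ⟨_, rfl⟩⟩ : f.range) 1))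
    rw [commutator_eq_bot_iff_le_centralizer.2 (hKo.trans hUc)]
  · rw [← hd]
    exact le_inf hU' h

/-- Every perfect `p`-component-like subnormal subgroup of `N(R)` centralizes `R` and `O_p(H)`. -/
theorem le_centralizer_R_pCore [hp : Fact p.Prime] {R K : Subgroup H} (hR : IsPGroup p R)
    (hKN : K ≤ normalizer (R : Set H)) (hKs : (K.subgroupOf (normalizer (R : Set H))).IsSubnormal)
    (hKperf : ⁅K, K⁆ = K) (hKq : Cfsg.IsQuasisimple (↥K ⧸ Cfsg.pPrimeCore p ↥K)) :
    K ≤ centralizer (R : Set H) ⊓ centralizer (Cfsg.pCore p H : Set H) := by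
  have h1 := le_centralizer_of_normal_pGroup hKN hKs hKperf hKq hR le_normalizer le_rfl
  refine le_inf h1 (perfect_le_centralizer_pCore hR hKperf h1 fun x hx v hv hvR => ?_)
  have hn : normalizer (R : Set H) ≤
      normalizer ((Cfsg.pCore p H ⊓ normalizer (R : Set H) : Subgroup H) : Set H) := by
    rw [le_normalizer_iff]
    intro g hg y hy
    exact ⟨(Cfsg.pCore_normal p H).conj_mem y hy.1 g,
      (normalizer (R : Set H)).mul_mem ((normalizer (R : Set H)).mul_mem hg hy.2) (inv_mem hg)⟩
  have h2 := le_centralizer_of_normal_pGroup hKN hKs hKperf hKq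
    (U := Cfsg.pCore p H ⊓ normalizer (R : Set H)) ((isPGroup_pCore p).to_le inf_le_left) inf_le_right hn hx
  refine (mem_centralizer_iff.1 h2 v ⟨hv, ?_⟩).symm
  show v ∈ normalizer (R : Set H)
  rw [mem_normalizer_iff]
  intro y
  constructor
  · intro hy
    rwa [← mem_centralizer_iff.1 hvR y hy, mul_inv_cancel_right]
  · intro hy
    have h := mem_centralizer_iff.1 hvR _ hy
    rw [inv_mul_cancel_right] at h
    rwa [mul_left_cancel (h : v * y = v * (v * y * v⁻¹))]

/-- With `O_{p'}(H) = 1`, such subgroups normalize every component. -/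
theorem local_le_normalizer_component [hp : Fact p.Prime] (hO : Cfsg.pPrimeCore p H = ⊥) {R K : Subgroup H}
    (hR : IsPGroup p R) (hKN : K ≤ normalizer (R : Set H))
    (hKs : (K.subgroupOf (normalizer (R : Set H))).IsSubnormal)
    (hKperf : ⁅K, K⁆ = K) (hKq : Cfsg.IsQuasisimple (↥K ⧸ Cfsg.pPrimeCore p ↥K))
    {L : Subgroup H} (hL : Cfsg.IsComponent L) : K ≤ normalizer (L : Set H) := by
  set C0 := centralizer (R : Set H) ⊓ centralizer (Cfsg.pCore p H : Set H) with hC0
  have hKC0 : K ≤ C0 := le_centralizer_R_pCore hR hKN hKs hKperf hKq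
  set q := QuotientGroup.mk' (Cfsg.pCore p H) with hq
  set V := Cfsg.layer H ⊓ (centralizer ((R.map q : Subgroup _) : Set _)).comap q with hV
  have hVmem : ∀ v ∈ V, ∀ r ∈ R, ⁅v, r⁆ ∈ Cfsg.pCore p H := by
    intro v hv r hr
    rw [← QuotientGroup.eq_one_iff]
    show q ⁅v, r⁆ = 1
    rw [map_commutatorElement, commutatorElement_eq_one_iff_mul_comm]
    exact (mem_centralizer_iff.1 hv.2 _ ⟨r, hr, rfl⟩).symm
  have hVC0 : V ≤ normalizer (C0 : Set H) := fun v hv => mem_normalizer_of_modCentral (hVmem v hv)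
  have hC0V : C0 ≤ normalizer (V : Set H) := by
    rw [le_normalizer_iff]
    intro c hc v hv
    refine ⟨(layer_normal_inst (G := H)).conj_mem v hv.1 c, ?_⟩
    show q (c * v * c⁻¹) ∈ centralizer ((R.map q : Subgroup _) : Set _)
    rw [mem_centralizer_iff]
    rintro _ ⟨r, hr, rfl⟩
    have h1 : Commute (q r) (q c) := Commute.map (mem_centralizer_iff.1 hc.1 r hr) q
    rw [map_mul, map_mul, map_inv]
    exact ((h1.mul_right (mem_centralizer_iff.1 hv.2 _ ⟨r, hr, rfl⟩ : Commute (q r) (q v))).mul_right h1.inv_right).eq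
  set T := C0 ⊔ V with hT
  have hTV : T ≤ normalizer (V : Set H) := sup_le hC0V le_normalizer
  have hC0T : T ≤ normalizer (C0 : Set H) := sup_le le_normalizer hVC0
  have hC0N : C0 ≤ normalizer (R : Set H) := by
    rw [le_normalizer_iff]
    intro c hc r hr
    rwa [← mem_centralizer_iff.1 hc.1 r hr, mul_inv_cancel_right]
  have hKsT : (K.subgroupOf T).IsSubnormal := by
    refine Subgroup.IsSubnormal.trans (K := C0.subgroupOf T) (comap_mono hKC0) ?_
      (normal_subgroupOf_of_le_normalizer hC0T).isSubnormal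
    exact hKs.comap ((inclusion hC0N).comp ((subgroupOfEquivOfLe (le_sup_left : C0 ≤ T)).toMonoidHom))
  have hVL : V ≤ normalizer (L : Set H) := inf_le_left.trans (layer_le_normalizer_component hL)
  rcases le_sup_or_commutator_le (hKC0.trans le_sup_left) hKsT hKq le_sup_right hTV with h | h
  · conv_lhs => rw [← hKperf]
    rw [commutator_le]
    intro k hk k' hk'
    have hOn : coreP p T ≤ normalizer (V : Set H) := (coreP_le p T).trans hTV
    obtain ⟨v, hv, o, ho, rfl⟩ := (CfsgLib.Solvable.mem_sup_of_le_normalizer hOn).1 (h hk)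
    have h1 : ⁅o, k'⁆ ∈ normalizer (L : Set H) := by
      have hle : coreP p T ⊓ C0 ≤ coreP p C0 := by
        refine le_coreP inf_le_right ?_ ((coreP_coprime p T).coprime_dvd_left (card_dvd_of_le inf_le_left))
        rw [le_normalizer_iff]
        intro g hg y hy
        exact ⟨le_normalizer_iff.1 (le_normalizer_coreP p T) g (mem_sup_left hg) y hy.1,
          C0.mul_mem (C0.mul_mem hg hy.2) (inv_mem hg)⟩
      refine coreP_le_normalizer_component hO hR hL (hle ⟨?_, ?_⟩)
      · exact CfsgLib.Solvable.commutator_le_of_normalizes ((hKC0.trans le_sup_left).trans (le_normalizer_coreP p T))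
          (commutator_mem_commutator ho hk')
      · show ⁅o, k'⁆ ∈ C0
        exact mul_mem (le_normalizer_iff.1 hC0T o (coreP_le p T ho) k' (hKC0 hk')) (inv_mem (hKC0 hk'))
    have h2 : ⁅v, k'⁆ ∈ V := CfsgLib.Solvable.commutator_le_of_normalizes (hKC0.trans hC0V)
      (commutator_mem_commutator hv hk')
    rw [show ⁅v * o, k'⁆ = v * ⁅o, k'⁆ * v⁻¹ * ⁅v, k'⁆ by simp only [commutatorElement_def]; group]
    exact mul_mem (mul_mem (mul_mem (hVL hv) h1) (inv_mem (hVL hv))) (hVL h2)
  · obtain ⟨w, hwE, hwR, hwit⟩ := orbit_witness hO hR hL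
    have hwV : w ∈ V := by
      refine ⟨hwE, ?_⟩
      show q w ∈ centralizer ((R.map q : Subgroup _) : Set _)
      rw [mem_centralizer_iff]
      rintro _ ⟨r, hr, rfl⟩
      have h3 : q ⁅w, r⁆ = 1 := (QuotientGroup.eq_one_iff _).2 (hwR r hr)
      rw [map_commutatorElement, commutatorElement_eq_one_iff_mul_comm] at h3
      exact h3.symm
    refine le_of_coprime_orderOf_mem (p := p) hKperf fun d hdK hdp => ?_
    have hdR : d ∈ centralizer (R : Set H) := (hKC0 hdK).1
    have hcop : (orderOf (d * w * d⁻¹ * w⁻¹)).Coprime p :=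
      (coreP_coprime p T).coprime_dvd_left
        (Subgroup.orderOf_dvd_natCard _ (h (commutator_mem_commutator hdK hwV)))
    obtain ⟨r₀, hr₀, heq⟩ := hwit d hdR hcop
    have hdr : r₀ * d = d * r₀ := mem_centralizer_iff.1 hdR r₀ hr₀
    have hg : r₀⁻¹ * d ∈ normalizer (L : Set H) := by
      rw [mem_normalizer_iff_map_conj_eq]
      show L.map (MulAut.conj (r₀⁻¹ * d)).toMonoidHom = L
      rw [← map_conj_conj, heq, map_conj_conj, inv_mul_cancel, map_conj_one]
    obtain ⟨a, ha⟩ := hR ⟨r₀, hr₀⟩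
    have ha' : r₀ ^ p ^ a = 1 := congrArg Subtype.val ha
    have hdk : d ^ p ^ a ∈ normalizer (L : Set H) := by
      have := pow_mem hg (p ^ a)
      rwa [(Commute.inv_left (hdr : Commute r₀ d)).mul_pow, inv_pow, ha', inv_one, one_mul] at this
    obtain ⟨m, hm⟩ := exists_pow_eq_self_of_coprime (x := d) (n := p ^ a) ((Nat.Coprime.pow_right a hdp).symm)
    rw [← hm]
    exact pow_mem hdk m

/-- Automorphisms act on the quotient by the centre. -/
def autCenterQuot (L : Type u) [Group L] : MulAut L →* MulAut (L ⧸ center L) :=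
  MonoidHom.mk' (fun α => QuotientGroup.congr (center L) (center L) α
    (Subgroup.characteristic_iff_map_eq.1 inferInstance α)) fun α β => by
      ext x
      obtain ⟨y, rfl⟩ := QuotientGroup.mk_surjective x
      rfl

/-- If `Out(L/Z(L))` is solvable, a perfect subgroup normalizing the perfect group `L` lies in `L C(L)`. -/
theorem perfect_le_sup_centralizer {L K : Subgroup H} (hLperf : ⁅L, L⁆ = L) (hKperf : ⁅K, K⁆ = K)
    (hKL : K ≤ normalizer (L : Set H)) (hout : Group.IsSolvable (Cfsg.Out (↥L ⧸ center ↥L))) :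
    K ≤ L ⊔ centralizer (L : Set H) := by
  set g : ↥K →* Cfsg.Out (↥L ⧸ center ↥L) :=
    (QuotientGroup.mk' (Cfsg.Inn (↥L ⧸ center ↥L))).comp
      ((autCenterQuot ↥L).comp (L.normalizerMonoidHom.comp (inclusion hKL))) with hg
  haveI : Group.IsPerfect ↥K := Subgroup.isPerfect_iff.2 hKperf
  haveI : Group.IsPerfect ↥g.range := Group.IsPerfect.ofSurjective g.rangeRestrict_surjective
  haveI : Group.IsSolvable ↥g.range := inferInstance
  haveI := subsingleton_of_perfect_solvable ↥g.range
  intro k hk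
  have h1 : g ⟨k, hk⟩ = 1 := congrArg Subtype.val (Subsingleton.elim (⟨g ⟨k, hk⟩, ⟨_, rfl⟩⟩ : g.range) 1)
  obtain ⟨l', hl'⟩ := (QuotientGroup.eq_one_iff _).1 h1
  obtain ⟨l, rfl⟩ := QuotientGroup.mk_surjective l'
  set c := (l : H)⁻¹ * k with hc
  have hcN : c ∈ normalizer (L : Set H) := mul_mem (inv_mem (le_normalizer l.2)) (hKL hk)
  have hcC : c ∈ centralizer (L : Set H) := by
    refine (normalizerMonoidHom_eq_one_iff ⟨c, hcN⟩).1 (MulEquiv.ext fun x => ?_)
    refine Cfsg.Agent.S1304.result (Subgroup.isPerfect_iff.2 hLperf).1 _ ?_ x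
    intro y
    have h2 : (MulAut.conj ((l : ↥L) : ↥L ⧸ center ↥L)) ((y : ↥L) : ↥L ⧸ center ↥L) =
        (QuotientGroup.mk (L.normalizerMonoidHom (inclusion hKL ⟨k, hk⟩) y) : ↥L ⧸ center ↥L) :=
      DFunLike.congr_fun hl' ((y : ↥L) : ↥L ⧸ center ↥L)
    have h3 : (QuotientGroup.mk (L.normalizerMonoidHom ⟨c, hcN⟩ y) : ↥L ⧸ center ↥L) = QuotientGroup.mk y := by
      have h4 : L.normalizerMonoidHom ⟨c, hcN⟩ y = l⁻¹ * L.normalizerMonoidHom (inclusion hKL ⟨k, hk⟩) y * l := by
        apply Subtype.ext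
        show c * (y : H) * c⁻¹ = (l : H)⁻¹ * (k * y * k⁻¹) * l
        rw [hc]; group
      rw [h4, QuotientGroup.mk_mul, QuotientGroup.mk_mul, ← h2, MulAut.conj_apply, QuotientGroup.mk_inv]
      group
    have h5 := QuotientGroup.eq.1 h3.symm
    have := (Subgroup.Normal.mem_comm (inferInstance : (center ↥L).Normal) h5)
    exact this
  rw [show k = (l : H) * c by rw [hc]; group]
  exact mul_mem_sup l.2 hcC

/-- L-balance in a group with trivial `p'`-core under the Schreier hypothesis. -/
theorem local_le_layer [hp : Fact p.Prime] (hO : Cfsg.pPrimeCore p H = ⊥)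
    (hS : ∀ L : Subgroup H, Cfsg.IsComponent L → Group.IsSolvable (Cfsg.Out (↥L ⧸ center ↥L)))
    {R K : Subgroup H} (hR : IsPGroup p R) (hKN : K ≤ normalizer (R : Set H))
    (hKs : (K.subgroupOf (normalizer (R : Set H))).IsSubnormal)
    (hKperf : ⁅K, K⁆ = K) (hKq : Cfsg.IsQuasisimple (↥K ⧸ Cfsg.pPrimeCore p ↥K)) :
    K ≤ Cfsg.layer H := by
  classical
  have hKO : K ≤ centralizer (Cfsg.pCore p H : Set H) := (le_centralizer_R_pCore hR hKN hKs hKperf hKq).trans inf_le_right
  have key : ∀ s : Finset {L : Subgroup H // Cfsg.IsComponent L}, ∀ k ∈ K,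
      ∃ e ∈ Cfsg.layer H, (∀ L : {L : Subgroup H // Cfsg.IsComponent L}, L ∉ s → e ∈ centralizer (L.1 : Set H)) ∧
        ∀ L ∈ s, e⁻¹ * k ∈ centralizer ((L : Subgroup H) : Set H) := by
    intro s
    induction s using Finset.induction with
    | empty => exact fun k _ => ⟨1, one_mem _, fun L _ => one_mem _, by simp⟩
    | @insert L s hLs ih =>
      intro k hk
      obtain ⟨e, he, heC, hes⟩ := ih k hk
      have hmem : e⁻¹ * k ∈ L.1 ⊔ centralizer (L.1 : Set H) :=
        mul_mem (mem_sup_right (inv_mem (heC L hLs))) (perfect_le_sup_centralizer (component_commutator_self L.2)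
          hKperf (local_le_normalizer_component hO hR hKN hKs hKperf hKq L.2) (hS L.1 L.2) hk)
      have hcn : centralizer (L.1 : Set H) ≤ normalizer (L.1 : Set H) := by
        rw [le_normalizer_iff]
        intro c hc l hl
        rwa [← mem_centralizer_iff.1 hc l hl, mul_inv_cancel_right]
      obtain ⟨l, hl, c, hc, hlc⟩ := (CfsgLib.Solvable.mem_sup_of_le_normalizer hcn).1 hmem
      have hdist : ∀ M : {L : Subgroup H // Cfsg.IsComponent L}, M ≠ L → l ∈ centralizer (M.1 : Set H) :=
        fun M hM => le_centralizer_of_commutator_eq_bot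
          (component_commutator_of_ne L.2 M.2 fun h => hM (Subtype.ext h.symm)) hl
      have hc' : (e * l)⁻¹ * k = c := by rw [mul_inv_rev, mul_assoc, ← hlc, inv_mul_cancel_left]
      refine ⟨e * l, mul_mem he (component_le_layer L.2 hl), fun M hM => ?_, fun M hM => ?_⟩
      · rw [Finset.mem_insert, not_or] at hM
        exact mul_mem (heC M hM.2) (hdist M hM.1)
      · rw [hc']
        rcases Finset.mem_insert.1 hM with rfl | hMs
        · exact hc
        · rw [show c = l⁻¹ * (e⁻¹ * k) by rw [← hlc]; group]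
          exact mul_mem (inv_mem (hdist M fun h => hLs (h ▸ hMs))) (hes M hMs)
  haveI : Fintype {L : Subgroup H // Cfsg.IsComponent L} := Fintype.ofFinite _
  have hsup : K ≤ Cfsg.layer H ⊔ Cfsg.pCore p H := by
    intro k hk
    obtain ⟨e, he, -, hes⟩ := key Finset.univ k hk
    have hcF : e⁻¹ * k ∈ centralizer (Cfsg.generalizedFittingSubgroup H : Set H) := by
      have h1 : Cfsg.generalizedFittingSubgroup H ≤ centralizer ({e⁻¹ * k} : Set H) := by
        refine sup_le (sSup_le fun L hL => fun x hx => ?_) ?_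
        · rw [mem_centralizer_singleton_iff]
          exact mem_centralizer_iff.1 (hes ⟨L, hL⟩ (Finset.mem_univ _)) x hx
        · refine (fitting_le_pCore hO).trans fun x hx => ?_
          rw [mem_centralizer_singleton_iff]
          exact mem_centralizer_iff.1 (mul_mem (inv_mem (layer_le_centralizer_pCore p he)) (hKO hk)) x hx
      rw [mem_centralizer_iff]
      exact fun x hx => mem_centralizer_singleton_iff.1 (h1 hx)
    have h2 : e⁻¹ * k ∈ Cfsg.pCore p H :=
      center_le_pCore hO (Normal.isSubnormal inferInstance) ⟨centralizer_genFitting_le hcF, hcF⟩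
    rw [show k = e * (e⁻¹ * k) by group]
    exact mul_mem_sup he h2
  have hle : (Cfsg.layer H ⊔ Cfsg.pCore p H).map (QuotientGroup.mk' (Cfsg.layer H)) =
      (Cfsg.pCore p H).map (QuotientGroup.mk' (Cfsg.layer H)) := by
    rw [Subgroup.map_sup, QuotientGroup.map_mk'_self, bot_sup_eq]
  set P' := (Cfsg.pCore p H).map (QuotientGroup.mk' (Cfsg.layer H))
  set K' := K.map (QuotientGroup.mk' (Cfsg.layer H))
  have hK'P : K' ≤ P' := (map_mono hsup).trans hle.le
  have hP' : IsPGroup p ↥K' := ((isPGroup_pCore p).map _).to_le hK'P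
  haveI : Group.IsPerfect ↥K' :=
    Subgroup.isPerfect_iff.2 (by rw [← map_commutator, hKperf])
  haveI : Group.IsNilpotent ↥K' := hP'.isNilpotent
  have : K' = ⊥ := by
    haveI := subsingleton_of_perfect_solvable ↥K'
    exact eq_bot_of_subsingleton _
  rwa [Subgroup.map_eq_bot_iff, QuotientGroup.ker_mk'] at this

/-- L-balance: `L_{p'}(N(R)) ≤ L_{p'}` when components modulo `O_{p'}` satisfy the Schreier property. -/
theorem pLayer_normalizer_le [hp : Fact p.Prime]
    (hS : ∀ L : Subgroup (H ⧸ Cfsg.pPrimeCore p H), Cfsg.IsComponent L →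
      Group.IsSolvable (Cfsg.Out (↥L ⧸ center ↥L)))
    {R : Subgroup H} (hR : IsPGroup p R) :
    (Cfsg.pLayer p ↥(normalizer (R : Set H))).map (normalizer (R : Set H)).subtype ≤ Cfsg.pLayer p H := by
  rw [Cfsg.pLayer, map_le_iff_le_comap]
  refine sSup_le fun K (hK : Cfsg.IsPComponent p K) => ?_
  rw [← map_le_iff_le_comap]
  let N := normalizer (R : Set H)
  set f := QuotientGroup.mk' (Cfsg.pPrimeCore p H)
  have hfs : Function.Surjective f := QuotientGroup.mk'_surjective _
  have hker : (Nat.card f.ker).Coprime p := by rw [QuotientGroup.ker_mk']; exact coprime_card_pPrimeCore p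
  set g : ↥N →* ↥(normalizer ((R.map f : Subgroup _) : Set (H ⧸ Cfsg.pPrimeCore p H))) :=
    (f.comp N.subtype).codRestrict _ fun x => by
      rw [CfsgLib.PLoc.normalizer_map_eq hfs hker hR]; exact ⟨x, x.2, rfl⟩
  have hgs : Function.Surjective g := by
    rintro ⟨y, hy⟩
    rw [CfsgLib.PLoc.normalizer_map_eq hfs hker hR] at hy
    obtain ⟨x, hx, rfl⟩ := hy
    exact ⟨⟨x, hx⟩, rfl⟩
  set K1 := K.map N.subtype with hK1
  set K2 := (K.map g).map (normalizer ((R.map f : Subgroup _) : Set (H ⧸ Cfsg.pPrimeCore p H))).subtype with hK2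
  have hK2' : K2 = K1.map f := by rw [hK2, hK1, Subgroup.map_map, Subgroup.map_map]; rfl
  have hK2sub : K2.subgroupOf (normalizer ((R.map f : Subgroup _) : Set (H ⧸ Cfsg.pPrimeCore p H))) = K.map g :=
    comap_map_eq_self_of_injective (Subgroup.subtype_injective _) _
  have hperf : ⁅K1, K1⁆ = K1 := by rw [hK1, ← map_commutator, pComponent_commutator_self hK]
  have hgen : pElements p K1 = K1 := by
    rw [hK1, ← map_pElements_of_injective _ (Subgroup.subtype_injective _), pElements_pComponent hK]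
  have hgen2 : pElements p K2 = K2 := by rw [hK2', ← map_pElements_eq, hgen]
  let φ : ↥K →* ↥K2 := (f.comp (N.subtype.comp K.subtype)).codRestrict K2
    fun x => hK2' ▸ ⟨(x : H), ⟨x, x.2, rfl⟩, rfl⟩
  have hφ : Function.Surjective φ := by
    rintro ⟨y, hy⟩
    rw [hK2'] at hy
    obtain ⟨_, ⟨x, hx, rfl⟩, rfl⟩ := hy
    exact ⟨⟨x, hx⟩, rfl⟩
  have hq : Cfsg.IsQuasisimple (↥K2 ⧸ Cfsg.pPrimeCore p ↥K2) := by
    let ψ : ↥K →* ↥K2 ⧸ Cfsg.pPrimeCore p ↥K2 := (QuotientGroup.mk' _).comp φ
    have hψ : Function.Surjective ψ := (QuotientGroup.mk'_surjective _).comp hφ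
    have hle : Cfsg.pPrimeCore p ↥K ≤ ψ.ker := by
      intro x hx
      have : φ x ∈ Cfsg.pPrimeCore p ↥K2 :=
        le_pPrimeCore_of_normal (Normal.map (Cfsg.pPrimeCore_normal p ↥K) φ hφ)
          ((coprime_card_pPrimeCore p).coprime_dvd_left (card_map_dvd _ _)) ⟨x, hx, rfl⟩
      exact (QuotientGroup.eq_one_iff _).2 this
    haveI : Nontrivial (↥K2 ⧸ Cfsg.pPrimeCore p ↥K2) := by
      refine QuotientGroup.nontrivial_iff.2 fun htop => ?_
      have hc : (Nat.card ↥K2).Coprime p := by
        have := coprime_card_pPrimeCore (G := ↥K2) p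
        rwa [htop, card_top] at this
      have hbot : K2 = ⊥ := by
        rw [← hgen2, eq_bot_iff, pElements_le_iff]
        intro x hx k hk
        exact orderOf_eq_one_iff.1 (Nat.eq_one_of_dvd_coprimes (Nat.Coprime.pow_right k hc)
          (Subgroup.orderOf_dvd_natCard _ hx) (orderOf_dvd_of_pow_eq_one hk))
      rw [hK2', Subgroup.map_eq_bot_iff, QuotientGroup.ker_mk'] at hbot
      have h0 : K1 = ⊥ := by
        rw [← hgen, eq_bot_iff, pElements_le_iff]
        intro x hx k hk
        exact orderOf_eq_one_iff.1 (Nat.eq_one_of_dvd_coprimes (Nat.Coprime.pow_right k (coprime_card_pPrimeCore p))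
          (Subgroup.orderOf_dvd_natCard _ (hbot hx)) (orderOf_dvd_of_pow_eq_one hk))
      rw [hK1, map_eq_bot_iff_of_injective _ N.subtype_injective] at h0
      exact pComponent_not_le_core hK (h0.le.trans bot_le)
    exact quasisimple_of_surjective (pComponent_quotient_quasisimple hK)
      (f := QuotientGroup.lift _ ψ hle) (QuotientGroup.lift_surjective_of_surjective _ _ hψ _)
  have hlayer : K1.map f ≤ Cfsg.layer (H ⧸ Cfsg.pPrimeCore p H) := by
    rw [← hK2']
    refine local_le_layer pPrimeCore_quotient_self hS (hR.map f) (map_subtype_le _) ?_ ?_ hq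
    · rw [hK2sub]; exact hK.1.map hgs
    · rw [hK2', ← map_commutator, hperf]
  have hle2 : K1 ≤ Cfsg.pLayer p H ⊔ Cfsg.pPrimeCore p H := by
    rw [← pLayer_comap_mk]; exact map_le_iff_le_comap.1 hlayer
  rw [← hgen]
  refine le_trans (pElements_mono hle2) (pElements_le_of_isSubnormal (Normal.isSubnormal inferInstance) ?_)
  rw [sup_comm, relIndex_sup_right]
  exact (coprime_card_pPrimeCore p).coprime_dvd_left (relIndex_dvd_card _ _)

end CfsgLib.Balance
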