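import Mathlib

/-!
Transfer of a central involution with a single central conjugate.
-/

set_option autoImplicit false

namespace CfsgLib.CentralTransfer

open Subgroup MonoidHom

variable {G : Type*} [Group G] [Finite G] {A : Type*} [CommGroup A]

theorem transfer_ne_one (H : Subgroup G) (hX : IsPGroup 2 H) (hidx : ¬ 2 ∣ H.index) (φ : ↥H →* A) {r : G}
    (hrX : r ∈ H) (hr : r * r = 1) (hφ : φ ⟨r, hrX⟩ ≠ 1)
    (hc : ∀ u ∈ H, u * r = r * u)
    (hA : ∀ y : A, y * y = 1 → y = 1 ∨ y = φ ⟨r, hrX⟩)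
    (huniq : ∀ x : G, (∀ u ∈ H, x⁻¹ * u * x ∈ H) →
      ∀ h : x⁻¹ * r * x ∈ H, φ ⟨x⁻¹ * r * x, h⟩ = φ ⟨r, hrX⟩) :
    MonoidHom.transfer φ r ≠ 1 := by
  classical
  haveI : Fintype (G ⧸ H) := Fintype.ofFinite _
  let T : H.LeftTransversal := ⟨Set.range Quotient.out, isComplement_range_left fun q => q.out_eq⟩
  let a := φ ⟨r, hrX⟩
  have ha : a = φ ⟨r, hrX⟩ := rfl
  have ha2 : a * a = 1 := by
    rw [ha, ← map_mul, show (⟨r, hrX⟩ : H) * ⟨r, hrX⟩ = 1 from Subtype.ext hr, map_one]
  have hinv : r⁻¹ = r := inv_eq_of_mul_eq_one_right hr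
  have hmem : ∀ q : G ⧸ H, q.out⁻¹ * (r * (r • q).out) ∈ H := by
    intro q
    rw [← QuotientGroup.eq, QuotientGroup.out_eq']
    show q = r • (((r • q).out : G) : G ⧸ H)
    rw [QuotientGroup.out_eq', ← mul_smul, hr, one_smul]
  let term : G ⧸ H → A := fun q => φ ⟨q.out⁻¹ * (r * (r • q).out), hmem q⟩
  have hval : MonoidHom.transfer φ r = ∏ q, term q := by
    rw [MonoidHom.transfer_def φ T r]
    show Finset.prod _ _ = _
    refine Finset.prod_congr (by ext; simp) fun q _ => ?_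
    refine congrArg φ (Subtype.ext ?_)
    show ((T.2.leftQuotientEquiv q : G))⁻¹ * ((r • T).2.leftQuotientEquiv q : G) = _
    rw [smul_apply_eq_smul_apply_inv_smul, hinv, Subgroup.IsComplement.leftQuotientEquiv_apply (fun q => q.out_eq'),
      Subgroup.IsComplement.leftQuotientEquiv_apply (fun q => q.out_eq')]
    rfl
  -- the fixed cosets
  set Fx := Finset.univ.filter (fun q : G ⧸ H => r • q = q) with hFx
  have hnon : ∏ q ∈ Finset.univ.filter (fun q : G ⧸ H => ¬ r • q = q), term q = 1 := by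
    refine Finset.prod_involution (fun q _ => r • q) (fun q _ => ?_) (fun q hq _ => ?_)
      (fun q hq => ?_) (fun q _ => ?_)
    · show φ _ * φ _ = 1
      rw [← map_mul]
      refine (congrArg φ (Subtype.ext ?_)).trans (map_one φ)
      show q.out⁻¹ * (r * (r • q).out) * ((r • q).out⁻¹ * (r * (r • r • q).out)) = 1
      rw [← mul_smul r r q, hr, one_smul]
      calc _ = q.out⁻¹ * (r * r) * q.out := by group
        _ = 1 := by rw [hr, mul_one, inv_mul_cancel]
    · exact (Finset.mem_filter.1 hq).2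
    · rw [Finset.mem_filter] at hq ⊢
      refine ⟨Finset.mem_univ _, fun h => hq.2 ?_⟩
      rw [← mul_smul, hr, one_smul] at h
      exact h.symm
    · rw [← mul_smul, hr, one_smul]
  have hfixmem : ∀ x : G, r • (x : G ⧸ H) = (x : G ⧸ H) → x⁻¹ * r * x ∈ H := fun x hx => by
    rw [MulAction.Quotient.smul_coe, smul_eq_mul, eq_comm, QuotientGroup.eq] at hx
    rwa [mul_assoc]
  -- values at fixed cosets are constant on `H`-orbits and equal `1` or `a`
  have hout : ∀ q : G ⧸ H, r • q = q → q.out⁻¹ * r * q.out ∈ H := fun q hq =>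
    hfixmem q.out (((congrArg (fun z : G ⧸ H => r • z) (QuotientGroup.out_eq' q)).trans hq).trans
      (QuotientGroup.out_eq' q).symm)
  let val : (q : G ⧸ H) → r • q = q → A := fun q hq => φ ⟨q.out⁻¹ * r * q.out, hout q hq⟩
  have hterm : ∀ q, ∀ hq : r • q = q, term q = val q hq := fun q hq =>
    congrArg φ (Subtype.ext (by
      show q.out⁻¹ * (r * (r • q).out) = q.out⁻¹ * r * q.out
      rw [hq, mul_assoc]))
  have hvalx : ∀ (x : G) (hq : r • (x : G ⧸ H) = (x : G ⧸ H)),
      val (x : G ⧸ H) hq = φ ⟨x⁻¹ * r * x, hfixmem x hq⟩ := by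
    intro x hq
    obtain ⟨u, hu⟩ := QuotientGroup.mk_out_eq_mul H x
    have e : (⟨(x : G ⧸ H).out⁻¹ * r * (x : G ⧸ H).out,
        hout _ hq⟩ : H) =
        u⁻¹ * ⟨x⁻¹ * r * x, hfixmem x hq⟩ * u := Subtype.ext (by
      show (x : G ⧸ H).out⁻¹ * r * (x : G ⧸ H).out = (u : G)⁻¹ * (x⁻¹ * r * x) * u
      rw [hu]; group)
    show φ _ = _
    rw [e, map_mul, map_mul, map_inv, mul_comm (φ u)⁻¹, mul_assoc, inv_mul_cancel, mul_one]
  let P : G ⧸ H → Prop := fun q => ∃ hq : r • q = q, val q hq = a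
  -- central `r`
  have hcen : ∀ u ∈ H, ∀ q : G ⧸ H, ∀ x : G, (x : G ⧸ H) = q → (r • q = q) →
      (u * r = r * u) → r • (u • q) = u • q := by
    intro u _ q x _ hq hu
    rw [← mul_smul, ← hu, mul_smul, hq]
  have hPinv : ∀ u : H, ∀ q, P q → P ((u : G) • q) := by
    intro u q
    obtain ⟨x, rfl⟩ := QuotientGroup.mk_surjective q
    rintro ⟨hq, hv⟩
    have hq' : r • ((u : G) • (x : G ⧸ H)) = (u : G) • (x : G ⧸ H) :=
      hcen u u.2 _ x rfl hq (hc u u.2)
    refine ⟨hq', ?_⟩
    rw [hvalx x hq] at hv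
    show val ((((u : G) * x : G)) : G ⧸ H) hq' = a
    refine ((hvalx ((u : G) * x) hq').trans ?_).trans hv
    refine congrArg φ (Subtype.ext ?_)
    show ((u : G) * x)⁻¹ * r * ((u : G) * x) = x⁻¹ * r * x
    calc _ = x⁻¹ * ((u : G)⁻¹ * (r * u)) * x := by group
      _ = x⁻¹ * ((u : G)⁻¹ * (u * r)) * x := by rw [hc u u.2]
      _ = _ := by rw [inv_mul_cancel_left]
  let S := {q : G ⧸ H // P q}
  letI : MulAction H S :=
    { smul := fun u s => ⟨(u : G) • s.1, hPinv u s.1 s.2⟩
      one_smul := fun s => Subtype.ext (one_smul G s.1)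
      mul_smul := fun u v s => Subtype.ext (mul_smul (u : G) v s.1) }
  let e : MulAction.fixedPoints H S ≃ MulAction.fixedPoints H (G ⧸ H) :=
    { toFun := fun s => ⟨s.1.1, fun u => congrArg Subtype.val (s.2 u)⟩
      invFun := fun q => ⟨⟨q.1, by
        obtain ⟨x, hx⟩ := QuotientGroup.mk_surjective q.1
        have hnorm : ∀ u ∈ H, x⁻¹ * u * x ∈ H := fun u hu => by
          have h := (q.2 ⟨u, hu⟩).symm
          rw [← hx] at h
          change (x : G ⧸ H) = ((u * x : G) : G ⧸ H) at h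
          rw [QuotientGroup.eq] at h
          rwa [mul_assoc]
        have hq : r • (q.1) = q.1 := q.2 ⟨r, hrX⟩
        have hq2 : r • (x : G ⧸ H) = (x : G ⧸ H) := hx.symm ▸ hq
        refine ⟨hq, ?_⟩
        rw! [← hx]
        exact (hvalx x hq2).trans (huniq x hnorm _)⟩, fun u => Subtype.ext (q.2 u)⟩
      left_inv := fun s => rfl
      right_inv := fun q => rfl }
  have hodd : Odd (Nat.card S) := by
    rw [← Nat.not_even_iff_odd, even_iff_two_dvd, Nat.dvd_iff_mod_eq_zero,
      (hX.card_modEq_card_fixedPoints S), Nat.card_congr e,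
      ← (hX.card_modEq_card_fixedPoints (G ⧸ H)), ← Nat.dvd_iff_mod_eq_zero]
    exact hidx
  have hpm : ∀ q, ∀ hq : r • q = q, val q hq * val q hq = 1 := fun q hq => by
    show φ _ * φ _ = 1
    rw [← map_mul]
    refine (congrArg φ (Subtype.ext ?_)).trans (map_one φ)
    show q.out⁻¹ * r * q.out * (q.out⁻¹ * r * q.out) = 1
    calc _ = q.out⁻¹ * (r * r) * q.out := by group
      _ = 1 := by rw [hr, mul_one, inv_mul_cancel]
  rw [hval, ← Finset.prod_filter_mul_prod_filter_not Finset.univ (fun q : G ⧸ H => r • q = q),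
    hnon, mul_one]
  intro h
  refine hφ ?_
  show a = 1
  rw [← Finset.prod_filter_mul_prod_filter_not (Finset.univ.filter fun q : G ⧸ H => r • q = q) P,
    Finset.prod_congr rfl (fun q hq => (?_ : term q = a)), Finset.prod_const,
    Finset.prod_eq_one (fun q hq => ?_), mul_one] at h
  · obtain ⟨k, hk⟩ := hodd
    have hcard : ((Finset.univ.filter fun q : G ⧸ H => r • q = q).filter P).card = Nat.card S := by
      rw [Nat.card_eq_fintype_card, Fintype.card_subtype, Finset.filter_filter]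
      congr 1
      ext q
      simp only [Finset.mem_filter, Finset.mem_univ, true_and]
      exact ⟨fun h => h.2, fun h => ⟨h.1, h⟩⟩
    rwa [hcard, hk, pow_succ, pow_mul, sq, ha2, one_pow, one_mul] at h
  · obtain ⟨hq', hnP⟩ := Finset.mem_filter.1 hq
    have hq'' := (Finset.mem_filter.1 hq').2
    rw [hterm q hq'']
    exact (hA _ (hpm q hq'')).resolve_right fun hv => hnP ⟨hq'', hv⟩
  · obtain ⟨-, hq', hv⟩ := Finset.mem_filter.1 hq
    rw [hterm q hq', hv]

end CfsgLib.CentralTransfer
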