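import Cfsg.Agent.Lib.OddOrder.RankTwo
import Cfsg.Agent.Lib.PGroup.OmegaRankTwo
import Cfsg.Agent.Lib.PGroup.RegularBasic
import Cfsg.Agent.Lib.PLocal.HallHigman

/-!
Chief `p`-factors of `p`-solvable groups of `p`-rank at most two (`p` odd).
-/

set_option autoImplicit false
set_option linter.style.haveILetI false

open scoped commutatorElement MatrixGroups

namespace CfsgLib.OddOrder

open Subgroup

variable {Y : Type*} [Group Y] [Finite Y] {p : ℕ} [hp : Fact p.Prime]

set_option maxHeartbeats 1000000 in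
/-- The action on the Frattini quotient of the critical omega subgroup of `O_p` has a `p`-kernel. -/
theorem exists_hom_gl2_kernel (hp2 : p ≠ 2) (hr : Cfsg.PRankLE p 2 Y)
    (hC : centralizer (Cfsg.pCore p Y : Set Y) ≤ Cfsg.pCore p Y) :
    ∃ ψ : Y →* GL (Fin 2) (ZMod p), IsPGroup p ψ.ker := by
  classical
  set R := Cfsg.pCore p Y with hR
  haveI hRn : R.Normal := Solvable.pCore_normal p Y
  have hRp : IsPGroup p R := Solvable.pCore_isPGroup p Y
  have hCR := hC
  obtain ⟨H, hHc, hHf, hHR, hHC⟩ := CfsgLib.Transfer.exists_critical hRp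
  haveI := hHc
  have hcl : ⁅H, H⁆ ≤ centralizer (H : Set R) :=
    (commutator_mono le_rfl le_top).trans (hHR.trans inf_le_right)
  obtain ⟨U₀, hU₀⟩ := exists_omega_subgroup (p := p) hp2 hcl
  set H' := H.map R.subtype with hH'
  haveI hH'n : H'.Normal := inferInstanceAs (H.map R.subtype).Normal
  set U := U₀.map R.subtype with hU
  have hUmem : ∀ y, y ∈ U ↔ y ∈ H' ∧ y ^ p = 1 := by
    intro y
    constructor
    · rintro ⟨u, hu, rfl⟩
      obtain ⟨h1, h2⟩ := (hU₀ u).1 hu
      exact ⟨⟨u, h1, rfl⟩, by rw [← map_pow, h2, map_one]⟩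
    · rintro ⟨⟨h, hh, rfl⟩, hy⟩
      exact ⟨h, (hU₀ h).2 ⟨hh, R.subtype_injective (by rw [map_pow, hy, map_one])⟩, rfl⟩
  haveI hUn : U.Normal := ⟨fun x hx g => (hUmem _).2 ⟨hH'n.conj_mem x ((hUmem x).1 hx).1 g, by
    rw [← MulAut.conj_apply, ← map_pow, ((hUmem x).1 hx).2, map_one]⟩⟩
  have hUp : IsPGroup p U := hRp.to_le (map_subtype_le _)
  have hUe : ∀ x : U, x ^ p = 1 := fun x => Subtype.ext ((hUmem x).1 x.2).2
  have hUr : Cfsg.PRankLE p 2 U := by
    intro A hA hAp
    rw [← Subgroup.card_map_of_injective U.subtype_injective]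
    haveI := hA
    refine hr _ (map_isMulCommutative A (f := U.subtype)) ?_
    rintro _ ⟨a, ha, rfl⟩
    rw [← map_pow, hAp a ha, map_one]
  -- the Frattini quotient of `U`
  set D := (frattini U).map U.subtype with hD
  haveI hDn : D.Normal := inferInstanceAs ((frattini U).map U.subtype).Normal
  set f := QuotientGroup.mk' D with hf
  have hker : ∀ y, f y = 1 ↔ y ∈ D := fun y => QuotientGroup.eq_one_iff y
  set W := U.map f with hW
  haveI hWn : W.Normal := Subgroup.Normal.map inferInstance f (QuotientGroup.mk'_surjective _)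
  have hWe : Cfsg.IsElementaryAbelian p W := by
    constructor
    · refine le_centralizer_iff_isMulCommutative.mp ?_
      rintro _ ⟨r, hr', rfl⟩ _ ⟨s, hs, rfl⟩
      rw [← map_mul, ← map_mul]
      refine QuotientGroup.eq_iff_div_mem.2 ?_
      exact ⟨⁅(⟨s, hs⟩ : U), ⟨r, hr'⟩⁆,
        commutator_le_frattini_of_isPGroup hUp (commutator_mem_commutator (mem_top _) (mem_top _)),
        by simp [commutatorElement_def, div_eq_mul_inv, mul_assoc]⟩
    · rintro _ ⟨r, hr', rfl⟩
      rw [← map_pow, hker]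
      exact ⟨⟨r, hr'⟩ ^ p, pow_mem_frattini_of_isPGroup hUp _, rfl⟩
  have hWc : Nat.card W ≤ p ^ 2 := by
    have hfac : Nat.card W = Nat.card (U ⧸ frattini U) := by
      have h1 : (f.comp U.subtype).range = W := by rw [MonoidHom.range_comp, range_subtype]
      have h2 : (f.comp U.subtype).ker = frattini U := by
        rw [← MonoidHom.comap_ker, hf, QuotientGroup.ker_mk', hD,
          comap_map_eq_self_of_injective U.subtype_injective]
      rw [← h1, ← Nat.card_congr (QuotientGroup.quotientKerEquivRange _).toEquiv, h2]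
    rw [hfac]
    have hU3 := card_le_of_exponent_of_rank_two hp2 hUp hUe hUr
    have hmul := Subgroup.card_eq_card_quotient_mul_card_subgroup (frattini U)
    obtain ⟨i, hi⟩ := (hUp.to_subgroup (frattini U)).exists_card_eq
    rcases i with _ | i
    · rw [hi, pow_zero, mul_one] at hmul
      rw [← hmul]
      have hUc : IsMulCommutative U := by
        refine ⟨⟨fun x y => ?_⟩⟩
        have : ⁅x, y⁆ ∈ frattini U :=
          commutator_le_frattini_of_isPGroup hUp (commutator_mem_commutator (mem_top _) (mem_top _))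
        rw [Subgroup.card_eq_one.1 (hi.trans (pow_zero p)), mem_bot] at this
        exact commutatorElement_eq_one_iff_mul_comm.1 this
      exact hr U hUc fun u hu => ((hUmem u).1 hu).2
    · refine Nat.le_of_mul_le_mul_right ?_ hp.out.pos
      calc Nat.card (U ⧸ frattini U) * p ≤ Nat.card (U ⧸ frattini U) * p ^ (i + 1) :=
            Nat.mul_le_mul_left _ (Nat.le_self_pow i.succ_ne_zero p)
        _ ≤ p ^ 3 := by rw [← hi, ← hmul]; exact hU3
        _ = p ^ 2 * p := pow_succ p 2
  obtain ⟨φ, hφ⟩ := exists_hom_gl2 hWe hWc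
  set ψ := φ.comp f with hψ
  -- the kernel of the action is a `p`-group
  have hKp : IsPGroup p ψ.ker := by
    intro y
    obtain ⟨k, m, hm, hkm⟩ := Nat.exists_eq_pow_mul_and_not_dvd (orderOf_pos (y : Y)).ne' p
      hp.out.ne_one
    refine ⟨k, Subtype.ext ?_⟩
    rw [SubgroupClass.coe_pow, OneMemClass.coe_one]
    set a := (y : Y) ^ p ^ k with ha
    have hao : orderOf a = m := by
      rw [ha, orderOf_pow' _ (pow_ne_zero _ hp.out.ne_zero), hkm,
        Nat.gcd_eq_right ⟨m, rfl⟩, Nat.mul_div_cancel_left _ (pow_pos hp.out.pos _)]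
    have hcop : (orderOf a).Coprime p := by
      rw [hao]; exact (hp.out.coprime_iff_not_dvd.2 hm).symm
    have haW : f a ∈ centralizer (W : Set (Y ⧸ D)) := by
      rw [← hφ, MonoidHom.mem_ker]
      exact MonoidHom.mem_ker.1 (show a ∈ ψ.ker from pow_mem y.2 _)
    have h1 : zpowers a ≤ centralizer (U : Set Y) := by
      refine Solvable.le_centralizer_of_trivial_on_frattini_quotient ?_ ?_
      · rw [Nat.card_zpowers]
        obtain ⟨n, hn⟩ := (hUp.to_subgroup (frattini U)).exists_card_eq
        rw [hn]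
        exact hcop.pow_right n
      · intro w hw r hr'
        have hwC : f w ∈ centralizer (W : Set (Y ⧸ D)) := by
          obtain ⟨i, rfl⟩ := hw
          show f (a ^ i) ∈ _
          rw [map_zpow]
          exact zpow_mem haW i
        rw [← hD, ← hker, map_mul, map_mul, map_mul, map_inv, map_inv,
          ← mem_centralizer_iff.1 hwC (f r) ⟨r, hr', rfl⟩, mul_inv_cancel_right, mul_inv_cancel]
    have haH : ∀ x ∈ H', Commute a x :=
      commute_of_fix_pow_eq_one hp2 H' (hRp.to_le (map_subtype_le _))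
        (by rw [normalizer_eq_top H']; exact mem_top a) hcop
        fun x hx hxp => (mem_centralizer_iff.1 (h1 (mem_zpowers a)) x ((hUmem x).2 ⟨hx, hxp⟩)).symm
    have h2 : zpowers a ≤ centralizer (R : Set Y) := by
      have hHa : H' ≤ centralizer (zpowers a : Set Y) := by
        intro x hx
        rintro _ ⟨i, rfl⟩
        exact ((haH x hx).zpow_left i).eq
      refine Solvable.thompson_pxq (P := H') (hRp.to_le (map_subtype_le _))
        (by rw [Nat.card_zpowers]; exact hcop) hRp hHa
        (le_top.trans (normalizer_eq_top R).ge) (le_top.trans (normalizer_eq_top R).ge) ?_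
      rintro x ⟨hxR, hxH⟩
      have hxH' : (⟨x, hxR⟩ : R) ∈ H := hHC (mem_centralizer_iff.2 fun h hh =>
        Subtype.ext (mem_centralizer_iff.1 hxH (h : Y) ⟨h, hh, rfl⟩))
      exact hHa ⟨_, hxH', rfl⟩
    have haR : a ∈ R := hCR (h2 (mem_zpowers a))
    obtain ⟨n, hn⟩ := IsPGroup.iff_orderOf.mp hRp ⟨a, haR⟩
    rw [Subgroup.orderOf_mk, hao] at hn
    rw [← orderOf_eq_one_iff, hao]
    rcases n with _ | n
    · simpa using hn
    · exact absurd ⟨p ^ n, by rw [hn, pow_succ']⟩ hm
  exact ⟨ψ, hKp⟩

end CfsgLib.OddOrder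

namespace CfsgLib.ChiefRankTwo

open Subgroup

universe u

variable {p : ℕ}

/-- Elements of order dividing `p` are central. -/
def PCentral (p : ℕ) (S : Type*) [Group S] : Prop := ∀ x : S, x ^ p = 1 → x ∈ center S

theorem commutator_pow_aux [hp : Fact p.Prime] (hp2 : p ≠ 2) :
    ∀ (n : ℕ) (S : Type u) [Group S] [Finite S], Nat.card S = n → IsPGroup p S → PCentral p S →
      ∀ x y : S, (x ^ p) ^ p = 1 → ⁅y, x⁆ ^ p = 1 := by
  intro n
  induction n using Nat.strong_induction_on with
  | _ n ih =>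
  intro S _ _ hn hS hc x y hx
  by_cases hxy : Commute y x
  · rw [commutatorElement_eq_one_iff_mul_comm.2 hxy.eq, one_pow]
  haveI := hS.isNilpotent
  set H := zpowers x ⊔ commutator S with hH
  have hlt : H ≠ ⊤ := fun h => hxy (by
    have ht := CfsgLib.PGroup.zpowers_eq_top_of_sup_commutator h
    obtain ⟨i, rfl⟩ : y ∈ zpowers x := ht ▸ mem_top y
    exact (Commute.refl x).zpow_left i)
  set c := ⁅y, x⁆ with hcdef
  have hcH : c ∈ H := mem_sup_right (commutator_mem_commutator (mem_top y) (mem_top x))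
  have hxH : x ∈ H := mem_sup_left (mem_zpowers x)
  have hcard : Nat.card H < n := hn ▸ lt_of_le_of_ne (Finite.card_subtype_le (· ∈ H))
    fun h => hlt ((card_eq_iff_eq_top H).1 h)
  have hcH' : PCentral p H := fun z hz => mem_center_iff.2 fun g => Subtype.ext
    (mem_center_iff.1 (hc (z : S) (congrArg Subtype.val hz)) g)
  have h1 : ⁅c, x⁆ ^ p = 1 := congrArg Subtype.val
    (ih _ hcard H rfl (hS.to_subgroup H) hcH' ⟨x, hxH⟩ ⟨c, hcH⟩ (Subtype.ext hx))
  set z := ⁅c, x⁆ with hz
  have hzc : ∀ g : S, Commute z g := fun g => (mem_center_iff.1 (hc z h1) g).symm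
  obtain ⟨m, hm⟩ : p ∣ p.choose 2 := hp.out.dvd_choose_self two_ne_zero
    (lt_of_le_of_ne hp.out.two_le hp2.symm)
  have hmul : (x * c) ^ p = z ^ p.choose 2 * (x ^ p * c ^ p) :=
    CfsgLib.OddOrder.mul_pow_of_central_commutator (show c * x = z * (x * c) by simp [hz, commutatorElement_def, mul_assoc])
      (hzc x) (hzc c) p
  rw [hm, pow_mul, h1, one_pow, one_mul] at hmul
  have hxc : (c * x) ^ p = x ^ p := by
    have e : c * x = MulAut.conj y x := by simp [hcdef, commutatorElement_def]
    rw [e, ← map_pow, MulAut.conj_apply, mem_center_iff.1 (hc _ hx) y, mul_inv_cancel_right]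
  have hxc' : (x * c) ^ p = x ^ p := by
    have e : x * c = MulAut.conj x (c * x) := by simp [mul_assoc]
    rw [e, ← map_pow, hxc, MulAut.conj_apply]
    group
  rw [hxc'] at hmul
  exact (left_eq_mul.1 hmul)

theorem index_le_of_pCentral [hp : Fact p.Prime] (hp2 : p ≠ 2) :
    ∀ (n : ℕ) (S : Type u) [Group S] [Finite S], Nat.card S = n → IsPGroup p S → PCentral p S →
      ∀ D : Subgroup S, (∀ x, x ∈ D ↔ x ^ p = 1) → Nat.card D ≤ p ^ 2 →
      ∀ M : Subgroup S, M.Normal → (∀ C : Subgroup S, C.Characteristic → C ≤ M ∨ C = ⊤) →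
        M.index ≤ p ^ 2 := by
  intro n
  induction n using Nat.strong_induction_on with
  | _ n ih =>
  intro S _ _ hn hS hc D hD hD2 M hMn hM
  haveI hDc : D.Characteristic := characteristic_iff_le_comap.2 fun e x hx => (hD _).2 (by
    rw [MulEquiv.coe_toMonoidHom, ← map_pow, (hD x).1 hx, map_one])
  rcases hM D hDc with hDM | hDtop
  swap
  · refine le_trans (Nat.le_of_dvd Nat.card_pos M.index_dvd_card) ?_
    rwa [← card_top (G := S), ← hDtop]
  by_cases hDb : D = ⊥
  · have : Subsingleton S := by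
      by_contra hne
      rw [not_subsingleton_iff_nontrivial] at hne
      obtain ⟨k, hk⟩ := hS.exists_card_eq
      have hk0 : k ≠ 0 := fun h => by
        have := Finite.one_lt_card (α := S)
        rw [hk, h, pow_zero] at this
        omega
      obtain ⟨x, hx⟩ := exists_prime_orderOf_dvd_card' (G := S) p (hk ▸ dvd_pow_self p hk0)
      have hx1 : x ∈ D := (hD x).2 (hx ▸ pow_orderOf_eq_one x)
      rw [hDb, mem_bot] at hx1
      rw [hx1, orderOf_one] at hx
      exact hp.out.ne_one hx.symm
    rw [(Subgroup.eq_top_iff' M).2 (fun x : S => by rw [Subsingleton.elim x 1]; exact one_mem M),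
      index_top]
    exact Nat.one_le_pow _ _ hp.out.pos
  set f := QuotientGroup.mk' D with hf
  have hsurj : Function.Surjective f := QuotientGroup.mk'_surjective D
  have hcom : ∀ x : S, (x ^ p) ^ p = 1 → ∀ y, ⁅y, x⁆ ∈ D := fun x hx y =>
    (hD _).2 (commutator_pow_aux hp2 _ S rfl hS hc x y hx)
  let T : Subgroup S :=
    { carrier := {x | (x ^ p) ^ p = 1}
      one_mem' := by simp
      inv_mem' := fun {x} hx => by
        show ((x⁻¹) ^ p) ^ p = 1
        rw [inv_pow, inv_pow, show (x ^ p) ^ p = 1 from hx, inv_one]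
      mul_mem' := fun {a b} ha hb => by
        obtain ⟨m, hm⟩ : p ∣ p.choose 2 := hp.out.dvd_choose_self two_ne_zero
          (lt_of_le_of_ne hp.out.two_le hp2.symm)
        have hz := hcom a ha b
        have hzc : ∀ g : S, Commute ⁅b, a⁆ g := fun g =>
          (mem_center_iff.1 (hc _ ((hD _).1 hz)) g).symm
        show ((a * b) ^ p) ^ p = 1
        rw [CfsgLib.OddOrder.mul_pow_of_central_commutator (c := ⁅b, a⁆) (by simp [commutatorElement_def, mul_assoc])
          (hzc a) (hzc b) p, hm, pow_mul, (hD _).1 hz, one_pow, one_mul,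
          Commute.mul_pow (mem_center_iff.1 (hc _ hb) (a ^ p)), show (a ^ p) ^ p = 1 from ha,
          show (b ^ p) ^ p = 1 from hb, one_mul] }
  have hmulT : ∀ a b, a ∈ T → b ∈ T → (a * b) ^ p = a ^ p * b ^ p := by
    intro a b ha hb
    obtain ⟨m, hm⟩ : p ∣ p.choose 2 := hp.out.dvd_choose_self two_ne_zero
      (lt_of_le_of_ne hp.out.two_le hp2.symm)
    have hz := hcom a ha b
    have hzc : ∀ g : S, Commute ⁅b, a⁆ g := fun g =>
      (mem_center_iff.1 (hc _ ((hD _).1 hz)) g).symm
    rw [CfsgLib.OddOrder.mul_pow_of_central_commutator (c := ⁅b, a⁆) (by simp [commutatorElement_def, mul_assoc])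
      (hzc a) (hzc b) p, hm, pow_mul, (hD _).1 hz, one_pow, one_mul]
  let φ : T →* D := MonoidHom.mk' (fun x => ⟨(x : S) ^ p, (hD _).2 x.2⟩)
    fun a b => Subtype.ext (hmulT a b a.2 b.2)
  have hDT : D ≤ T := fun x hx => by show (x ^ p) ^ p = 1; rw [(hD x).1 hx, one_pow]
  have hker : ∀ x : T, x ∈ φ.ker ↔ (x : S) ∈ D := fun x => by
    rw [MonoidHom.mem_ker, hD, Subtype.ext_iff]; rfl
  set D' := T.map f with hD'
  have hpc : ∀ x : S, (f x) ^ p = 1 ↔ x ∈ T := fun x => by
    rw [← map_pow, hf, QuotientGroup.mk'_apply, QuotientGroup.eq_one_iff, hD]; rfl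
  have hD'mem : ∀ q, q ∈ D' ↔ q ^ p = 1 := by
    intro q
    obtain ⟨x, rfl⟩ := hsurj q
    refine ⟨?_, fun h => ⟨x, (hpc x).1 h, rfl⟩⟩
    rintro ⟨x', hx', e⟩
    rw [← e]
    exact (hpc x').2 hx'
  have hD'card : Nat.card D' ≤ p ^ 2 := by
    refine le_trans ?_ hD2
    have h1 : Nat.card D' = Nat.card (T ⧸ φ.ker) := by
      have e1 : (f.comp T.subtype).range = D' := by rw [MonoidHom.range_comp, range_subtype]
      have e2 : (f.comp T.subtype).ker = φ.ker := by
        ext x
        rw [hker, MonoidHom.mem_ker, MonoidHom.comp_apply, hf, QuotientGroup.mk'_apply,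
          QuotientGroup.eq_one_iff]
        rfl
      rw [← e1, ← Nat.card_congr (QuotientGroup.quotientKerEquivRange _).toEquiv, e2]
    rw [h1, Nat.card_congr (QuotientGroup.quotientKerEquivRange φ).toEquiv]
    exact Finite.card_subtype_le _
  have hcard : Nat.card (S ⧸ D) < n := by
    rw [← hn, card_eq_card_quotient_mul_card_subgroup D]
    refine lt_mul_of_one_lt_right Nat.card_pos ?_
    haveI := (nontrivial_iff_ne_bot D).2 hDb
    exact Finite.one_lt_card
  have hres := ih _ hcard (S ⧸ D) rfl (hS.to_quotient D) (fun q hq => mem_center_iff.2 fun g => by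
    obtain ⟨x, rfl⟩ := hsurj q
    obtain ⟨y, rfl⟩ := hsurj g
    rw [← commutatorElement_eq_one_iff_mul_comm, ← map_commutatorElement, hf,
      QuotientGroup.mk'_apply, QuotientGroup.eq_one_iff]
    exact hcom x ((hpc x).1 hq) y) D' hD'mem hD'card (M.map f) (hMn.map f hsurj) ?_
  · rwa [index_map_eq M hsurj (by rwa [hf, QuotientGroup.ker_mk'])] at hres
  intro C hC
  haveI : (C.comap f).Characteristic := characteristic_iff_le_comap.2 fun e x hx => by
    let e' : (S ⧸ D) ≃* (S ⧸ D) := QuotientGroup.congr D D e (characteristic_iff_map_eq.1 hDc e)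
    have he : e' (f x) = f (e x) := QuotientGroup.congr_mk D D e _ x
    show f (e x) ∈ C
    rw [← he]
    exact characteristic_iff_le_comap.1 hC e' hx
  rcases hM (C.comap f) inferInstance with h | h
  · left
    rw [← map_comap_eq_self_of_surjective hsurj C]
    exact map_mono h
  · right
    rw [← map_comap_eq_self_of_surjective hsurj C, h, map_top_of_surjective f hsurj]

/-- A cyclic image bounds an index. -/
theorem index_le_of_cyclic_range [hp : Fact p.Prime] {S : Type*} [Group S] [Finite S] {A : Type*}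
    [Group A] (f : S →* A) (hcyc : IsCyclic f.range) (M : Subgroup S) [M.Normal] (hker : f.ker ≤ M)
    (hpow : ∀ x : S, x ^ p ∈ M) : M.index ≤ p := by
  haveI := hcyc
  obtain ⟨⟨_, g, rfl⟩, hg⟩ := IsCyclic.exists_generator (α := f.range)
  rw [index_eq_card]
  have hall : ∀ q : S ⧸ M, q ∈ zpowers (g : S ⧸ M) := by
    intro q
    obtain ⟨s, rfl⟩ := QuotientGroup.mk_surjective q
    obtain ⟨i, hi⟩ := hg ⟨f s, s, rfl⟩
    refine ⟨i, (QuotientGroup.eq.2 (hker ?_))⟩
    have hi' : f g ^ i = f s := congrArg Subtype.val hi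
    rw [MonoidHom.mem_ker, map_mul, map_inv, map_zpow, hi', inv_mul_cancel]
  have he : zpowers (g : S ⧸ M) = ⊤ := eq_top_iff.2 fun q _ => hall q
  rw [← card_top, ← he, Nat.card_zpowers]
  exact orderOf_le_of_pow_eq_one hp.out.pos ((QuotientGroup.eq_one_iff (g ^ p)).2 (hpow g))

set_option maxHeartbeats 1000000 in
/-- A characteristically simple top factor of a `p`-group of rank two has order at most `p ^ 2`. -/
theorem index_le_of_rank_two [hp : Fact p.Prime] (hp2 : p ≠ 2) {S : Type u} [Group S] [Finite S]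
    (hS : IsPGroup p S) (hr : Cfsg.PRankLE p 2 S) (M : Subgroup S) [hMn : M.Normal]
    (hM : ∀ C : Subgroup S, C.Characteristic → C ≤ M ∨ C = ⊤) : M.index ≤ p ^ 2 := by
  have hp2' : p ≤ p ^ 2 := Nat.le_self_pow two_ne_zero p
  by_cases hMt : M = ⊤
  · rw [hMt, index_top]
    exact Nat.one_le_pow _ _ hp.out.pos
  haveI := hS.isNilpotent
  have hpow : ∀ x : S, x ^ p ∈ M := by
    intro x
    rcases hM (frattini S) inferInstance with h | h
    · exact h (CfsgLib.OddOrder.pow_mem_frattini_of_isPGroup hS x)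
    · refine absurd (eq_top_iff.2 ?_) hMt
      intro y _
      obtain ⟨K, hK, hMK⟩ := (eq_top_or_exists_le_coatom M).resolve_left hMt
      exact absurd (top_le_iff.1 (h.symm.le.trans (frattini_le_coatom hK))) hK.1
  obtain ⟨H, hHc, -, hHR, hHC⟩ := CfsgLib.Transfer.exists_critical hS
  haveI := hHc
  by_cases hHcyc : IsCyclic H
  · rcases hM H hHc with hHM | hHt
    · let φ : S →* MulAut H := MulAut.conjNormal
      have hφ : φ.ker ≤ H := fun x hx => hHC fun h hh => by
        have e := congrArg Subtype.val (DFunLike.congr_fun (MonoidHom.mem_ker.1 hx) ⟨h, hh⟩)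
        rw [show φ x ⟨h, hh⟩ = MulAut.conjNormal x ⟨h, hh⟩ from rfl, MulAut.conjNormal_apply,
          MulAut.one_apply] at e
        exact (mul_inv_eq_iff_eq_mul.1 e).symm
      refine le_trans (index_le_of_cyclic_range φ ?_ M (hφ.trans hHM) hpow) hp2'
      obtain ⟨k, hk⟩ := (hS.to_subgroup H).exists_card_eq
      haveI : IsCyclic (ZMod (Nat.card H))ˣ := by
        rw [hk]; exact ZMod.isCyclic_units_of_prime_pow p hp.out hp2 k
      haveI : IsCyclic (MulAut H) :=
        isCyclic_of_surjective (IsCyclic.mulAutMulEquiv H).symm (MulEquiv.surjective _)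
      infer_instance
    · refine le_trans (index_le_of_cyclic_range (MonoidHom.id S) ?_ M
        (by rw [MonoidHom.ker_id]; exact bot_le) hpow) hp2'
      haveI : IsCyclic S := isCyclic_of_surjective H.subtype fun x =>
        ⟨⟨x, hHt ▸ mem_top x⟩, rfl⟩
      infer_instance
  -- the omega subgroup of the critical subgroup
  have hcl : ⁅H, H⁆ ≤ centralizer (H : Set S) :=
    (commutator_mono le_rfl le_top).trans (hHR.trans inf_le_right)
  obtain ⟨D, hD⟩ := CfsgLib.OddOrder.exists_omega_subgroup (p := p) hp2 hcl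
  haveI hDc : D.Characteristic := characteristic_iff_le_comap.2 fun e x hx => (hD _).2
    ⟨characteristic_iff_le_comap.1 hHc e ((hD x).1 hx).1, by
      rw [MulEquiv.coe_toMonoidHom, ← map_pow, ((hD x).1 hx).2, map_one]⟩
  have hDp : IsPGroup p D := hS.to_subgroup D
  have hDr : Cfsg.PRankLE p 2 D := by
    intro A hA hAp
    rw [← card_map_of_injective D.subtype_injective]
    haveI := hA
    refine hr _ (map_isMulCommutative A (f := D.subtype)) ?_
    rintro _ ⟨a, ha, rfl⟩
    rw [← map_pow, hAp a ha, map_one]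
  have hD3 := CfsgLib.OddOrder.card_le_of_exponent_of_rank_two hp2 hDp
    (fun x => Subtype.ext ((hD x).1 x.2).2) hDr
  obtain ⟨d, hd⟩ := hDp.exists_card_eq
  have hd2 : 2 ≤ d := by
    obtain ⟨E, -, -, hE, hEc⟩ := CfsgLib.PGroup.exists_normal_elementary_sq hp2
      (hS.to_subgroup H) ⊤ (fun h => hHcyc (isCyclic_of_surjective (⊤ : Subgroup H).subtype
        fun x => ⟨⟨x, mem_top x⟩, rfl⟩))
    have hED : E.map H.subtype ≤ D := by
      rintro _ ⟨e, he, rfl⟩
      exact (hD _).2 ⟨e.2, by rw [← map_pow, hE.2 e he, map_one]⟩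
    have := card_le_of_le hED
    rw [card_map_of_injective H.subtype_injective, hEc, hd] at this
    exact (Nat.pow_le_pow_iff_right hp.out.one_lt).1 this
  have hd3 : d ≤ 3 := (Nat.pow_le_pow_iff_right hp.out.one_lt).1 (hd ▸ hD3)
  set C := centralizer (D : Set S) with hC
  -- if `D` is central we are in the p-central case
  have hfinish : C = ⊤ → M.index ≤ p ^ 2 := by
    intro hCt
    have hDcen : ∀ x ∈ D, x ∈ center S := fun x hx => mem_center_iff.2 fun g =>
      (mem_centralizer_iff.1 (show g ∈ C from hCt ▸ mem_top g) x hx).symm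
    have hDab : IsMulCommutative D := ⟨⟨fun a b => Subtype.ext
      (mem_center_iff.1 (hDcen b b.2) (a : S))⟩⟩
    have hD2 : Nat.card D ≤ p ^ 2 := hr D hDab fun a ha => ((hD a).1 ha).2
    have hall : ∀ x : S, x ^ p = 1 → x ∈ D := by
      intro x hx
      by_contra hxD
      set B := closure (insert x (D : Set S)) with hB
      have hBcomm : IsMulCommutative B := isMulCommutative_closure (by
        intro a ha b hb
        rcases ha with rfl | ha <;> rcases hb with rfl | hb
        · rfl
        · exact mem_center_iff.1 (hDcen b hb) a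
        · exact (mem_center_iff.1 (hDcen a ha) b).symm
        · exact mem_center_iff.1 (hDcen b hb) a)
      have hBp : ∀ b ∈ B, b ^ p = 1 := by
        intro b hb
        induction hb using closure_induction with
        | mem c hc => rcases hc with rfl | hc; exacts [hx, ((hD c).1 hc).2]
        | one => exact one_pow p
        | mul c c' hc hc' h1 h2 =>
          rw [Commute.mul_pow (congrArg Subtype.val (hBcomm.is_comm.comm ⟨c, hc⟩ ⟨c', hc'⟩)), h1, h2,
            one_mul]
        | inv c hc h1 => rw [inv_pow, h1, inv_one]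
      have hlt : D < B := lt_of_le_not_ge (fun a ha => subset_closure (Or.inr ha))
        fun h => hxD (h (subset_closure (Or.inl rfl)))
      have h1 := Set.Finite.card_lt_card (Set.toFinite (B : Set S)) (show (D : Set S) < B from hlt)
      have h2 := hr B hBcomm hBp
      have h3 : p ^ 2 ≤ Nat.card D := hd ▸ Nat.pow_le_pow_right hp.out.pos hd2
      simp only [SetLike.coe_sort_coe] at h1
      omega
    exact index_le_of_pCentral hp2 _ S rfl hS (fun x hx => hDcen x (hall x hx)) D
      (fun x => ⟨fun h => ((hD x).1 h).2, hall x⟩) hD2 M hMn hM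
  rcases hM C inferInstance with hCM | hCt
  swap
  · exact hfinish hCt
  have hMC : M.index ≤ C.index := Nat.le_of_dvd (Nat.pos_of_ne_zero index_ne_zero_of_finite)
    (index_dvd_of_le hCM)
  by_cases hDab : IsMulCommutative D
  · refine le_trans hMC ?_
    have hd' : d = 2 := le_antisymm ((Nat.pow_le_pow_iff_right hp.out.one_lt).1
      (hd ▸ hr D hDab fun a ha => ((hD a).1 ha).2)) hd2
    exact le_trans (CfsgLib.OddOrder.centralizer_index_le hS ⟨hDab, fun a ha => ((hD a).1 ha).2⟩
      (hd' ▸ hd)) hp2'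
  have hd' : d = 3 := by
    by_contra h
    exact hDab (IsPGroup.isMulCommutative_of_card_eq_prime_sq (show d = 2 by omega ▸ hd))
  -- the centre of `D`
  set Z := (center D).map D.subtype with hZ
  haveI hZn : Z.Normal := inferInstanceAs ((center D).map D.subtype).Normal
  have hZc : Nat.card Z = p := by
    rw [hZ, card_map_of_injective D.subtype_injective]
    haveI : Nontrivial D := Finite.one_lt_card_iff_nontrivial.1 (by
      rw [hd]; exact Nat.one_lt_pow (by omega) hp.out.one_lt)
    obtain ⟨i, hi⟩ := (hDp.to_subgroup (center D)).exists_card_eq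
    have hi0 : i ≠ 0 := fun h => by
      have := Finite.one_lt_card_iff_nontrivial.2 (IsPGroup.center_nontrivial hDp)
      rw [hi, h, pow_zero] at this
      omega
    have hmul := card_eq_card_quotient_mul_card_subgroup (center D)
    obtain ⟨j, hj⟩ := (hDp.to_quotient (center D)).exists_card_eq
    rw [hd, hd', hi, hj, ← pow_add] at hmul
    have hij := Nat.pow_right_injective hp.out.two_le hmul
    have hj2 : 2 ≤ j := by
      by_contra hlt
      haveI : IsCyclic (D ⧸ center D) := by
        rcases (show j = 0 ∨ j = 1 by omega) with rfl | rfl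
        · haveI : Subsingleton (D ⧸ center D) :=
            (Nat.card_eq_one_iff_unique.1 (hj.trans (pow_zero p))).1
          exact isCyclic_of_subsingleton
        · exact isCyclic_of_prime_card (hj.trans (pow_one p))
      exact hDab ⟨⟨commutative_of_cyclic_center_quotient (QuotientGroup.mk' (center D))
        (by rw [QuotientGroup.ker_mk'])⟩⟩
    rw [hi, show i = 1 by omega, pow_one]
  have hDcc : ∀ u v : D, ⁅u, v⁆ ∈ center D := fun u v => mem_center_iff.2 fun g => Subtype.ext
    (mem_centralizer_iff.1 (hcl (commutator_mem_commutator ((hD u).1 u.2).1 ((hD v).1 v.2).1))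
      (g : S) ((hD g).1 g.2).1)
  have hZD : Z ≤ D := map_subtype_le _
  have hZS : Z ≤ center S := by
    obtain ⟨z, hzZ, hzc, hzo⟩ := CfsgLib.PGroup.exists_central_orderOf_eq hS Z (fun h => by
      rw [h, card_bot] at hZc; exact hp.out.ne_one hZc.symm)
    have : zpowers z = Z := eq_of_le_of_card_ge (zpowers_le.2 hzZ)
      (by rw [Nat.card_zpowers, hzo, hZc])
    rw [← this]
    exact zpowers_le.2 hzc
  set f := QuotientGroup.mk' Z with hf
  have hsurj : Function.Surjective f := QuotientGroup.mk'_surjective Z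
  set W := D.map f with hW
  haveI hDn : D.Normal := inferInstance
  haveI hWn : W.Normal := hDn.map f hsurj
  set K := (centralizer (W : Set (S ⧸ Z))).comap f with hK
  -- noncommuting pair
  obtain ⟨a, b, hab⟩ : ∃ a b : D, a * b ≠ b * a := by
    by_contra h
    push Not at h
    exact hDab ⟨⟨h⟩⟩
  have hgen : closure ({(a : S), (b : S)} : Set S) = D := by
    refine eq_of_le_of_card_ge ((closure_le D).2 (by
      rintro x (rfl | rfl); exacts [a.2, b.2])) ?_
    by_contra hlt
    push Not at hlt
    set L := closure ({(a : S), (b : S)} : Set S) with hL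
    obtain ⟨l, hl⟩ := (hS.to_subgroup L).exists_card_eq
    have hl2 : l ≤ 2 := by
      rw [hl, hd, hd'] at hlt
      have := (Nat.pow_lt_pow_iff_right hp.out.one_lt).1 hlt
      omega
    have hLab : IsMulCommutative L := by
      rcases (show l = 2 ∨ l ≤ 1 by omega) with rfl | hl1
      · exact IsPGroup.isMulCommutative_of_card_eq_prime_sq hl
      · haveI : IsCyclic L := by
          rcases (show l = 0 ∨ l = 1 by omega) with rfl | rfl
          · haveI : Subsingleton L := (Nat.card_eq_one_iff_unique.1 (hl.trans (pow_zero p))).1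
            exact isCyclic_of_subsingleton
          · exact isCyclic_of_prime_card (hl.trans (pow_one p))
        exact ⟨⟨fun u v => by
          obtain ⟨g, hg⟩ := IsCyclic.exists_generator (α := L)
          obtain ⟨i, rfl⟩ := hg u
          obtain ⟨j, rfl⟩ := hg v
          exact ((Commute.refl g).zpow_zpow i j).eq⟩⟩
    have hc := congrArg Subtype.val (hLab.is_comm.comm
      (⟨a, subset_closure (Or.inl rfl)⟩ : L) ⟨b, subset_closure (Or.inr rfl)⟩)
    exact hab (Subtype.ext hc)
  have hKle : ∀ s ∈ K, ∀ x ∈ D, ⁅s, x⁆ ∈ Z := by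
    intro s hs x hx
    rw [← QuotientGroup.eq_one_iff]
    show f ⁅s, x⁆ = 1
    rw [map_commutatorElement, commutatorElement_eq_one_iff_mul_comm]
    exact (mem_centralizer_iff.1 hs (f x) ⟨x, hx, rfl⟩).symm
  have hCK : C ≤ K := by
    intro s hs
    refine mem_centralizer_iff.2 ?_
    rintro _ ⟨x, hx, rfl⟩
    rw [← map_mul, ← map_mul, mem_centralizer_iff.1 hs x hx]
  haveI hKc : K.Characteristic := by
    refine characteristic_iff_le_comap.2 fun e s hs => ?_
    refine mem_centralizer_iff.2 ?_
    rintro _ ⟨x, hx, rfl⟩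
    have hx' : e.symm x ∈ D := characteristic_iff_le_comap.1 hDc e.symm hx
    have h1 := hKle s hs _ hx'
    have h2 : ⁅e s, x⁆ ∈ Z := by
      have h3 : e ⁅s, e.symm x⁆ ∈ Z := by
        obtain ⟨z, hz, hz'⟩ := h1
        refine ⟨⟨e z, characteristic_iff_le_comap.1 hDc e z.2⟩, mem_center_iff.2 fun g => ?_, ?_⟩
        · have hg : e.symm (g : S) ∈ D := characteristic_iff_le_comap.1 hDc e.symm g.2
          have := congrArg (fun w : D => e (w : S)) (mem_center_iff.1 hz ⟨_, hg⟩)
          exact Subtype.ext (by simpa using this)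
        · rw [← hz']; rfl
      rwa [map_commutatorElement, MulEquiv.apply_symm_apply] at h3
    rw [← QuotientGroup.eq_one_iff] at h2
    have h4 : f ⁅e s, x⁆ = 1 := h2
    rw [map_commutatorElement, commutatorElement_eq_one_iff_mul_comm] at h4
    exact h4.symm
  rcases hM K hKc with hKM | hKt
  · refine le_trans ?_ hp2'
    refine le_trans (Nat.le_of_dvd (Nat.pos_of_ne_zero index_ne_zero_of_finite)
      (index_dvd_of_le hKM)) ?_
    rw [hK, index_comap_of_surjective _ hsurj]
    have hWc : Nat.card W = p ^ 2 := by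
      have hmul : Nat.card W * Nat.card Z = Nat.card D := by
        have e1 : (f.comp D.subtype).range = W := by rw [MonoidHom.range_comp, range_subtype]
        have e2 : (f.comp D.subtype).ker = Z.subgroupOf D := by
          rw [← MonoidHom.comap_ker, hf, QuotientGroup.ker_mk']; rfl
        rw [← e1, ← Nat.card_congr (QuotientGroup.quotientKerEquivRange _).toEquiv, e2,
          ← Nat.card_congr (subgroupOfEquivOfLe hZD).toEquiv,
          ← card_eq_card_quotient_mul_card_subgroup]
      rw [hZc, hd, hd', pow_succ p 2] at hmul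
      exact Nat.eq_of_mul_eq_mul_right hp.out.pos hmul
    refine CfsgLib.OddOrder.centralizer_index_le (hS.to_quotient Z) (E := W) ⟨⟨⟨?_⟩⟩, ?_⟩ hWc
    · rintro ⟨_, x, hx, rfl⟩ ⟨_, y, hy, rfl⟩
      refine Subtype.ext (commutatorElement_eq_one_iff_mul_comm.1 ?_)
      rw [← map_commutatorElement, hf, QuotientGroup.mk'_apply, QuotientGroup.eq_one_iff]
      have hcc : ⁅(⟨x, hx⟩ : D), ⟨y, hy⟩⁆ ∈ center D := hDcc _ _
      exact ⟨_, hcc, rfl⟩
    · rintro _ ⟨x, hx, rfl⟩
      rw [← map_pow, ((hD x).1 hx).2, map_one]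
  · -- the commutator map into the centre
    refine le_trans hMC ?_
    have hmem : ∀ s x, x ∈ D → ⁅s, x⁆ ∈ center S := fun s x hx =>
      hZS (hKle s (hKt ▸ mem_top s) x hx)
    have hhom : ∀ x ∈ D, ∀ s t : S, ⁅s * t, x⁆ = ⁅s, x⁆ * ⁅t, x⁆ := by
      intro x hx s t
      have h1 := mem_center_iff.1 (hmem t x hx) s
      calc ⁅s * t, x⁆ = (s * ⁅t, x⁆ * s⁻¹) * ⁅s, x⁆ := by simp [commutatorElement_def, mul_assoc]
        _ = ⁅t, x⁆ * ⁅s, x⁆ := by rw [h1, mul_inv_cancel_right]
        _ = ⁅s, x⁆ * ⁅t, x⁆ := (mem_center_iff.1 (hmem t x hx) ⁅s, x⁆).symm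
    let φ : S →* Z × Z := MonoidHom.mk'
      (fun s => (⟨⁅s, (a : S)⁆, hKle s (hKt ▸ mem_top s) _ a.2⟩,
        ⟨⁅s, (b : S)⁆, hKle s (hKt ▸ mem_top s) _ b.2⟩))
      fun s t => Prod.ext (Subtype.ext (hhom _ a.2 s t)) (Subtype.ext (hhom _ b.2 s t))
    have hφ : φ.ker = C := by
      ext s
      rw [MonoidHom.mem_ker, hC, ← hgen, centralizer_closure, mem_centralizer_iff]
      show (_, _) = ((1 : Z), (1 : Z)) ↔ _
      rw [Prod.mk.injEq, Subtype.ext_iff, Subtype.ext_iff]
      simp only [OneMemClass.coe_one, commutatorElement_eq_one_iff_mul_comm, Set.mem_insert_iff,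
        Set.mem_singleton_iff, forall_eq_or_imp, forall_eq, eq_comm]
    rw [← hφ, index_ker]
    refine le_trans (Finite.card_subtype_le _) ?_
    rw [Nat.card_prod, hZc, sq]

end CfsgLib.ChiefRankTwo

namespace CfsgLib.ChiefRankTwo

open Subgroup

variable {G : Type*} [Group G] [Finite G] {p : ℕ} [hp : Fact p.Prime]

set_option maxHeartbeats 1000000 in
/-- Chief `p`-factors when `O_{p'}` is trivial. -/
theorem relIndex_le_of_core_trivial (hp2 : p ≠ 2) (hG : Cfsg.IsPSolvable p G)
    (hr : Cfsg.PRankLE p 2 G) (hO : Cfsg.pPrimeCore p G = ⊥) (H K : Subgroup G) [H.Normal] [K.Normal]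
    (hKH : K ≤ H) {n : ℕ} (hn : K.relIndex H = p ^ n)
    (hchief : ∀ L : Subgroup G, L.Normal → K ≤ L → L ≤ H → L = K ∨ L = H) : n ≤ 2 := by
  classical
  set R := Cfsg.pCore p G with hR
  haveI hRn : R.Normal := CfsgLib.Solvable.pCore_normal p G
  have hCR := CfsgLib.PLoc.centralizer_pCore_le_self hG hO
  by_cases hHR : H ⊓ R ≤ K
  · obtain ⟨ψ, hψ⟩ := CfsgLib.OddOrder.exists_hom_gl2_kernel hp2 hr hCR
    have hkR : ψ.ker ≤ R := CfsgLib.PLoc.le_pCore_of inferInstance hψ
    have h1 : p ^ n ∣ R.index := by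
      rw [← hn]
      refine dvd_trans ?_ (relIndex_dvd_index_of_normal R H)
      have h2 := relIndex_mul_relIndex (H ⊓ R) K H hHR hKH
      rw [inf_comm H R, inf_relIndex_right R H] at h2
      exact Dvd.intro_left _ h2
    have h2 : p ^ n ∣ Nat.card (GL (Fin 2) (ZMod p)) :=
      (h1.trans (index_dvd_of_le hkR)).trans (index_ker ψ ▸ card_subgroup_dvd_card _)
    by_contra hlt
    push Not at hlt
    have h3 : p ^ 2 ∣ Nat.card (GL (Fin 2) (ZMod p)) := (pow_dvd_pow p hlt.le).trans h2
    rw [Matrix.card_GL_field, Fin.prod_univ_two, ZMod.card] at h3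
    simp only [Fin.val_zero, Fin.val_one, pow_zero, pow_one] at h3
    have h4 : p ^ 2 - p = p * (p - 1) := by rw [Nat.mul_sub, mul_one, sq]
    rw [h4, ← mul_assoc, mul_comm (p ^ 2 - 1) p, mul_assoc, sq] at h3
    have h5 := Nat.dvd_of_mul_dvd_mul_left hp.out.pos h3
    rcases hp.out.dvd_mul.1 h5 with h | h
    · have e : p * p - 1 + 1 = p * p := Nat.sub_add_cancel (Nat.mul_pos hp.out.pos hp.out.pos)
      have : p ∣ 1 := (Nat.dvd_add_right h).1 (e ▸ dvd_mul_right p p)
      exact hp.out.not_dvd_one this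
    · exact absurd (Nat.le_of_dvd (by have := hp.out.two_le; omega) h)
        (by have := hp.out.two_le; omega)
  · obtain ⟨S, ⟨hSn, hSHR, hSK⟩, hmin⟩ := (Set.toFinite
      {S : Subgroup G | S.Normal ∧ S ≤ H ⊓ R ∧ ¬ S ≤ K}).exists_minimal
      ⟨H ⊓ R, inferInstance, le_rfl, hHR⟩
    haveI := hSn
    have hSH : S ⊔ K = H := by
      rcases hchief (S ⊔ K) inferInstance le_sup_right (sup_le (hSHR.trans inf_le_left) hKH)
        with h | h
      · exact absurd (le_sup_left.trans h.le) hSK
      · exact h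
    have hSp : IsPGroup p S := (CfsgLib.PLoc.pCore_pgroup p G).to_le (hSHR.trans inf_le_right)
    have hSr : Cfsg.PRankLE p 2 S := by
      intro A hA hAp
      rw [← card_map_of_injective S.subtype_injective]
      haveI := hA
      refine hr _ (map_isMulCommutative A (f := S.subtype)) ?_
      rintro _ ⟨a, ha, rfl⟩
      rw [← map_pow, hAp a ha, map_one]
    have hidx := index_le_of_rank_two hp2 hSp hSr (K.subgroupOf S) fun C hC => by
      haveI := hC
      by_cases hCK : C.map S.subtype ≤ K
      · exact Or.inl fun c hc => hCK (mem_map_of_mem _ hc)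
      · right
        have h1 : C.map S.subtype = S := le_antisymm (map_subtype_le C)
          (hmin ⟨inferInstance, (map_subtype_le C).trans hSHR, hCK⟩ (map_subtype_le C))
        refine eq_top_iff.2 fun c _ => ?_
        obtain ⟨d, hd, hdc⟩ : (c : G) ∈ C.map S.subtype := h1.symm ▸ c.2
        rwa [← S.subtype_injective hdc]
    have h2 : K.relIndex S = p ^ n := by rw [← hn, ← hSH, relIndex_sup_right]
    rw [show (K.subgroupOf S).index = p ^ n from h2] at hidx
    exact (Nat.pow_le_pow_iff_right hp.out.one_lt).1 hidx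

end CfsgLib.ChiefRankTwo
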