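import Cfsg.Agent.Lib.TwoRank.Basic

/-!
Elementary abelian 2-groups of maximal order in `GL_n`, odd characteristic: the centralizer is commutative.
-/

set_option autoImplicit false

namespace CfsgLib.FullElementary

open CfsgLib.TwoRank

theorem commute_aux (n : ℕ) : ∀ {F V E : Type*} [Field F] [AddCommGroup V] [Module F V]
    [FiniteDimensional F V] [CommGroup E] [Finite E] (_ : (2 : F) ≠ 0) (_ : ∀ e : E, e * e = 1)
    (ρ : E →* Module.End F V) (_ : Function.Injective ρ) (_ : Module.finrank F V = n)
    (_ : Nat.card E = 2 ^ n) (x y : Module.End F V)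
    (_ : ∀ e v, x (ρ e v) = ρ e (x v)) (_ : ∀ e v, y (ρ e v) = ρ e (y v)), ∀ v, x (y v) = y (x v) := by
  induction n using Nat.strong_induction_on with
  | _ n ih =>
    intro F V E _ _ _ _ _ _ h2 hexp ρ hinj hn hE x y hx hy v
    rcases Nat.lt_or_ge n 2 with hn2 | hn2
    · rcases (show n = 0 ∨ n = 1 by omega) with rfl | rfl
      · haveI : Subsingleton V := Module.finrank_zero_iff.mp hn
        exact Subsingleton.elim _ _
      · haveI : Nontrivial V := Module.finrank_pos_iff.mp (hn ▸ Nat.one_pos)
        obtain ⟨w, hw⟩ := exists_ne (0 : V)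
        obtain ⟨a, ha⟩ := exists_smul_eq_of_finrank_eq_one (K := F) hn hw (x w)
        obtain ⟨b, hb⟩ := exists_smul_eq_of_finrank_eq_one (K := F) hn hw (y w)
        obtain ⟨c, rfl⟩ := exists_smul_eq_of_finrank_eq_one (K := F) hn hw v
        rw [map_smul, map_smul, map_smul, map_smul, ← ha, ← hb, map_smul, map_smul, ← ha, ← hb,
          smul_comm a b]
    have hnpos : 0 < Module.finrank F V := by omega
    have hV : Nontrivial V := Module.finrank_pos_iff.mp hnpos
    have hs : ¬ ∀ e, ∃ c : F, ρ e = c • 1 := fun hs => by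
      have h4 : 2 ^ 2 ≤ 2 ^ n := Nat.pow_le_pow_right (by omega) hn2
      have := card_le_two_of_scalar hV hexp ρ hinj hs
      omega
    push Not at hs
    obtain ⟨t, ht⟩ := hs
    set W := LinearMap.ker (ρ t - 1) with hWdef
    set U := LinearMap.ker (ρ t + 1) with hUdef
    have htt : ρ t * ρ t = 1 := by rw [← map_mul, hexp, map_one]
    have hWU : IsCompl W U := isCompl_eigen h2 _ htt
    have hWn : W ≠ ⊤ := fun h => ht 1 (by
      rw [one_smul]
      exact sub_eq_zero.mp (LinearMap.ker_eq_top.mp h))
    have hUn : U ≠ ⊤ := fun h => ht (-1) (by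
      rw [neg_one_smul]
      exact eq_neg_of_add_eq_zero_left (LinearMap.ker_eq_top.mp h))
    have hsum : Module.finrank F W + Module.finrank F U = n := by
      rw [← hn]; exact Submodule.finrank_add_eq_of_isCompl hWU
    have hWlt : Module.finrank F W < n := hn ▸ Submodule.finrank_lt hWn
    have hUlt : Module.finrank F U < n := hn ▸ Submodule.finrank_lt hUn
    have hW := fun e => (eigen_invariant ρ t e).1
    have hU := fun e => (eigen_invariant ρ t e).2
    have hcW : ∀ z : Module.End F V, (∀ e v, z (ρ e v) = ρ e (z v)) → ∀ w ∈ W, z w ∈ W := by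
      intro z hz w hw
      simp only [hWdef, LinearMap.mem_ker, LinearMap.sub_apply, Module.End.one_apply] at hw ⊢
      rw [← hz, ← map_sub, hw, map_zero]
    have hcU : ∀ z : Module.End F V, (∀ e v, z (ρ e v) = ρ e (z v)) → ∀ w ∈ U, z w ∈ U := by
      intro z hz w hw
      simp only [hUdef, LinearMap.mem_ker, LinearMap.add_apply, Module.End.one_apply] at hw ⊢
      rw [← hz, ← map_add, hw, map_zero]
    set f := restrictHom ρ W hW with hf
    set g := restrictHom ρ U hU with hg
    have bW := (card_le_aux _ h2 (exp_quot hexp f.ker) (kerHom f) (kerHom_injective f) rfl).1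
    have bU := (card_le_aux _ h2 (exp_quot hexp g.ker) (kerHom g) (kerHom_injective g) rfl).1
    have hc := Nat.card_le_card_of_injective _ (split_injective ρ hinj hWU hW hU)
    rw [Nat.card_prod, hE, ← hsum, pow_add] at hc
    have hfullW : Nat.card (E ⧸ f.ker) = 2 ^ Module.finrank F W :=
      le_antisymm bW (Nat.le_of_mul_le_mul_right (hc.trans (Nat.mul_le_mul le_rfl bU))
        (pow_pos (by omega) _))
    have hfullU : Nat.card (E ⧸ g.ker) = 2 ^ Module.finrank F U :=
      le_antisymm bU (Nat.le_of_mul_le_mul_left (hc.trans (Nat.mul_le_mul bW le_rfl))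
        (pow_pos (by omega) _))
    have iW := ih _ hWlt h2 (exp_quot hexp f.ker) (kerHom f) (kerHom_injective f) rfl hfullW
      (x.restrict (hcW x hx)) (y.restrict (hcW y hy))
      (fun z w => by
        obtain ⟨e, rfl⟩ := QuotientGroup.mk_surjective z
        exact Subtype.ext (hx e w))
      (fun z w => by
        obtain ⟨e, rfl⟩ := QuotientGroup.mk_surjective z
        exact Subtype.ext (hy e w))
    have iU := ih _ hUlt h2 (exp_quot hexp g.ker) (kerHom g) (kerHom_injective g) rfl hfullU
      (x.restrict (hcU x hx)) (y.restrict (hcU y hy))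
      (fun z w => by
        obtain ⟨e, rfl⟩ := QuotientGroup.mk_surjective z
        exact Subtype.ext (hx e w))
      (fun z w => by
        obtain ⟨e, rfl⟩ := QuotientGroup.mk_surjective z
        exact Subtype.ext (hy e w))
    obtain ⟨w, hw, u, hu, rfl⟩ :=
      Submodule.mem_sup.mp (hWU.sup_eq_top.symm ▸ Submodule.mem_top : v ∈ W ⊔ U)
    have e1 : x (y w) = y (x w) := congrArg Subtype.val (iW ⟨w, hw⟩)
    have e2 : x (y u) = y (x u) := congrArg Subtype.val (iU ⟨u, hu⟩)
    simp only [map_add, e1, e2]

end CfsgLib.FullElementary
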