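import Cfsg.Agent.Lib.PLocal.ActionStable
import Cfsg.Agent.Lib.Transfer.ThompsonFactor
import Cfsg.Agent.Lib.ConjAbelian.CoreStructure
import Cfsg.Agent.Lib.OddOrder.Fitting
import Cfsg.Agent.Lib.NilpPerm.Bound
import Cfsg.Agent.Lib.OddOrder.PiCore
import Cfsg.Agent.Lib.Solvable.Hall
import Cfsg.Agent.Lib.Solvable.CoprimeAction
import Cfsg.Prelude.Def_OddOrderLocal

/-!
Centralizers of SCN subgroups of the Fitting subgroup of a Hall subgroup in solvable groups.
-/

set_option autoImplicit false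
set_option linter.style.haveILetI false

open scoped commutatorElement

namespace CfsgLib.ScnHall

open Subgroup

variable {S : Type*} [Group S] [Finite S]

/-- The subgroup fixing every `O_r(S)`, `r ≠ p`. -/
def T (p : ℕ) (S : Type*) [Group S] : Subgroup S :=
  centralizer {y : S | ∃ r : ℕ, r.Prime ∧ r ≠ p ∧ y ∈ Cfsg.pCore r S}

theorem T_normal (p : ℕ) : (T p S).Normal := by
  refine ⟨fun x hx g => mem_centralizer_iff.2 ?_⟩
  rintro y ⟨r, hr, hrp, hy⟩
  have hy' : g⁻¹ * y * g ∈ Cfsg.pCore r S := by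
    have := (CfsgLib.Solvable.pCore_normal r S).conj_mem y hy g⁻¹
    rwa [inv_inv] at this
  have h := mem_centralizer_iff.1 hx _ ⟨r, hr, hrp, hy'⟩
  calc y * (g * x * g⁻¹) = g * ((g⁻¹ * y * g) * x) * g⁻¹ := by group
    _ = g * (x * (g⁻¹ * y * g)) * g⁻¹ := by rw [h]
    _ = g * x * g⁻¹ * y := by group

theorem exists_coprime_split {G : Type*} [Group G] {a : G} {m k : ℕ} (h : m.Coprime k) :
    ∃ i j : ℤ, a = (a ^ m) ^ i * (a ^ k) ^ j := by
  refine ⟨m.gcdA k, m.gcdB k, ?_⟩
  have hb := Nat.gcd_eq_gcd_ab m k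
  rw [h.gcd_eq_one] at hb
  rw [← zpow_natCast a m, ← zpow_natCast a k, ← zpow_mul, ← zpow_mul, ← zpow_add, ← hb,
    Nat.cast_one, zpow_one]

variable [Group.IsSolvable S]

set_option maxHeartbeats 1000000 in
/-- `p`-elements (`p ≥ 5`) centralizing a self-centralizing normal abelian subgroup of a nilpotent
overgroup of `F(S)` lie in it. -/
theorem mem_of_centralizes {p : ℕ} [hp : Fact p.Prime] (h5 : 5 ≤ p) {N A : Subgroup S}
    (hFN : Cfsg.fittingSubgroup S ≤ N) (hN : Group.IsNilpotent N) (hA : Cfsg.IsSCN N A) {x : S}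
    (hx : x ∈ centralizer (A : Set S)) {i : ℕ} (hxp : orderOf x = p ^ i) : x ∈ A := by
  classical
  obtain ⟨hAN, hNA, hNC⟩ := hA
  have hab : ∀ a ∈ A, ∀ b ∈ A, a * b = b * a := fun a ha b hb => by
    have : b ∈ N ⊓ centralizer (A : Set S) := by rw [hNC]; exact hb
    exact this.2 a ha
  haveI := hN
  have hmem : ∀ u ∈ N, (∀ a ∈ A, a * u = u * a) → u ∈ A := fun u hu h => hNC ▸ mem_inf.2 ⟨hu, h⟩
  have hcopc : ∀ u ∈ N, ∀ v ∈ N, (orderOf u).Coprime (orderOf v) → u * v = v * u := by
    intro u hu v hv hc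
    exact congrArg Subtype.val (CfsgLib.NilpPerm.commute_of_coprime_order
      (a := (⟨u, hu⟩ : N)) (b := ⟨v, hv⟩) (by rwa [Subgroup.orderOf_mk, Subgroup.orderOf_mk])).eq
  -- `x` centralizes every `O_r`, `r ≠ p`
  have hxT : x ∈ T p S := by
    refine mem_centralizer_iff.2 ?_
    rintro y ⟨r, hr, hrp, hy⟩
    haveI := Fact.mk hr
    obtain ⟨R⟩ : Nonempty (Sylow r A) := inferInstance
    haveI hRn : (R : Subgroup A).Normal := ⟨fun u hu g => by
      rw [show g * u = u * g from Subtype.ext (hab g g.2 u u.2), mul_inv_cancel_right]; exact hu⟩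
    set P := (R : Subgroup A).map A.subtype with hP
    have hPA : P ≤ A := map_subtype_le _
    have hOn : normalizer ((Cfsg.pCore r S : Subgroup S) : Set S) = ⊤ :=
      normalizer_eq_top_iff.2 (CfsgLib.Solvable.pCore_normal r S)
    have hcop : (Nat.card (zpowers x)).Coprime r := by
      rw [Nat.card_zpowers, hxp]
      exact ((Nat.coprime_primes hp.out hr).2 (Ne.symm hrp)).pow_left i
    have h := CfsgLib.Solvable.thompson_pxq (P := P) (Q := zpowers x) (U := Cfsg.pCore r S)
      (R.isPGroup'.map _) hcop (CfsgLib.Solvable.pCore_isPGroup r S)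
      (hPA.trans (le_centralizer_iff.1 (zpowers_le.2 hx))) (hOn ▸ le_top) (hOn ▸ le_top) ?_ (mem_zpowers x)
    · exact h y hy
    rintro u ⟨huO, huP⟩
    have huN : u ∈ N := hFN (CfsgLib.Solvable.pCore_le_fittingSubgroup huO)
    have huA : u ∈ A := hmem u huN fun a ha => by
      obtain ⟨k, hk⟩ := R.isPGroup'.exists_card_eq
      obtain ⟨ku, hku⟩ := (CfsgLib.Solvable.pCore_isPGroup r S) ⟨u, huO⟩
      have hm1 : a ^ (R : Subgroup A).index ∈ P :=
        ⟨(⟨a, ha⟩ : A) ^ (R : Subgroup A).index, pow_index_mem _ _, rfl⟩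
      have hcm : (R : Subgroup A).index.Coprime (r ^ k) :=
        ((hr.coprime_iff_not_dvd.2 R.not_dvd_index).symm).pow_right k
      obtain ⟨e, f, hef⟩ := exists_coprime_split (a := a) hcm
      have c1 : Commute (a ^ (R : Subgroup A).index) u := huP _ hm1
      have c2 : Commute (a ^ r ^ k) u := by
        refine hcopc _ (pow_mem (hAN ha) _) u huN ?_
        refine Nat.Coprime.coprime_dvd_left (orderOf_dvd_of_pow_eq_one
          (n := (R : Subgroup A).index) ?_) ?_
        · rw [← pow_mul, ← hk, Subgroup.card_mul_index]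
          exact congrArg Subtype.val (pow_card_eq_one' (x := (⟨a, ha⟩ : A)))
        · refine Nat.Coprime.coprime_dvd_right (orderOf_dvd_of_pow_eq_one (congrArg Subtype.val hku)) ?_
          exact ((hr.coprime_iff_not_dvd.2 R.not_dvd_index).symm).pow_right ku
      rw [hef]
      exact ((c1.zpow_left e).mul_left (c2.zpow_left f)).eq
    rintro z ⟨j, rfl⟩
    exact ((show Commute x u from (hx u huA).symm).zpow_left j).eq
  -- quadratic action on `O_p`
  set P := Cfsg.pCore p S with hP
  have hq : ⁅⁅P, zpowers x⁆, zpowers x⁆ = ⊥ := by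
    have h1 : ⁅P, zpowers x⁆ ≤ A := by
      rw [commutator_le]
      intro u hu v hv
      have hvA : v ∈ centralizer (A : Set S) := zpowers_le.2 hx hv
      have huN : u ∈ N := hFN (CfsgLib.Solvable.pCore_le_fittingSubgroup (p := p) hu)
      refine hmem _ (hFN (CfsgLib.Solvable.pCore_le_fittingSubgroup (p := p) ?_)) fun a ha => ?_
      · rw [commutatorElement_def, mul_assoc, mul_assoc, ← mul_assoc v]
        exact P.mul_mem hu ((CfsgLib.Solvable.pCore_normal p S).conj_mem _ (P.inv_mem hu) v)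
      · have ha' : u⁻¹ * a * u ∈ A := by
          have := (mem_normalizer_iff.1 (inv_mem (hNA huN)) a).1 ha
          rwa [inv_inv] at this
        have e1 : v⁻¹ * a * v = a := by rw [mul_assoc, hvA a ha, inv_mul_cancel_left]
        have e2 : v * (u⁻¹ * a * u) * v⁻¹ = u⁻¹ * a * u := by
          rw [← hvA _ ha', mul_inv_cancel_right]
        rw [commutatorElement_def]
        calc a * (u * v * u⁻¹ * v⁻¹) = u * v * u⁻¹ * v⁻¹ * (v * u * v⁻¹ * (u⁻¹ * a * u) * v * u⁻¹ * v⁻¹) := by group
          _ = u * v * u⁻¹ * v⁻¹ * (v * u * (v⁻¹ * (u⁻¹ * a * u) * v) * u⁻¹ * v⁻¹) := by group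
          _ = u * v * u⁻¹ * v⁻¹ * (v * a * v⁻¹) := by
            rw [show v⁻¹ * (u⁻¹ * a * u) * v = u⁻¹ * a * u by
              rw [mul_assoc, hvA _ ha', inv_mul_cancel_left]]
            group
          _ = u * v * u⁻¹ * v⁻¹ * a := by rw [← hvA a ha, mul_inv_cancel_right]
    rw [commutator_eq_bot_iff_le_centralizer]
    exact h1.trans (le_centralizer_iff.1 (zpowers_le.2 hx))
  -- p-stability
  set Φ := (frattini P).map P.subtype with hΦ
  haveI : P.Normal := CfsgLib.Solvable.pCore_normal p S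
  haveI hΦn : Φ.Normal := inferInstanceAs ((frattini P).map P.subtype).Normal
  have hst := (CfsgLib.PLocal.isActionPStable_of_cond (by omega : p ≠ 2)
    (Or.inr ⟨h5, CfsgLib.ThompsonFactor.isPSolvable_of_isSolvable (inferInstance : Group.IsSolvable S)⟩)).2.1
  obtain ⟨D, hDn, hKD, ⟨k, hk⟩, hxD⟩ := hst x (hq.le.trans bot_le)
  haveI := hDn
  haveI : (T p S).Normal := T_normal p
  set E := D ⊓ T p S with hE
  haveI hEn : E.Normal := inferInstanceAs (D ⊓ T p S).Normal
  haveI := CfsgLib.Solvable.fittingSubgroup_normal S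
  have hcen : ∀ e ∈ E, (orderOf e).Coprime p → ∀ g ∈ E, e * g = g * e := by
    intro e he hec g hg
    haveI : (Cfsg.sectionKernel P Φ).Normal := by
      haveI : (P.map (QuotientGroup.mk' Φ)).Normal :=
        (inferInstance : P.Normal).map _ (QuotientGroup.mk'_surjective _)
      exact inferInstanceAs (Subgroup.comap _ _).Normal
    have hek : e ^ p ^ k ∈ Cfsg.sectionKernel P Φ := by
      have h := pow_index_mem ((Cfsg.sectionKernel P Φ).subgroupOf D) (⟨e, he.1⟩ : D)
      rw [show ((Cfsg.sectionKernel P Φ).subgroupOf D).index = p ^ k from hk] at h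
      exact h
    have he' : e ∈ Cfsg.sectionKernel P Φ := by
      obtain ⟨j, hj⟩ := exists_pow_eq_self_of_coprime (hec.symm.pow_left k)
      rw [← hj]
      exact pow_mem hek j
    have hPe : zpowers e ≤ centralizer (P : Set S) := by
      refine CfsgLib.Solvable.le_centralizer_of_trivial_on_frattini_quotient ?_ fun w hw u hu => ?_
      · obtain ⟨l, hl⟩ := ((CfsgLib.Solvable.pCore_isPGroup p S).to_subgroup (frattini P)).exists_card_eq
        rw [Nat.card_zpowers, hl]
        exact hec.pow_right l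
      · have hwK : w ∈ Cfsg.sectionKernel P Φ := zpowers_le.2 he' hw
        rw [← hΦ, ← QuotientGroup.eq_one_iff]
        show QuotientGroup.mk' Φ (w * u * w⁻¹ * u⁻¹) = 1
        rw [← commutatorElement_def, map_commutatorElement, commutatorElement_eq_one_iff_mul_comm]
        exact (hwK _ ⟨u, hu, rfl⟩).symm
    have heF : e ∈ Cfsg.fittingSubgroup S := by
      refine CfsgLib.Solvable.centralizer_fittingSubgroup_le ?_
      have hle : Cfsg.fittingSubgroup S ≤ centralizer {e} := by
        rw [CfsgLib.Solvable.fittingSubgroup_eq_iSup_pCore]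
        refine iSup_le fun r => ?_
        obtain ⟨r, hr'⟩ := r
        have hr : r.Prime := (Nat.mem_primeFactors.1 hr').1
        intro y hy
        rw [mem_centralizer_singleton_iff]
        rcases eq_or_ne r p with rfl | hrp
        · exact hPe (mem_zpowers e) y hy
        · exact mem_centralizer_iff.1 he.2 y ⟨r, hr, hrp, hy⟩
      exact fun y hy => mem_centralizer_singleton_iff.1 (hle hy)
    have : e ∈ centralizer {g} := by
      refine CfsgLib.OddOrder.mem_of_forall_exists_pow_mem (orderOf_pos e) fun q hq hqd => ?_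
      haveI := Fact.mk hq
      refine ⟨orderOf e / q ^ (orderOf e).factorization q, Nat.not_dvd_ordCompl hq (orderOf_pos e).ne', ?_⟩
      have hqp : q ≠ p := fun h => hp.out.not_dvd_one (Nat.Coprime.gcd_eq_one hec ▸ Nat.dvd_gcd (h ▸ hqd) dvd_rfl)
      have hord : orderOf (e ^ (orderOf e / q ^ (orderOf e).factorization q)) =
          q ^ (orderOf e).factorization q := by
        rw [orderOf_pow_orderOf_div (orderOf_pos e).ne' (Nat.ordProj_dvd _ _)]
      have hmem' := CfsgLib.ConjAbelian.mem_pCore_of_mem_fitting (pow_mem heF _) hord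
      exact mem_centralizer_singleton_iff.2 (mem_centralizer_iff.1 hg.2 _ ⟨q, hq, hqp, hmem'⟩)
    exact mem_centralizer_singleton_iff.1 this
  have hEnil : Group.IsNilpotent E := by
    haveI : Group.IsNilpotent (E ⧸ center E) := by
      refine (IsPGroup.isNilpotent (p := p) ?_)
      intro q
      obtain ⟨g, rfl⟩ := QuotientGroup.mk_surjective q
      refine ⟨(orderOf g).factorization p, ?_⟩
      rw [← QuotientGroup.mk_pow, QuotientGroup.eq_one_iff, mem_center_iff]
      intro y
      refine Subtype.ext ((hcen _ (g ^ _).2 ?_ y y.2).symm)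
      rw [Subgroup.orderOf_coe, orderOf_pow' _ (pow_ne_zero _ hp.out.ne_zero),
        Nat.gcd_eq_right (Nat.ordProj_dvd _ _)]
      exact (Nat.coprime_ordCompl hp.out (orderOf_pos g).ne').symm
    exact Subgroup.isNilpotent_of_ker_le_center (QuotientGroup.mk' (center E))
      (by rw [QuotientGroup.ker_mk'])
  have hxE : x ∈ E := mem_inf.2 ⟨hxD, hxT⟩
  exact hmem x (hFN (CfsgLib.Solvable.le_fittingSubgroup hEn hEnil hxE)) hx

end CfsgLib.ScnHall

namespace CfsgLib.ScnHall

open Subgroup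

variable {S : Type*} [Group S] [Finite S] [Group.IsSolvable S]

set_option maxHeartbeats 1000000 in
/-- `p`-elements centralizing an SCN subgroup of `F(H)`, `H` a Hall subgroup, lie in it. -/
theorem mem_of_centralizes_hall {π : Set ℕ} {p : ℕ} [hp : Fact p.Prime] (h5 : 5 ≤ p) (hpπ : p ∈ π)
    {H A : Subgroup S} (hH : Cfsg.IsPiHall π H)
    (hA : Cfsg.IsSCN ((Cfsg.fittingSubgroup H).map H.subtype) A)
    {x : S} (hx : x ∈ centralizer (A : Set S)) {i : ℕ} (hxp : orderOf x = p ^ i) : x ∈ A := by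
  classical
  set N := Cfsg.piCore πᶜ S with hN
  have hNpi : ∀ q : ℕ, q.Prime → q ∣ Nat.card N → q ∉ π := fun q hq hd =>
    CfsgLib.OddOrder.piCore_isPiSubgroup πᶜ S q hq hd
  have hdisj : ∀ L : Subgroup S, (∀ q : ℕ, q.Prime → q ∣ Nat.card L → q ∈ π) → ∀ y ∈ L, y ∈ N → y = 1 := by
    intro L hL y hyL hyN
    by_contra hy1
    obtain ⟨q, hq, hqd⟩ := Nat.exists_prime_and_dvd (fun h => hy1 (orderOf_eq_one_iff.1 h))
    exact hNpi q hq (hqd.trans (N.orderOf_dvd_natCard hyN)) (hL q hq (hqd.trans (L.orderOf_dvd_natCard hyL)))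
  set f := QuotientGroup.mk' N with hf
  have hsurj : Function.Surjective f := QuotientGroup.mk'_surjective N
  set g := f.comp H.subtype with hg
  have hginj : Function.Injective g := by
    rw [← MonoidHom.ker_eq_bot_iff, eq_bot_iff]
    intro y hy
    exact Subgroup.mem_bot.2 (Subtype.ext (hdisj H hH.1 (y : S) y.2 ((QuotientGroup.eq_one_iff _).1 hy)))
  let e : H ≃* g.range := MonoidHom.ofInjective hginj
  have hrange : g.range = H.map f := by rw [hg, MonoidHom.range_comp, range_subtype]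
  set NH := (Cfsg.fittingSubgroup H).map g with hNH
  have hNHnil : Group.IsNilpotent NH := by
    haveI := CfsgLib.Solvable.fittingSubgroup_isNilpotent H
    exact Group.nilpotent_of_mulEquiv ((Cfsg.fittingSubgroup H).equivMapOfInjective g hginj)
  -- the Fitting subgroup of the quotient
  have hFN : Cfsg.fittingSubgroup (S ⧸ N) ≤ NH := by
    have hFH : Cfsg.fittingSubgroup (S ⧸ N) ≤ g.range := by
      rw [CfsgLib.Solvable.fittingSubgroup_eq_iSup_pCore]
      refine iSup_le fun r => ?_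
      obtain ⟨r, hr'⟩ := r
      have hr : r.Prime := (Nat.mem_primeFactors.1 hr').1
      haveI := Fact.mk hr
      obtain ⟨l, hl⟩ := (CfsgLib.Solvable.pCore_isPGroup r (S ⧸ N)).exists_card_eq
      by_cases hrπ : r ∈ π
      · have hHf : Cfsg.IsPiHall π (H.map f) :=
          ⟨fun q hq hd => hH.1 q hq (hd.trans (Subgroup.card_map_dvd H f)),
            fun q hq hqπ hd => hH.2 q hq hqπ (hd.trans (index_map_dvd H hsurj))⟩
        have hRpi : ∀ q : ℕ, q.Prime → q ∣ Nat.card (Cfsg.pCore r (S ⧸ N)) → q ∈ π := by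
          intro q hq hd
          rw [hl] at hd
          rwa [(Nat.prime_dvd_prime_iff_eq hq hr).1 (hq.dvd_of_dvd_pow hd)]
        obtain ⟨c, hc⟩ := CfsgLib.Solvable.exists_conj_le_isPiHall hHf hRpi
        rw [hrange]
        intro y hy
        have hy' : c⁻¹ * y * c ∈ Cfsg.pCore r (S ⧸ N) := by
          have := (CfsgLib.Solvable.pCore_normal r (S ⧸ N)).conj_mem y hy c⁻¹
          rwa [inv_inv] at this
        have := hc (Subgroup.smul_mem_pointwise_smul _ (MulAut.conj c) _ hy')
        simpa [mul_assoc] using this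
      · refine le_trans ?_ bot_le
        rw [← CfsgLib.OddOrder.piCore_quotient_eq_bot (π := πᶜ) N hN]
        refine CfsgLib.OddOrder.le_piCore (CfsgLib.Solvable.pCore_normal r _) fun q hq hd => ?_
        rw [hl] at hd
        rw [(Nat.prime_dvd_prime_iff_eq hq hr).1 (hq.dvd_of_dvd_pow hd)]
        exact hrπ
    intro y hy
    obtain ⟨h, rfl⟩ := hFH hy
    haveI := CfsgLib.Solvable.fittingSubgroup_normal (S ⧸ N)
    haveI := CfsgLib.Solvable.fittingSubgroup_isNilpotent (S ⧸ N)
    refine ⟨h, ?_, rfl⟩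
    have hle : (Cfsg.fittingSubgroup (S ⧸ N)).comap g ≤ Cfsg.fittingSubgroup H := by
      refine CfsgLib.Solvable.le_fittingSubgroup inferInstance ?_
      let ι : ↥((Cfsg.fittingSubgroup (S ⧸ N)).comap g) →* ↥(Cfsg.fittingSubgroup (S ⧸ N)) :=
        (g.comp ((Cfsg.fittingSubgroup (S ⧸ N)).comap g).subtype).codRestrict _ fun z => z.2
      have hι : Function.Injective ι := fun u v huv => Subtype.ext (hginj (congrArg Subtype.val huv))
      exact Group.nilpotent_of_mulEquiv (MonoidHom.ofInjective hι).symm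
    exact hle hy
  obtain ⟨hAN, hNA, hNC⟩ := hA
  have hAH : A ≤ H := hAN.trans (map_subtype_le _)
  have hNHmap : NH = ((Cfsg.fittingSubgroup H).map H.subtype).map f := by
    rw [hNH, hg, Subgroup.map_map]
  have hscn : Cfsg.IsSCN NH (A.map f) := by
    rw [hNHmap]
    refine ⟨Subgroup.map_mono hAN, (Subgroup.map_mono hNA).trans (le_normalizer_map f), le_antisymm ?_ ?_⟩
    · rintro _ ⟨⟨y, hy, rfl⟩, hyC⟩
      refine ⟨y, hNC ▸ mem_inf.2 ⟨hy, fun a ha => ?_⟩, rfl⟩
      have h := hyC (f a) ⟨a, ha, rfl⟩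
      rw [← map_mul, ← map_mul] at h
      have hyH : y ∈ H := map_subtype_le _ hy
      have e2 : (⟨a, hAH ha⟩ : H) * ⟨y, hyH⟩ = ⟨y, hyH⟩ * ⟨a, hAH ha⟩ := hginj h
      exact congrArg Subtype.val e2
    · rintro _ ⟨a, ha, rfl⟩
      refine ⟨Subgroup.mem_map_of_mem _ (hAN ha), ?_⟩
      rintro _ ⟨b, hb, rfl⟩
      have hbC : b ∈ (Cfsg.fittingSubgroup H).map H.subtype ⊓ centralizer (A : Set S) := by
        rw [hNC]; exact hb
      rw [← map_mul, ← map_mul, hbC.2 a ha]
  have hfx : f x ∈ centralizer ((A.map f : Subgroup _) : Set (S ⧸ N)) := by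
    rintro _ ⟨a, ha, rfl⟩
    rw [← map_mul, ← map_mul, hx a ha]
  obtain ⟨j, -, hj⟩ := (Nat.dvd_prime_pow hp.out).1 (hxp ▸ orderOf_map_dvd f x)
  obtain ⟨a, ha, hax⟩ := mem_of_centralizes h5 hFN hNHnil hscn hfx hj
  have hd : a⁻¹ * x ∈ N := QuotientGroup.eq.1 hax
  have hcomm : Commute a⁻¹ x := (show Commute a x from hx a ha).inv_left
  have h1 : a⁻¹ * x = 1 := by
    by_contra hne
    obtain ⟨q, hq, hqd⟩ := Nat.exists_prime_and_dvd (fun h => hne (orderOf_eq_one_iff.1 h))
    have hdvd : orderOf (a⁻¹ * x) ∣ orderOf a * p ^ i := by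
      rw [← hxp, ← orderOf_inv a]
      exact hcomm.orderOf_mul_dvd_mul_orderOf
    refine hNpi q hq (hqd.trans (N.orderOf_dvd_natCard hd)) ?_
    rcases hq.dvd_mul.1 (hqd.trans hdvd) with h | h
    · exact hH.1 q hq (h.trans (H.orderOf_dvd_natCard (hAH ha)))
    · rwa [(Nat.prime_dvd_prime_iff_eq hq hp.out).1 (hq.dvd_of_dvd_pow h)]
  rwa [← inv_mul_eq_one.1 h1]

end CfsgLib.ScnHall
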