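import Mathlib

/-!
An explicit homomorphism from `SL(2, 7)` into `3 × 3` unitary matrices over the field with nine elements.
-/

set_option autoImplicit false

namespace CfsgLib.SevenInU33

/-- `re + im i` in `F_9 = F_3(i)`. -/
structure G9 where
  re : Fin 3
  im : Fin 3
deriving DecidableEq

namespace G9

def add (x y : G9) : G9 := ⟨x.re + y.re, x.im + y.im⟩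
def mul (x y : G9) : G9 := ⟨x.re * y.re - x.im * y.im, x.re * y.im + x.im * y.re⟩
def bar (x : G9) : G9 := ⟨x.re, -x.im⟩
def zero : G9 := ⟨0, 0⟩
def one : G9 := ⟨1, 0⟩

end G9

structure V9 where
  a : G9
  b : G9
  c : G9
deriving DecidableEq

structure M9 where
  a : V9
  b : V9
  c : V9
deriving DecidableEq

def V9.get (v : V9) : Fin 3 → G9
  | 0 => v.a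
  | 1 => v.b
  | 2 => v.c

def M9.get (m : M9) : Fin 3 → Fin 3 → G9
  | 0 => m.a.get
  | 1 => m.b.get
  | 2 => m.c.get

def dot (u : V9) (x y z : G9) : G9 := G9.add (G9.add (G9.mul u.a x) (G9.mul u.b y)) (G9.mul u.c z)

def rowMul (u : V9) (m : M9) : V9 :=
  ⟨dot u m.a.a m.b.a m.c.a, dot u m.a.b m.b.b m.c.b, dot u m.a.c m.b.c m.c.c⟩

def mul9 (m n : M9) : M9 := ⟨rowMul m.a n, rowMul m.b n, rowMul m.c n⟩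

def herm (u v : V9) : G9 := dot u (G9.bar v.a) (G9.bar v.b) (G9.bar v.c)

def det9 (m : M9) : G9 :=
  let t := fun (x y z w : G9) => G9.add (G9.mul x y) (G9.mul ⟨2, 0⟩ (G9.mul z w))
  G9.add (G9.add (G9.mul m.a.a (t m.b.b m.c.c m.b.c m.c.b))
    (G9.mul m.a.b (t m.b.c m.c.a m.b.a m.c.c))) (G9.mul m.a.c (t m.b.a m.c.b m.b.b m.c.a))

def id9 : M9 := ⟨⟨G9.one, G9.zero, G9.zero⟩, ⟨G9.zero, G9.one, G9.zero⟩, ⟨G9.zero, G9.zero, G9.one⟩⟩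

def inv7 : List ℕ := [0, 1, 4, 5, 2, 3, 6]

def powA : List M9 := [⟨⟨⟨1,0⟩,⟨0,0⟩,⟨0,0⟩⟩,⟨⟨0,0⟩,⟨1,0⟩,⟨0,0⟩⟩,⟨⟨0,0⟩,⟨0,0⟩,⟨1,0⟩⟩⟩,
    ⟨⟨⟨0,0⟩,⟨0,0⟩,⟨0,1⟩⟩,⟨⟨1,1⟩,⟨1,1⟩,⟨0,0⟩⟩,⟨⟨1,1⟩,⟨2,2⟩,⟨0,0⟩⟩⟩,
    ⟨⟨⟨2,1⟩,⟨1,2⟩,⟨0,0⟩⟩,⟨⟨0,2⟩,⟨0,2⟩,⟨2,1⟩⟩,⟨⟨0,1⟩,⟨0,1⟩,⟨2,1⟩⟩⟩,
    ⟨⟨⟨2,0⟩,⟨2,0⟩,⟨2,2⟩⟩,⟨⟨2,2⟩,⟨0,2⟩,⟨1,0⟩⟩,⟨⟨0,1⟩,⟨1,1⟩,⟨2,0⟩⟩⟩,
    ⟨⟨⟨2,0⟩,⟨2,1⟩,⟨0,2⟩⟩,⟨⟨2,0⟩,⟨0,1⟩,⟨1,2⟩⟩,⟨⟨2,1⟩,⟨1,0⟩,⟨2,0⟩⟩⟩,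
    ⟨⟨⟨2,2⟩,⟨0,1⟩,⟨0,2⟩⟩,⟨⟨1,1⟩,⟨0,1⟩,⟨0,2⟩⟩,⟨⟨0,0⟩,⟨2,2⟩,⟨2,2⟩⟩⟩,
    ⟨⟨⟨0,0⟩,⟨1,2⟩,⟨1,2⟩⟩,⟨⟨0,0⟩,⟨1,2⟩,⟨2,1⟩⟩,⟨⟨0,2⟩,⟨0,0⟩,⟨0,0⟩⟩⟩]

def diagImg : List M9 := [⟨⟨⟨1,0⟩,⟨0,0⟩,⟨0,0⟩⟩,⟨⟨0,0⟩,⟨1,0⟩,⟨0,0⟩⟩,⟨⟨0,0⟩,⟨0,0⟩,⟨1,0⟩⟩⟩,
    ⟨⟨⟨1,0⟩,⟨0,0⟩,⟨0,0⟩⟩,⟨⟨0,0⟩,⟨1,0⟩,⟨0,0⟩⟩,⟨⟨0,0⟩,⟨0,0⟩,⟨1,0⟩⟩⟩,
    ⟨⟨⟨0,2⟩,⟨2,1⟩,⟨1,0⟩⟩,⟨⟨1,1⟩,⟨1,0⟩,⟨2,0⟩⟩,⟨⟨0,1⟩,⟨1,0⟩,⟨2,1⟩⟩⟩,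
    ⟨⟨⟨0,1⟩,⟨1,2⟩,⟨0,2⟩⟩,⟨⟨2,2⟩,⟨1,0⟩,⟨1,0⟩⟩,⟨⟨1,0⟩,⟨2,0⟩,⟨2,2⟩⟩⟩,
    ⟨⟨⟨0,1⟩,⟨1,2⟩,⟨0,2⟩⟩,⟨⟨2,2⟩,⟨1,0⟩,⟨1,0⟩⟩,⟨⟨1,0⟩,⟨2,0⟩,⟨2,2⟩⟩⟩,
    ⟨⟨⟨0,2⟩,⟨2,1⟩,⟨1,0⟩⟩,⟨⟨1,1⟩,⟨1,0⟩,⟨2,0⟩⟩,⟨⟨0,1⟩,⟨1,0⟩,⟨2,1⟩⟩⟩,
    ⟨⟨⟨1,0⟩,⟨0,0⟩,⟨0,0⟩⟩,⟨⟨0,0⟩,⟨1,0⟩,⟨0,0⟩⟩,⟨⟨0,0⟩,⟨0,0⟩,⟨1,0⟩⟩⟩]

def imgW : M9 := ⟨⟨⟨0,0⟩,⟨1,1⟩,⟨1,2⟩⟩,⟨⟨1,2⟩,⟨1,0⟩,⟨0,1⟩⟩,⟨⟨1,1⟩,⟨0,2⟩,⟨1,0⟩⟩⟩

/-- The image of the matrix `(a b; c d)`. -/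
def img (a b c d : Fin 7) : M9 :=
  if c = 0 then mul9 (diagImg.getD a.val id9) (powA.getD ((b.val * inv7.getD a.val 0) % 7) id9)
  else mul9 (powA.getD ((a.val * inv7.getD c.val 0) % 7) id9)
    (mul9 (mul9 imgW (diagImg.getD (-c).val id9)) (powA.getD ((d.val * inv7.getD c.val 0) % 7) id9))

def check (a b c d : Fin 7) : Bool :=
  !decide (a * d - b * c = 1) ||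
    (decide (img a (a + b) c (c + d) = mul9 (img a b c d) (img 1 1 0 1)) &&
      decide (img (6 * b) a (6 * d) c = mul9 (img a b c d) (img 0 1 6 0)) &&
      decide (det9 (img a b c d) = G9.one) &&
      decide (herm (img a b c d).a (img a b c d).a = G9.one) &&
      decide (herm (img a b c d).b (img a b c d).b = G9.one) &&
      decide (herm (img a b c d).c (img a b c d).c = G9.one) &&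
      decide (herm (img a b c d).a (img a b c d).b = G9.zero) &&
      decide (herm (img a b c d).a (img a b c d).c = G9.zero) &&
      decide (herm (img a b c d).b (img a b c d).c = G9.zero))

theorem check_zero : ∀ b c d : Fin 7, check 0 b c d = true := by decide +kernel
theorem check_one : ∀ b c d : Fin 7, check 1 b c d = true := by decide +kernel
theorem check_two : ∀ b c d : Fin 7, check 2 b c d = true := by decide +kernel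
theorem check_three : ∀ b c d : Fin 7, check 3 b c d = true := by decide +kernel
theorem check_four : ∀ b c d : Fin 7, check 4 b c d = true := by decide +kernel
theorem check_five : ∀ b c d : Fin 7, check 5 b c d = true := by decide +kernel
theorem check_six : ∀ b c d : Fin 7, check 6 b c d = true := by decide +kernel

theorem check_all : ∀ a b c d : Fin 7, check a b c d = true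
  | 0 => check_zero
  | 1 => check_one
  | 2 => check_two
  | 3 => check_three
  | 4 => check_four
  | 5 => check_five
  | 6 => check_six

theorem img_center : img 6 0 0 6 = id9 ∧ img 1 0 0 1 = id9 := by decide +kernel

theorem img_nontrivial : img 1 1 0 1 ≠ id9 := by decide +kernel

end CfsgLib.SevenInU33
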