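import Cfsg.Agent.Lib.Balance.SevenInU33
import Cfsg.Agent.Lib.Linear.PSL2Seven
import Cfsg.Agent.Lib.Linear.Simple
import Cfsg.Prelude.Def_Classical

/-!
The embedding `PSL(2, 7) → PSU(3, 3)`.
-/

set_option autoImplicit false

namespace CfsgLib.SevenInU33

open Matrix

local instance fact_seven : Fact (Nat.Prime 7) := ⟨by norm_num⟩

variable {F : Type*} [Field F] [CharP F 3] {i : F}

/-- Evaluation `re + im i`. -/
def val (i : F) (x : G9) : F := ((x.re : ℕ) : F) + ((x.im : ℕ) : F) * i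

theorem cast_add (a b : Fin 3) : (((a + b : Fin 3) : ℕ) : F) = ((a : ℕ) : F) + ((b : ℕ) : F) := by
  rw [← Nat.cast_add, CharP.natCast_eq_natCast F 3, Fin.val_add]
  exact Nat.mod_mod _ _

theorem cast_mul (a b : Fin 3) : (((a * b : Fin 3) : ℕ) : F) = ((a : ℕ) : F) * ((b : ℕ) : F) := by
  rw [← Nat.cast_mul, CharP.natCast_eq_natCast F 3, Fin.val_mul]
  exact Nat.mod_mod _ _

theorem cast_sub (a b : Fin 3) : (((a - b : Fin 3) : ℕ) : F) = ((a : ℕ) : F) - ((b : ℕ) : F) := by
  rw [eq_sub_iff_add_eq, ← cast_add, sub_add_cancel]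

theorem val_add (x y : G9) : val i (G9.add x y) = val i x + val i y := by
  simp only [val, G9.add, cast_add]; ring

theorem val_mul (hi : i * i = -1) (x y : G9) : val i (G9.mul x y) = val i x * val i y := by
  simp only [val, G9.mul, cast_add, cast_sub, cast_mul]
  linear_combination -(((x.im : ℕ) : F) * ((y.im : ℕ) : F)) * hi

theorem val_one : val i G9.one = 1 := by simp [val, G9.one]

theorem val_zero : val i G9.zero = 0 := by simp [val, G9.zero]

theorem bar_eq : ∀ a b : Fin 3, G9.bar ⟨a, b⟩ = G9.mul ⟨a, b⟩ (G9.mul ⟨a, b⟩ ⟨a, b⟩) := by decide +kernel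

theorem val_bar (hi : i * i = -1) (x : G9) : val i (G9.bar x) = val i x ^ 3 := by
  rw [show G9.bar x = _ from bar_eq x.re x.im, val_mul hi, val_mul hi]; ring

/-- The matrix of an `M9`. -/
def toMatrix9 (i : F) (m : M9) : Matrix (Fin 3) (Fin 3) F := fun r s => val i (m.get r s)

theorem toMatrix9_mul (hi : i * i = -1) (m n : M9) :
    toMatrix9 i (mul9 m n) = toMatrix9 i m * toMatrix9 i n := by
  ext r s
  rw [Matrix.mul_apply, Fin.sum_univ_three]
  fin_cases r <;> fin_cases s <;>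
    simp [toMatrix9, M9.get, V9.get, mul9, rowMul, dot, val_add, val_mul hi]

theorem toMatrix9_id : toMatrix9 i id9 = 1 := by
  ext r s
  fin_cases r <;> fin_cases s <;> simp [toMatrix9, M9.get, V9.get, id9, val_one, val_zero]

theorem val_two : val i (⟨2, 0⟩ : G9) = -1 := by
  have h3 : (3 : F) = 0 := by
    have h := CharP.cast_eq_zero F 3
    simpa using h
  simp [val]
  linear_combination h3

theorem det_toMatrix9 (hi : i * i = -1) (m : M9) : (toMatrix9 i m).det = val i (det9 m) := by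
  rw [Matrix.det_fin_three]
  simp [toMatrix9, M9.get, V9.get, det9, val_add, val_mul hi, val_two]
  ring

variable (hi : i * i = -1)

/-- The image of an element of `SL(2, 7)`. -/
def im9 (g : SpecialLinearGroup (Fin 2) (ZMod 7)) : M9 := img (g.1 0 0) (g.1 0 1) (g.1 1 0) (g.1 1 1)

theorem check_of (g : SpecialLinearGroup (Fin 2) (ZMod 7)) :
    check (g.1 0 0) (g.1 0 1) (g.1 1 0) (g.1 1 1) = true := check_all _ _ _ _

theorem facts (g : SpecialLinearGroup (Fin 2) (ZMod 7)) :
    (img (g.1 0 0) (g.1 0 0 + g.1 0 1) (g.1 1 0) (g.1 1 0 + g.1 1 1) = mul9 (im9 g) (img 1 1 0 1) ∧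
      img (6 * g.1 0 1 : ZMod 7) (g.1 0 0) (6 * g.1 1 1 : ZMod 7) (g.1 1 0) = mul9 (im9 g) (img 0 1 6 0) ∧
      det9 (im9 g) = G9.one) ∧
    (herm (im9 g).a (im9 g).a = G9.one ∧ herm (im9 g).b (im9 g).b = G9.one ∧
      herm (im9 g).c (im9 g).c = G9.one) ∧
    (herm (im9 g).a (im9 g).b = G9.zero ∧ herm (im9 g).a (im9 g).c = G9.zero ∧
      herm (im9 g).b (im9 g).c = G9.zero) := by
  have h := check_of g
  have hd : (g.1 0 0 : Fin 7) * g.1 1 1 - g.1 0 1 * g.1 1 0 = 1 := by
    have := g.2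
    rw [Matrix.det_fin_two] at this
    exact this
  simp only [check, Bool.or_eq_true, Bool.and_eq_true, decide_eq_true_eq, Bool.not_eq_true',
    decide_eq_false_iff_not] at h
  rcases h with h | h
  · exact absurd hd h
  · obtain ⟨⟨⟨⟨⟨⟨⟨⟨h1, h2⟩, h3⟩, h4⟩, h5⟩, h6⟩, h7⟩, h8⟩, h9⟩ := h
    exact ⟨⟨h1, h2, h3⟩, ⟨h4, h5, h6⟩, h7, h8, h9⟩

theorem entry_mul (h g : SpecialLinearGroup (Fin 2) (ZMod 7)) (r s : Fin 2) :
    (h * g).1 r s = h.1 r 0 * g.1 0 s + h.1 r 1 * g.1 1 s := by
  show (h.1 * g.1) r s = _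
  rw [Matrix.mul_apply, Fin.sum_univ_two]

/-- Right multiplication by `g` is respected. -/
def good (i : F) : Set (SpecialLinearGroup (Fin 2) (ZMod 7)) :=
  {g | ∀ h, toMatrix9 i (im9 (h * g)) = toMatrix9 i (im9 h) * toMatrix9 i (im9 g)}

theorem im9_one : im9 (1 : SpecialLinearGroup (Fin 2) (ZMod 7)) = id9 := img_center.2

include hi in
theorem upper_good : SpecialLinearGroup.transvection (show (0 : Fin 2) ≠ 1 by decide) (1 : ZMod 7) ∈ good i := by
  intro h
  rw [← toMatrix9_mul hi]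
  congr 1
  refine Eq.trans ?_ (((facts h).1.1).trans ?_)
  · simp only [im9, entry_mul]
    simp [SpecialLinearGroup.transvection, Matrix.transvection]
  · rfl

/-- The element `(0 1; -1 0)`. -/
def w7 : SpecialLinearGroup (Fin 2) (ZMod 7) := ⟨!![0, 1; 6, 0], by simp [Matrix.det_fin_two]; decide⟩

include hi in
theorem w7_good : w7 ∈ good i := by
  intro h
  rw [← toMatrix9_mul hi]
  congr 1
  refine Eq.trans ?_ (((facts h).1.2.1).trans ?_)
  · simp only [im9, entry_mul]
    simp [w7, mul_comm]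
  · rfl

include hi in
theorem good_mul {a b : SpecialLinearGroup (Fin 2) (ZMod 7)} (ha : a ∈ good i) (hb : b ∈ good i) :
    a * b ∈ good i := fun h => by
  rw [← mul_assoc, hb (h * a), ha h, hb a, mul_assoc]

include hi in
theorem good_all (g : SpecialLinearGroup (Fin 2) (ZMod 7)) : g ∈ good i := by
  let S : Submonoid (SpecialLinearGroup (Fin 2) (ZMod 7)) :=
    { carrier := good i
      one_mem' := fun h => by rw [mul_one, im9_one, toMatrix9_id, mul_one]
      mul_mem' := fun ha hb => good_mul hi ha hb }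
  let H : Subgroup (SpecialLinearGroup (Fin 2) (ZMod 7)) :=
    { S with
      inv_mem' := fun {a} ha => by
        have : a⁻¹ ∈ S := by
          rw [inv_eq_of_mul_eq_one_right (show a * a ^ (orderOf a - 1) = 1 by
            rw [← pow_succ', Nat.sub_add_cancel (orderOf_pos a), pow_orderOf_eq_one])]
          exact pow_mem (show a ∈ S from ha) _
        exact this }
  have hU : SpecialLinearGroup.transvection (show (0 : Fin 2) ≠ 1 by decide) (1 : ZMod 7) ∈ H := upper_good hi
  have hW : w7 ∈ H := w7_good hi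
  have htop : H = ⊤ := by
    refine CfsgLib.Linear.SL2_eq_top_of_gens H {1} CfsgLib.Linear.PSL2Seven.closure_one ?_
    rintro b rfl
    refine ⟨hU, ?_⟩
    have e : SpecialLinearGroup.transvection (show (1 : Fin 2) ≠ 0 by decide) (1 : ZMod 7) =
        w7 * (SpecialLinearGroup.transvection (show (0 : Fin 2) ≠ 1 by decide) (1 : ZMod 7))⁻¹ * w7⁻¹ := by
      rw [eq_mul_inv_iff_mul_eq, eq_mul_inv_iff_mul_eq]
      ext a b
      fin_cases a <;> fin_cases b <;>
        simp [w7, SpecialLinearGroup.transvection, Matrix.transvection, Matrix.mul_apply, Fin.sum_univ_two] <;>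
        decide
    rw [e]
    exact H.mul_mem (H.mul_mem hW (H.inv_mem hU)) (H.inv_mem hW)
  exact (htop.symm ▸ Subgroup.mem_top g : g ∈ H)

/-- The homomorphism to `SL(3)`. -/
def toSL3 : SpecialLinearGroup (Fin 2) (ZMod 7) →* SpecialLinearGroup (Fin 3) F where
  toFun g := ⟨toMatrix9 i (im9 g), by rw [det_toMatrix9 hi, (facts g).1.2.2, val_one]⟩
  map_one' := Subtype.ext (by show toMatrix9 i (im9 1) = 1; rw [im9_one, toMatrix9_id])
  map_mul' a b := Subtype.ext (good_all hi b a)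

include hi in
theorem isometry (g : SpecialLinearGroup (Fin 2) (ZMod 7)) (u v : Fin 3 → F) :
    Cfsg.hermForm 3 F 3 (toMatrix9 i (im9 g) *ᵥ u) (toMatrix9 i (im9 g) *ᵥ v) =
      Cfsg.hermForm 3 F 3 u v := by
  set A := toMatrix9 i (im9 g) with hA
  let σ : F →+* F := frobenius F 3
  have hrow : A * (A.map σ)ᵀ = 1 := by
    obtain ⟨-, ⟨p1, p2, p3⟩, q1, q2, q3⟩ := facts g
    have e1 : ∀ u w : V9, val i (herm u w) =
        val i u.a * val i w.a ^ 3 + val i u.b * val i w.b ^ 3 + val i u.c * val i w.c ^ 3 := fun u w => by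
      simp [herm, dot, val_add, val_mul hi, val_bar hi]


    have swap : ∀ u w : V9, val i (herm w u) = val i (herm u w) ^ 3 := fun u w => by
      have hperiod : ∀ x : G9, G9.bar (G9.bar x) = x := fun x => by simp [G9.bar]
      have h9 : ∀ x : G9, (val i x ^ 3) ^ 3 = val i x := fun x => by
        rw [← val_bar hi, ← val_bar hi, hperiod]
      rw [e1, e1, add_pow_char, add_pow_char, mul_pow, mul_pow, mul_pow, h9, h9, h9]
      ring
    have z3 : (0 : F) ^ 3 = 0 := zero_pow (by norm_num)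
    have c11 := congrArg (val i) p1
    have c22 := congrArg (val i) p2
    have c33 := congrArg (val i) p3
    have c12 := congrArg (val i) q1
    have c13 := congrArg (val i) q2
    have c23 := congrArg (val i) q3
    have c21 := (swap (im9 g).a (im9 g).b).trans (by rw [q1, val_zero, z3] : _ = (0 : F))
    have c31 := (swap (im9 g).a (im9 g).c).trans (by rw [q2, val_zero, z3] : _ = (0 : F))
    have c32 := (swap (im9 g).b (im9 g).c).trans (by rw [q3, val_zero, z3] : _ = (0 : F))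
    rw [e1, val_one] at c11 c22 c33
    rw [e1, val_zero] at c12 c13 c23
    rw [e1] at c21 c31 c32
    ext r s
    rw [Matrix.mul_apply, Fin.sum_univ_three]
    fin_cases r <;> fin_cases s <;>
      simp [hA, toMatrix9, M9.get, V9.get, σ, frobenius_def] <;> assumption
  have hcol : (A.map σ)ᵀ * A = 1 := mul_eq_one_comm.1 hrow
  have hf : ∀ u v : Fin 3 → F, Cfsg.hermForm 3 F 3 u v = u ⬝ᵥ (fun j => σ (v j)) := fun u v => rfl
  have hσ : (fun j => σ ((A *ᵥ v) j)) = A.map σ *ᵥ fun j => σ (v j) :=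
    funext fun j => RingHom.map_mulVec σ A v j
  rw [hf, hf, hσ, Matrix.mulVec_eq_sum, ← Matrix.mulVec_eq_sum, Matrix.dotProduct_mulVec,
    ← Matrix.mulVec_transpose, Matrix.mulVec_mulVec, hcol, Matrix.one_mulVec]

theorem norm_cases : ∀ a b : Fin 3, (a = 0 ∧ b = 0) ∨ G9.mul ⟨a, b⟩ (G9.bar ⟨a, b⟩) = G9.one ∨
    G9.mul ⟨a, b⟩ (G9.bar ⟨a, b⟩) = ⟨2, 0⟩ := by decide +kernel

theorem sub_cases : ∀ a b c d : Fin 3, G9.add ⟨a, b⟩ (G9.mul ⟨2, 0⟩ ⟨c, d⟩) = G9.zero → a = c ∧ b = d := by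
  decide +kernel

include hi in
theorem val_injective : Function.Injective (val i : G9 → F) := by
  have h0 : ∀ x : G9, val i x = 0 → x = G9.zero := by
    rintro ⟨a, b⟩ hx
    rcases norm_cases a b with ⟨rfl, rfl⟩ | h | h
    · rfl
    · have := congrArg (val i) h
      rw [val_mul hi, hx, zero_mul, val_one] at this
      exact absurd this zero_ne_one
    · have := congrArg (val i) h
      rw [val_mul hi, hx, zero_mul, val_two] at this
      exact absurd this.symm (neg_ne_zero.2 one_ne_zero)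
  rintro ⟨a, b⟩ ⟨c, d⟩ h
  obtain ⟨rfl, rfl⟩ := sub_cases a b c d (h0 _ (by rw [val_add, val_mul hi, val_two, h]; ring))
  rfl

include hi in
theorem toMatrix9_injective : Function.Injective (toMatrix9 i : M9 → Matrix (Fin 3) (Fin 3) F) := by
  rintro ⟨⟨a1, a2, a3⟩, ⟨b1, b2, b3⟩, ⟨c1, c2, c3⟩⟩ ⟨⟨x1, x2, x3⟩, ⟨y1, y2, y3⟩, ⟨z1, z2, z3⟩⟩ h
  have e := fun r s => val_injective hi (congrFun (congrFun h r) s)
  obtain rfl : a1 = x1 := e 0 0
  obtain rfl : a2 = x2 := e 0 1
  obtain rfl : a3 = x3 := e 0 2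
  obtain rfl : b1 = y1 := e 1 0
  obtain rfl : b2 = y2 := e 1 1
  obtain rfl : b3 = y3 := e 1 2
  obtain rfl : c1 = z1 := e 2 0
  obtain rfl : c2 = z2 := e 2 1
  obtain rfl : c3 = z3 := e 2 2
  rfl

theorem img_noncommute : mul9 (img 1 1 0 1) (img 0 1 6 0) ≠ mul9 (img 0 1 6 0) (img 1 1 0 1) := by
  decide +kernel

/-- The map into the unitary group. -/
def toSU : SpecialLinearGroup (Fin 2) (ZMod 7) →* Cfsg.SU 3 F 3 :=
  (toSL3 hi).codRestrict _ fun g u v => isometry hi g u v

include hi in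
theorem exists_embedding : ∃ φ : ProjectiveSpecialLinearGroup (Fin 2) (ZMod 7) →* Cfsg.PSU 3 F 3,
    Function.Injective φ := by
  have hc : Subgroup.center (SpecialLinearGroup (Fin 2) (ZMod 7)) ≤
      ((QuotientGroup.mk' (Subgroup.center (Cfsg.SU 3 F 3))).comp (toSU hi)).ker := by
    intro z hz
    obtain ⟨r, hr, hrz⟩ := Matrix.SpecialLinearGroup.mem_center_iff.1 hz
    have hr2 : r = 1 ∨ r = 6 := by
      rw [Fintype.card_fin] at hr
      exact (by decide +kernel : ∀ r : ZMod 7, r ^ 2 = 1 → r = 1 ∨ r = 6) r hr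
    have e : im9 z = id9 := by
      have h0 : ∀ a b : Fin 2, z.1 a b = Matrix.scalar (Fin 2) r a b := fun a b => by rw [hrz]
      rw [im9, h0, h0, h0, h0]
      rcases hr2 with rfl | rfl
      · simp only [Matrix.scalar_apply, Matrix.diagonal_apply_eq, Matrix.diagonal_apply_ne _ (show (0 : Fin 2) ≠ 1 by decide), Matrix.diagonal_apply_ne _ (show (1 : Fin 2) ≠ 0 by decide)]
        exact img_center.2
      · simp only [Matrix.scalar_apply, Matrix.diagonal_apply_eq, Matrix.diagonal_apply_ne _ (show (0 : Fin 2) ≠ 1 by decide), Matrix.diagonal_apply_ne _ (show (1 : Fin 2) ≠ 0 by decide)]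
        exact img_center.1
    have hz1 : toSU hi z = 1 := Subtype.ext (Subtype.ext (by
      show toMatrix9 i (im9 z) = 1
      rw [e, toMatrix9_id]))
    rw [MonoidHom.mem_ker, MonoidHom.comp_apply, hz1, map_one]
  let φ : ProjectiveSpecialLinearGroup (Fin 2) (ZMod 7) →* Cfsg.PSU 3 F 3 := QuotientGroup.lift _ _ hc
  haveI : IsSimpleGroup (ProjectiveSpecialLinearGroup (Fin 2) (ZMod 7)) :=
    CfsgLib.Linear.isSimpleGroup_PSL_fin 2 le_rfl (fun _ => by rw [Nat.card_zmod]; norm_num)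
  refine ⟨φ, (MonoidHom.ker_eq_bot_iff φ).1 ?_⟩
  rcases (inferInstance : φ.ker.Normal).eq_bot_or_eq_top with h | h
  · exact h
  exfalso
  let U : SpecialLinearGroup (Fin 2) (ZMod 7) :=
    SpecialLinearGroup.transvection (show (0 : Fin 2) ≠ 1 by decide) (1 : ZMod 7)
  have hU : toSU hi U ∈ Subgroup.center (Cfsg.SU 3 F 3) := by
    have h1 : φ (QuotientGroup.mk U) = 1 := MonoidHom.mem_ker.1 (h.symm ▸ Subgroup.mem_top _)
    exact (QuotientGroup.eq_one_iff _).1 h1
  have h2 := congrArg (fun x : Cfsg.SU 3 F 3 => (x : SpecialLinearGroup (Fin 3) F).1)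
    (Subgroup.mem_center_iff.1 hU (toSU hi w7))
  have hU9 : im9 U = img 1 1 0 1 := by
    simp [U, im9, SpecialLinearGroup.transvection, Matrix.transvection]
    rfl
  refine img_noncommute (toMatrix9_injective hi ?_)
  rw [toMatrix9_mul hi, toMatrix9_mul hi, ← hU9]
  exact h2.symm

end CfsgLib.SevenInU33
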